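import Cfsg.Agent.H55.PQ.Mult_m3
import Cfsg.Agent.Characters.GaloisBasic
import Cfsg.Agent.Characters.Core
import Mathlib.Analysis.SpecialFunctions.Complex.CircleAddChar
import Cfsg.Agent.Blocks.OrbitSum
import Cfsg.Agent.Blocks.CentralProduct
import Mathlib.GroupTheory.PGroup
import Cfsg.Agent.H754.PQ.Diag
import Cfsg.Agent.H967.CopMat
import Cfsg.Agent.H139.Cusp.Orth
import Mathlib.LinearAlgebra.Charpoly.ToMatrix
import Cfsg.Prelude.Def_LieTypes
import Cfsg.Prelude.Def_ChevB2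
import Cfsg.Agent.ChevalleyStructure.RootVec
import Cfsg.Agent.H834.Mov.Chev_m3
import Mathlib
import Cfsg.Agent.Nodes.RGDChev
import Cfsg.Agent.H129.RealT_m3
import Cfsg.Agent.H967.CopChev
import Cfsg.Agent.H967.FaChev
import Cfsg.Agent.ChevalleyStructure.OrderFinal
import Cfsg.Agent.ChevalleyStructure.CardCombAll
import Cfsg.Agent.ChevalleyStructure.CommOrbit
import Cfsg.Agent.ChevalleyStructure.W0E8
import Cfsg.Agent.Lib.FinFast
import Cfsg.Agent.H967.FaTw
import Cfsg.Agent.H701.TwChev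
import Cfsg.Agent.Nodes.RGDFoldSL
import Cfsg.Agent.ClassicalGeometry.NonsplitTorus
import Cfsg.Agent.ChevStructure.FieldMap
import Cfsg.Agent.S1025
import Cfsg.Prelude.Def_LieTwisted
import Cfsg.Agent.Lib.Refl
import Cfsg.Agent.H476.FieldOrth
import Cfsg.Prelude.Def_LieTypeChar
import Cfsg.Agent.Characters.Brauer
import Cfsg.Agent.Characters.Linear
import Cfsg.Agent.S1156
import Cfsg.Agent.S0331
import Cfsg.Agent.S1069
import Cfsg.Agent.OddRank.SzTits
import Cfsg.Agent.H288.BnWitt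
import Cfsg.Agent.H672.Over
import Cfsg.Agent.S4601
import Cfsg.Agent.H593.GlaubermanP
import Cfsg.Agent.H595.Solv
import Cfsg.Agent.H532.CopAct
import Cfsg.Agent.H558.CsBasic
import Cfsg.Agent.H675.Nd.Cliff
import Cfsg.Agent.H595.Conj
import Cfsg.Agent.CharactersDeep.FeitLinear
import Cfsg.Agent.H595.Central
import Cfsg.Agent.H595.Triple
import Cfsg.Agent.H672.RM.SM
import Cfsg.Agent.SignalizersComponents.CoprimeBasic
import Cfsg.Agent.H593.GlaubermanP2
import Cfsg.Agent.H672.Lin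
import Cfsg.Agent.CharactersDeep.PrimeIndex
import Cfsg.Agent.H672.Ext
import Cfsg.Agent.Blocks.CentralSylow
import Cfsg.Agent.Blocks.ExistsModular
import Cfsg.Agent.CharactersDeep.QuatSylow
import Cfsg.Agent.H676.RM.Grp
import Cfsg.Agent.H672.RM.Triple
import Cfsg.Agent.CharDeep.TripleCover
import Cfsg.Agent.H597.RelThompson
import Cfsg.Agent.FastGrp
import Cfsg.Agent.Prune
set_option linter.all false

section
prune_inst 0x7f00000000000000000000000000000000000000000000000000000000000000000000000000000000000000000000000000000000000000000000000000000000000000000000000000000000000000003fffffffffffffffffffffffffffbeffbdfbfeffff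

section
prune_inst 0xfce9f8eba881dfff7f7e2dfedddffc1080cfffa4dff90bffe0618f0b9f230009c52b8d09e000fe0e82401410a87803fb7eeeffe86fdc7ffffdfdf41ffbee4fe5f73508519080240f300fff03f0678e6f000000000000000000000000000000000200000000

-- part: H95/PQ/Congr_mg
section
prune_inst 0x20003004130000000001000000001e52c2000080000c000080810a4004812c0004020060050001114000000400340040001000000000000000200000011801800000000440c10000420000000080000000000000000000000000000000000000000000000
set_option linter.all false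
open scoped Cfsg.Agent.FastGrp

-- part: H95/PQ/NT
section
/-!
# S4981 [C1]: the trace trick in `ZMod (p ^ e)` (helper95)
-/

set_option autoImplicit false

universe u v

namespace Cfsg.Agent.H95.PQ

open Cfsg Finset

section nt

variable {p e : ℕ} [hp : Fact p.Prime]

/-- the map to `ZMod p` -/
noncomputable def red (p e : ℕ) : ZMod (p ^ (e + 1)) →+* ZMod p :=
  ZMod.castHom (dvd_pow_self p (Nat.succ_ne_zero e)) (ZMod p)

theorem red_eq_zero {a : ZMod (p ^ (e + 1))} (h : red p e a = 0) : ∃ t : ZMod (p ^ (e + 1)), a = (p : ZMod _) * t := by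
  obtain ⟨k, rfl⟩ := ZMod.natCast_zmod_surjective a
  rw [red, map_natCast, ZMod.natCast_eq_zero_iff] at h
  obtain ⟨t, rfl⟩ := h
  exact ⟨t, by push_cast; ring⟩

theorem red_p (p e : ℕ) : red p e (p : ZMod (p ^ (e + 1))) = 0 := by
  rw [red, map_natCast, ZMod.natCast_self]

/-- `1 + p t` is a unit -/
theorem isUnit_of_red {a : ZMod (p ^ (e + 1))} (h : red p e a ≠ 0) : IsUnit a := by
  obtain ⟨k, rfl⟩ := ZMod.natCast_zmod_surjective a
  rw [red, map_natCast, Ne, ZMod.natCast_eq_zero_iff] at h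
  rw [ZMod.isUnit_iff_coprime]
  exact Nat.Coprime.pow_right _ ((Nat.Prime.coprime_iff_not_dvd hp.out).2 h).symm

/-- units of `p`-power order are congruent to `1` -/
theorem red_unit {κ : (ZMod (p ^ (e + 1)))ˣ} {m : ℕ} (h : κ ^ p ^ m = 1) : red p e (κ : ZMod _) = 1 := by
  have h1 : (red p e (κ : ZMod _)) ^ p ^ m = 1 := by
    rw [← map_pow, ← Units.val_pow_eq_pow_val, h, Units.val_one, map_one]
  have h2 : ∀ (x : ZMod p) (k : ℕ), x ^ p ^ k = x := by
    intro x k
    induction k with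
    | zero => rw [pow_zero, pow_one]
    | succ k ih => rw [pow_succ, pow_mul, ih, ZMod.pow_card]
  rwa [h2] at h1

/-- an element killed by `p` -/
theorem exists_of_p_mul_eq_zero {w : ZMod (p ^ (e + 1))} (h : (p : ZMod _) * w = 0) (hw : w ≠ 0) :
    ∃ k : ℕ, (k : ZMod (p ^ (e + 1))) * w = ((p ^ e : ℕ) : ZMod _) := by
  obtain ⟨a, rfl⟩ := ZMod.natCast_zmod_surjective w
  have h1 : p ^ (e + 1) ∣ p * a := by
    rw [← ZMod.natCast_eq_zero_iff]; push_cast; exact_mod_cast h
  have h2 : p ^ e ∣ a := by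
    rw [pow_succ, mul_comm] at h1
    exact Nat.dvd_of_mul_dvd_mul_left hp.out.pos h1
  obtain ⟨r, rfl⟩ := h2
  have h3 : ¬ p ∣ r := by
    rintro ⟨s, rfl⟩
    apply hw
    rw [ZMod.natCast_eq_zero_iff]
    exact ⟨s, by ring⟩
  have h4 : Nat.Coprime r p := ((Nat.Prime.coprime_iff_not_dvd hp.out).2 h3).symm
  obtain ⟨k, -, hk⟩ := Nat.exists_mul_mod_eq_one_of_coprime h4 hp.out.one_lt
  refine ⟨k, ?_⟩
  have h5 : (r * k : ℕ) ≡ 1 [MOD p] := by
    unfold Nat.ModEq; rw [hk, Nat.mod_eq_of_lt hp.out.one_lt]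
  rw [← Nat.cast_mul, ZMod.natCast_eq_natCast_iff, pow_succ]
  have h6 := h5.mul_left' (p ^ e)
  rw [mul_one] at h6
  calc k * (p ^ e * r) = p ^ e * (r * k) := by ring
    _ ≡ p ^ e [MOD p ^ e * p] := h6

/-- `1 + κ + … + κ ^ (p - 1)` is `p` times a unit -/
theorem geom (hp2 : p ≠ 2) {κ : ZMod (p ^ (e + 1))} (h : red p e κ = 1) :
    ∃ u : ZMod (p ^ (e + 1)), IsUnit u ∧ ∑ i ∈ range p, κ ^ i = (p : ZMod _) * u := by
  obtain ⟨t, ht⟩ := red_eq_zero (p := p) (e := e) (a := κ - 1) (by rw [map_sub, h, map_one, sub_self])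
  have hκ : κ = 1 + (p : ZMod _) * t := by rw [← ht]; ring
  have h1 : ∀ i : ℕ, ∃ s : ZMod (p ^ (e + 1)), κ ^ i = 1 + (i : ZMod _) * ((p : ZMod _) * t) + (p : ZMod _) ^ 2 * s := by
    intro i
    induction i with
    | zero => exact ⟨0, by simp⟩
    | succ i ih =>
        obtain ⟨s, hs⟩ := ih
        refine ⟨s * κ + (i : ZMod _) * t ^ 2, ?_⟩
        rw [pow_succ κ i, hs]
        push_cast
        rw [hκ]
        ring
  choose s hs using h1
  have h2 : ∑ i ∈ range p, κ ^ i = (p : ZMod _) + ((∑ i ∈ range p, i : ℕ) : ZMod (p ^ (e + 1))) * ((p : ZMod _) * t) +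
      (p : ZMod _) ^ 2 * ∑ i ∈ range p, s i := by
    rw [Finset.sum_congr rfl fun i _ => hs i, Finset.sum_add_distrib, Finset.sum_add_distrib, ← Finset.mul_sum,
      ← Finset.sum_mul]
    simp
  obtain ⟨c, hc⟩ : p ∣ ∑ i ∈ range p, i := by
    rw [Finset.sum_range_id]
    obtain ⟨l, hl⟩ := hp.out.odd_of_ne_two hp2
    refine ⟨l, ?_⟩
    have h3 : p - 1 = 2 * l := by omega
    rw [h3, show p * (2 * l) = p * l * 2 from by ring, Nat.mul_div_cancel _ (by norm_num)]
  refine ⟨1 + (p : ZMod _) * ((c : ZMod _) * t + ∑ i ∈ range p, s i), ?_, ?_⟩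
  · apply isUnit_of_red
    rw [map_add, map_one, map_mul, red_p, zero_mul, add_zero]
    exact one_ne_zero
  · rw [h2, hc]
    push_cast
    ring

/-- a non-fixed point: a power of `κ` adds `p ^ e` -/
theorem exists_shift (hp2 : p ≠ 2) {κ : (ZMod (p ^ (e + 1)))ˣ} {m : ℕ} (hκ : κ ^ p ^ m = 1)
    {j : ZMod (p ^ (e + 1))} (hj : (κ : ZMod _) * j ≠ j) :
    ∃ l : ℕ, ((κ ^ l : (ZMod (p ^ (e + 1)))ˣ) : ZMod _) * j = j + ((p ^ e : ℕ) : ZMod _) := by
  classical
  -- the first power `κ ^ p ^ (r + 1)` fixing `j`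
  have h0 : ∃ r : ℕ, ((κ ^ p ^ r : (ZMod (p ^ (e + 1)))ˣ) : ZMod _) * j = j := ⟨m, by rw [hκ]; simp⟩
  obtain ⟨r, hr, hmin⟩ := Nat.find_spec h0 |> fun h => (⟨Nat.find h0, h, fun s hs => Nat.find_min h0 hs⟩ :
    ∃ r : ℕ, ((κ ^ p ^ r : (ZMod (p ^ (e + 1)))ˣ) : ZMod _) * j = j ∧
      ∀ s < r, ¬ ((κ ^ p ^ s : (ZMod (p ^ (e + 1)))ˣ) : ZMod _) * j = j)
  rcases r with _ | r
  · exact absurd (by simpa only [_root_.pow_zero, _root_.pow_one] using hr) hj
  have h1 := hmin r (Nat.lt_succ_self r)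
  set μ : (ZMod (p ^ (e + 1)))ˣ := κ ^ p ^ r with hμ
  have hμp : ((μ ^ p : (ZMod (p ^ (e + 1)))ˣ) : ZMod _) * j = j := by
    rw [hμ, ← pow_mul, ← pow_succ]; exact hr
  have hred : red p e (μ : ZMod _) = 1 := by
    apply red_unit (m := m)
    rw [hμ, ← pow_mul, mul_comm, pow_mul, hκ, one_pow]
  obtain ⟨u, hu, hgeo⟩ := geom hp2 hred
  set w : ZMod (p ^ (e + 1)) := ((μ : ZMod _) - 1) * j with hw
  have hw0 : w ≠ 0 := by
    intro h
    apply h1
    rw [hw, sub_mul, one_mul, sub_eq_zero] at h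
    exact h
  have hpw : (p : ZMod (p ^ (e + 1))) * w = 0 := by
    have h2 : ((μ : ZMod (p ^ (e + 1))) ^ p - 1) * j = 0 := by
      rw [sub_mul, one_mul, ← Units.val_pow_eq_pow_val, hμp, sub_self]
    rw [← geom_sum_mul (μ : ZMod (p ^ (e + 1))) p, hgeo] at h2
    have h3 : u * ((p : ZMod (p ^ (e + 1))) * w) = 0 := by
      rw [hw]; linear_combination h2
    exact (hu.mul_right_eq_zero).1 h3
  have hμw : (μ : ZMod (p ^ (e + 1))) * w = w := by
    obtain ⟨t, ht⟩ := red_eq_zero (p := p) (e := e) (a := (μ : ZMod _) - 1)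
      (by rw [map_sub, hred, map_one, sub_self])
    have h2 : ((μ : ZMod (p ^ (e + 1))) - 1) * w = 0 := by
      rw [ht, mul_right_comm, hpw, zero_mul]
    rw [sub_mul, one_mul, sub_eq_zero] at h2
    exact h2
  have hpow : ∀ k : ℕ, ((μ ^ k : (ZMod (p ^ (e + 1)))ˣ) : ZMod _) * j = j + (k : ZMod _) * w := by
    intro k
    induction k with
    | zero => simp
    | succ k ih =>
        rw [pow_succ' μ k, Units.val_mul, mul_assoc, ih, mul_add, mul_left_comm, hμw]
        have h2 : (μ : ZMod (p ^ (e + 1))) * j = j + w := by rw [hw]; ring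
        rw [h2]
        push_cast
        ring
  obtain ⟨k, hk⟩ := exists_of_p_mul_eq_zero hpw hw0
  refine ⟨p ^ r * k, ?_⟩
  rw [pow_mul, ← hμ, hpow k, hk]

end nt

section sum

variable {p : ℕ} [hp : Fact p.Prime]

/-- values of the standard character are algebraic integers -/
theorem isIntegral_std (n : ℕ) [NeZero n] (j : ZMod n) : IsIntegral ℤ (ZMod.stdAddChar j : ℂ) := by
  refine ⟨Polynomial.X ^ n - 1, Polynomial.monic_X_pow_sub_C 1 (NeZero.ne n), ?_⟩
  simp only [Polynomial.eval₂_sub, Polynomial.eval₂_pow, Polynomial.eval₂_X, Polynomial.eval₂_one]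
  rw [← AddChar.map_nsmul_eq_pow]
  simp

/-- **the trace trick** -/
theorem sum_std (hp2 : p ≠ 2) {e : ℕ} (c : ZMod (p ^ (e + 1)) → ℤ) (T : Set (ZMod (p ^ (e + 1)))ˣ)
    (hT : ∀ κ ∈ T, ∃ m : ℕ, κ ^ p ^ m = 1) (hc : ∀ κ ∈ T, ∀ j, c ((κ : ZMod _) * j) = c j)
    (hfix : ∀ j, (∀ κ ∈ T, (κ : ZMod (p ^ (e + 1))) * j = j) → (p : ℤ) ∣ c j) :
    ∃ z : AlgInt, ∑ j, (c j : ℂ) * ZMod.stdAddChar j = (p : ℂ) * (z : ℂ) := by
  classical
  set π : ZMod (p ^ (e + 1)) := ((p ^ e : ℕ) : ZMod (p ^ (e + 1))) with hπ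
  obtain ⟨Fx, hFx⟩ : ∃ Fx : ZMod (p ^ (e + 1)) → Prop, ∀ j, Fx j ↔ ∀ κ ∈ T, (κ : ZMod (p ^ (e + 1))) * j = j :=
    ⟨_, fun _ => Iff.rfl⟩
  have hpowc : ∀ κ ∈ T, ∀ (l : ℕ) (j : ZMod (p ^ (e + 1))),
      c (((κ ^ l : (ZMod (p ^ (e + 1)))ˣ) : ZMod _) * j) = c j := by
    intro κ hκ l
    induction l with
    | zero => intro j; simp
    | succ l ih => intro j; rw [pow_succ κ l, Units.val_mul, mul_assoc, ih, hc κ hκ]
  have hstep : ∀ j, ¬ Fx j → c (j + π) = c j ∧ ¬ Fx (j + π) := by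
    intro j hj
    rw [hFx] at hj
    simp only [not_forall] at hj
    obtain ⟨κ, hκ, hne⟩ := hj
    obtain ⟨m, hm⟩ := hT κ hκ
    obtain ⟨l, hl⟩ := exists_shift hp2 hm hne
    rw [← hπ] at hl
    refine ⟨by rw [← hl]; exact hpowc κ hκ l j, fun h => hne ?_⟩
    have h1 := (hFx _).1 h κ hκ
    rw [← hl, mul_left_comm] at h1
    exact (κ ^ l).isUnit.mul_left_cancel h1
  have hstep' : ∀ (j : ZMod (p ^ (e + 1))) (k : ℕ), ¬ Fx j → ¬ Fx (j + k * π) := by
    intro j k hj
    induction k with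
    | zero => simpa using hj
    | succ k ih =>
        have := (hstep _ ih).2
        push_cast
        rwa [add_mul, one_mul, ← add_assoc]
  have hpπ : (p : ZMod (p ^ (e + 1))) * π = 0 := by
    rw [hπ, ← Nat.cast_mul, ZMod.natCast_eq_zero_iff, pow_succ, mul_comm]
  have hiff : ∀ j, Fx (j + π) ↔ Fx j := by
    intro j
    constructor
    · intro h
      by_contra h1
      exact (hstep j h1).2 h
    · intro h
      by_contra h1
      refine hstep' (j + π) (p - 1) h1 ?_
      have h2 : j + π + ((p - 1 : ℕ) : ZMod (p ^ (e + 1))) * π = j := by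
        rw [add_assoc, ← one_add_mul, Nat.cast_sub hp.out.one_lt.le, Nat.cast_one, add_sub_cancel, hpπ, add_zero]
      rw [h2]; exact h
  -- the sum over the non-fixed points vanishes
  set X : ℂ := ∑ j, (if Fx j then 0 else (c j : ℂ) * ZMod.stdAddChar j) with hX
  have hX0 : X = 0 := by
    have h1 : X = ZMod.stdAddChar π * X := by
      conv_lhs => rw [hX, ← Equiv.sum_comp (Equiv.addRight π)]
      rw [hX, Finset.mul_sum]
      refine Finset.sum_congr rfl fun j _ => ?_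
      show (if Fx (j + π) then (0 : ℂ) else (c (j + π) : ℂ) * ZMod.stdAddChar (j + π)) = _
      by_cases h : Fx j
      · rw [if_pos ((hiff j).2 h), if_pos h, mul_zero]
      · rw [if_neg (fun h' => h ((hiff j).1 h')), if_neg h, (hstep j h).1, AddChar.map_add_eq_mul]
        ring
    have h2 : (ZMod.stdAddChar π : ℂ) ≠ 1 := by
      intro h
      rw [← (ZMod.stdAddChar (N := p ^ (e + 1))).map_zero_eq_one] at h
      have h3 := ZMod.injective_stdAddChar h
      rw [hπ, ZMod.natCast_eq_zero_iff] at h3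
      have h4 := Nat.le_of_dvd (pow_pos hp.out.pos e) h3
      have h5 : p ^ e < p ^ (e + 1) := Nat.pow_lt_pow_right hp.out.one_lt (Nat.lt_succ_self e)
      omega
    have h3 : (ZMod.stdAddChar π - 1 : ℂ) * X = 0 := by rw [sub_mul, one_mul, ← h1, sub_self]
    rcases mul_eq_zero.1 h3 with h4 | h4
    · exact absurd (sub_eq_zero.1 h4) h2
    · exact h4
  have hd : ∀ j, ∃ d : ℤ, Fx j → c j = p * d := by
    intro j
    by_cases h : Fx j
    · obtain ⟨d, hd⟩ := hfix j ((hFx j).1 h)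
      exact ⟨d, fun _ => hd⟩
    · exact ⟨0, fun h' => absurd h' h⟩
  choose d hd using hd
  refine ⟨⟨∑ j, (if Fx j then (d j : ℂ) * ZMod.stdAddChar j else 0), ?_⟩, ?_⟩
  · refine Subalgebra.sum_mem _ fun j _ => ?_
    split_ifs
    · exact Subalgebra.mul_mem _ (Subalgebra.intCast_mem _ (d j)) (isIntegral_std _ j)
    · exact Subalgebra.zero_mem _
  · have h1 : ∑ j, (c j : ℂ) * ZMod.stdAddChar j =
        X + (p : ℂ) * ∑ j, (if Fx j then (d j : ℂ) * ZMod.stdAddChar j else 0) := by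
      rw [hX, Finset.mul_sum, ← Finset.sum_add_distrib]
      refine Finset.sum_congr rfl fun j _ => ?_
      by_cases h : Fx j
      · rw [if_pos h, if_pos h, hd j h]; push_cast; ring
      · rw [if_neg h, if_neg h]; ring
    rw [h1, hX0, zero_add]

end sum

end Cfsg.Agent.H95.PQ
end

-- part: H95/PQ/Mult
section
/-!
# S4981 [C1]: multiplicities of the restriction to a cyclic group (helper95)
-/

set_option autoImplicit false

universe u v

namespace Cfsg.Agent.H95.PQ

open Cfsg Finset Cfsg.Agent.H54.PQ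

/-- every `n`-th root of unity is a value of the standard character -/
theorem exists_std {n : ℕ} [NeZero n] {z : ℂ} (hz : z ^ n = 1) : ∃ j : ZMod n, z = ZMod.stdAddChar j := by
  have h1 := Complex.isPrimitiveRoot_exp n (NeZero.ne n)
  obtain ⟨i, -, hi⟩ := h1.eq_pow_of_pow_eq_one hz
  refine ⟨((i : ℤ) : ZMod n), ?_⟩
  rw [ZMod.stdAddChar_coe, ← hi, ← Complex.exp_nat_mul]
  congr 1
  push_cast
  ring

/-- multiplicities -/
theorem exists_mult {G : Type u} [Group G] {χ : G → ℂ} (hχ : IsCharacter G χ) (y : G) {n : ℕ} [NeZero n]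
    (hy : y ^ n = 1) : ∃ m : ZMod n → ℤ, ∀ k : ℕ, χ (y ^ k) = ∑ j, (m j : ℂ) * ZMod.stdAddChar (j * (k : ZMod n)) := by
  classical
  obtain ⟨d, μ, -, h1, h2⟩ := Cfsg.Agent.Characters.GaloisBasic.isCharacter_exists_fin_pow hχ y (NeZero.ne n) hy
  choose J hJ using fun i => exists_std (h1 i)
  refine ⟨fun j => ((univ.filter fun i => J i = j).card : ℤ), fun k => ?_⟩
  rw [h2 k, ← Finset.sum_fiberwise (s := univ) (g := J)]
  refine Finset.sum_congr rfl fun j _ => ?_
  rw [Finset.sum_congr rfl (g := fun _ => (ZMod.stdAddChar (j * (k : ZMod n)) : ℂ))]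
  · rw [Finset.sum_const, nsmul_eq_mul]
    simp only [_root_.Int.cast_natCast]
  · intro i hi
    rw [Finset.mem_filter] at hi
    rw [hJ i, hi.2, ← AddChar.map_nsmul_eq_pow, nsmul_eq_mul, mul_comm]

/-- uniqueness of the multiplicities -/
theorem mult_unique {n : ℕ} [NeZero n] {m m' : ZMod n → ℤ}
    (h : ∀ k : ZMod n, ∑ j, (m j : ℂ) * ZMod.stdAddChar (j * k) = ∑ j, (m' j : ℂ) * ZMod.stdAddChar (j * k)) :
    m = m' := by
  classical
  have key : ∀ (f : ZMod n → ℤ) (i : ZMod n), ∑ k, (∑ j, (f j : ℂ) * ZMod.stdAddChar (j * k)) * ZMod.stdAddChar (-i * k) =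
      (n : ℂ) * f i := by
    intro f i
    simp only [Finset.sum_mul]
    rw [Finset.sum_comm]
    have h1 : ∀ j, ∑ k, (f j : ℂ) * ZMod.stdAddChar (j * k) * ZMod.stdAddChar (-i * k) =
        (f j : ℂ) * (if j - i = 0 then (n : ℂ) else 0) := by
      intro j
      have h2 := AddChar.sum_mulShift (j - i) (ZMod.isPrimitive_stdAddChar n)
      rw [ZMod.card] at h2
      have h3 : (if j - i = 0 then (n : ℂ) else 0) = ∑ x, ZMod.stdAddChar (x * (j - i)) := by
        rw [h2]; split_ifs <;> simp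
      rw [h3, Finset.mul_sum]
      refine Finset.sum_congr rfl fun k _ => ?_
      rw [mul_assoc, ← AddChar.map_add_eq_mul]
      congr 2
      ring
    rw [Finset.sum_congr rfl fun j _ => h1 j]
    simp only [sub_eq_zero]
    simp [mul_comm]
  funext i
  have h1 : (n : ℂ) * (m i : ℂ) = (n : ℂ) * (m' i : ℂ) := by
    rw [← key m i, ← key m' i]
    refine Finset.sum_congr rfl fun k _ => ?_
    rw [h k]
  have h2 := mul_left_cancel₀ (by exact_mod_cast NeZero.ne n : (n : ℂ) ≠ 0) h1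
  exact_mod_cast h2

section group

variable {p : ℕ} [hp : Fact p.Prime] {S : Type u} [Group S] [Finite S]

omit [Finite S] in
theorem isConj_iterate {a : MulAut S} {y : S} {k : ℕ} (h : IsConj (a y) (y ^ k)) (l : ℕ) :
    IsConj ((a ^ l) y) (y ^ (k ^ l)) := by
  induction l with
  | zero => rw [pow_zero, pow_zero, pow_one]; exact IsConj.refl _
  | succ l ih =>
      have h1 : (a ^ (l + 1)) y = a ((a ^ l) y) := by rw [pow_succ']; rfl
      have h2 : IsConj (a ((a ^ l) y)) (a (y ^ (k ^ l))) := (a : S →* S).map_isConj ih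
      rw [h1]
      refine h2.trans ?_
      rw [map_pow, pow_succ', pow_mul]
      obtain ⟨c, hc⟩ := isConj_iff.1 h
      rw [isConj_iff]
      exact ⟨c, by rw [← conj_pow, hc]⟩

/-- Lemma K: the exponent can be chosen of `p`-power order -/
theorem exists_kappa {A : Subgroup (MulAut S)} (hA : IsPGroup p A) {y : S} {e : ℕ} (hy : orderOf y = p ^ (e + 1))
    (hpow : PowA A y) {a : MulAut S} (ha : a ∈ A) :
    ∃ κ : (ZMod (p ^ (e + 1)))ˣ, (∃ m : ℕ, κ ^ p ^ m = 1) ∧ IsConj (a y) (y ^ (κ : ZMod (p ^ (e + 1))).val) := by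
  obtain ⟨k, hk⟩ := hpow a ha
  have hcop : Nat.Coprime k (p ^ (e + 1)) := by
    have h1 : orderOf (a y) = orderOf y := orderOf_injective (a : S →* S) a.injective y
    obtain ⟨c, hc⟩ := isConj_iff.1 hk
    have h2 : orderOf (y ^ k) = orderOf y := by
      rw [← hc, ← h1]
      exact orderOf_injective (MulAut.conj c : S →* S) (MulAut.conj c).injective (a y)
    rw [orderOf_pow, hy, Nat.div_eq_self] at h2
    have h7 : Nat.gcd (p ^ (e + 1)) k = 1 := h2.resolve_left (pow_pos hp.out.pos _).ne'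
    rw [Nat.gcd_comm] at h7
    exact h7
  obtain ⟨m, hm⟩ := hA ⟨a, ha⟩
  have hm' : a ^ p ^ m = 1 := by
    have := congrArg Subtype.val hm
    simpa only [_root_.SubmonoidClass.mk_pow, _root_.OneMemClass.coe_one] using this
  have hcp : Nat.Coprime (p ^ m) (p - 1) := by
    apply Nat.Coprime.pow_left
    have h1 : p - 1 + 1 = p := Nat.sub_add_cancel hp.out.one_lt.le
    rw [Nat.coprime_comm]
    nth_rewrite 2 [← h1]
    exact (Nat.coprime_self_add_right).2 (Nat.coprime_one_right _)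
  obtain ⟨s, hs1, hs2⟩ := Nat.chineseRemainder hcp 1 0
  have has : a ^ s = a := by
    conv_rhs => rw [← pow_one a]
    rw [pow_eq_pow_iff_modEq]
    exact hs1.of_dvd (orderOf_dvd_of_pow_eq_one hm')
  have hds : p - 1 ∣ s := (Nat.modEq_zero_iff_dvd).1 hs2
  refine ⟨ZMod.unitOfCoprime k hcop ^ s, ⟨e, ?_⟩, ?_⟩
  · obtain ⟨t, ht⟩ := hds
    rw [← pow_mul, ht, show (p - 1) * t * p ^ e = (p ^ e * (p - 1)) * t from by ring,
      ← Nat.totient_prime_pow_succ hp.out, pow_mul, ZMod.pow_totient, one_pow]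
  · have h1 := isConj_iterate hk s
    rw [has] at h1
    have h2 : ((ZMod.unitOfCoprime k hcop ^ s : (ZMod (p ^ (e + 1)))ˣ) : ZMod (p ^ (e + 1))) = ((k ^ s : ℕ) : ZMod (p ^ (e + 1))) := by
      rw [Units.val_pow_eq_pow_val, ZMod.coe_unitOfCoprime, Nat.cast_pow]
    rw [h2, ZMod.val_natCast, ← hy, pow_mod_orderOf]
    exact h1

end group

end Cfsg.Agent.H95.PQ
end

-- part: H95/PQ/Congr
section
/-!
# S4981 [C1]: the congruence lemma (helper95)
-/

set_option autoImplicit false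

universe u v

namespace Cfsg.Agent.H95.PQ

open Cfsg Finset Cfsg.Agent.H54.PQ Cfsg.Agent.Characters

section act

variable {S : Type u} [Group S]

/-- the character `χ ∘ a⁻¹` -/
noncomputable def tw (a : MulAut S) (χ : IrrCharacter S) : IrrCharacter S :=
  ⟨fun s => (χ : S → ℂ) (a⁻¹ s), Core.isIrr_comp (a⁻¹ : MulAut S).toMonoidHom (a⁻¹ : MulAut S).surjective χ.2⟩

theorem tw_apply (a : MulAut S) (χ : IrrCharacter S) (s : S) : (tw a χ : S → ℂ) (a s) = (χ : S → ℂ) s := by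
  show (χ : S → ℂ) (a⁻¹ (a s)) = _
  rw [MulAut.inv_apply_self]

theorem tw_apply' (a : MulAut S) (χ : IrrCharacter S) (s : S) : (tw a χ : S → ℂ) s = (χ : S → ℂ) (a⁻¹ s) := rfl

/-- the action of a group of automorphisms on the irreducible characters -/
@[reducible] noncomputable def act (A : Subgroup (MulAut S)) : MulAction A (IrrCharacter S) where
  smul a χ := tw (a : MulAut S) χ
  one_smul χ := by
    apply Subtype.ext
    funext s
    show (χ : S → ℂ) ((1 : MulAut S)⁻¹ s) = (χ : S → ℂ) s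
    rw [inv_one]; rfl
  mul_smul a b χ := by
    apply Subtype.ext
    funext s
    show (χ : S → ℂ) (((a : MulAut S) * (b : MulAut S))⁻¹ s) = (χ : S → ℂ) ((b : MulAut S)⁻¹ ((a : MulAut S)⁻¹ s))
    rw [mul_inv_rev]; rfl

variable {p : ℕ} [hp : Fact p.Prime]

/-- `χ` is `A`-invariant -/
def Fxd (A : Subgroup (MulAut S)) (χ : IrrCharacter S) : Prop := ∀ a ∈ A, InvF a (χ : S → ℂ)

theorem fxd_iff {A : Subgroup (MulAut S)} {χ : IrrCharacter S} : Fxd A χ ↔ ∀ a ∈ A, tw a χ = χ := by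
  constructor
  · intro h a ha
    apply Subtype.ext
    funext s
    exact h a⁻¹ (A.inv_mem ha) s
  · intro h a ha s
    have h1 := h a ha
    conv_lhs => rw [← h1]
    exact tw_apply a χ s

theorem tw_mul (a b : MulAut S) (χ : IrrCharacter S) : tw (a * b) χ = tw a (tw b χ) := by
  apply Subtype.ext
  funext s
  show (χ : S → ℂ) ((a * b)⁻¹ s) = (χ : S → ℂ) (b⁻¹ (a⁻¹ s))
  rw [mul_inv_rev]; rfl

theorem tw_one (χ : IrrCharacter S) : tw 1 χ = χ := by
  apply Subtype.ext
  funext s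
  show (χ : S → ℂ) ((1 : MulAut S)⁻¹ s) = (χ : S → ℂ) s
  rw [inv_one]; rfl

theorem fxd_tw {A : Subgroup (MulAut S)} {χ : IrrCharacter S} {a : MulAut S} (ha : a ∈ A) :
    Fxd A (tw a χ) ↔ Fxd A χ := by
  rw [fxd_iff, fxd_iff]
  constructor
  · intro h b hb
    have h1 := h (a * b * a⁻¹) (A.mul_mem (A.mul_mem ha hb) (A.inv_mem ha))
    rw [← tw_mul, inv_mul_cancel_right, tw_mul] at h1
    have h2 := congrArg (tw a⁻¹) h1
    rwa [← tw_mul, inv_mul_cancel, tw_one, ← tw_mul, inv_mul_cancel, tw_one] at h2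
  · intro h b hb
    rw [← tw_mul, h _ (A.mul_mem hb ha), h _ ha]

/-- the weighted orbit sum: a function on `Irr S`, invariant under the `p`-group `A` and vanishing at the invariant
characters, has sum divisible by `p` -/
theorem sum_nf [Fintype (IrrCharacter S)] {M : Type v} [AddCommGroup M] {A : Subgroup (MulAut S)} (hA : IsPGroup p A)
    (f : IrrCharacter S → M) (hf : ∀ a ∈ A, ∀ χ, f (tw a χ) = f χ) (h0 : ∀ χ, Fxd A χ → f χ = 0) :
    ∃ z : M, ∑ χ, f χ = p • z := by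
  classical
  let := act A
  obtain ⟨z, hz⟩ := Cfsg.Agent.Blocks.OrbitSum.sum_eq_sum_fixed_add_smul (p := p) hA f (fun a χ => hf a a.2 χ)
  refine ⟨z, ?_⟩
  rw [hz, Finset.sum_eq_zero, zero_add]
  intro χ hχ
  rw [Finset.mem_filter] at hχ
  exact h0 χ (fxd_iff.2 fun a ha => hχ.2 ⟨a, ha⟩)

variable [Finite S]

/-- **the sum over the non-invariant characters is divisible by `p`** -/
theorem sum_nonfixed (hp2 : p ≠ 2) [Fintype (IrrCharacter S)] {A : Subgroup (MulAut S)} (hA : IsPGroup p A) {y : S}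
    {k : ℕ} (hy : orderOf y = p ^ k) (hpow : PowA A y) (M : IrrCharacter S → ℤ)
    (hM : ∀ a ∈ A, ∀ χ, M (tw a χ) = M χ) (h0 : ∀ χ, Fxd A χ → M χ = 0) :
    ∃ z : AlgInt, ∑ χ, (M χ : ℂ) * (χ : S → ℂ) y = (p : ℂ) * (z : ℂ) := by
  classical
  rcases k with _ | e
  · -- `y = 1`
    have hy1 : y = 1 := by rw [pow_zero] at hy; exact orderOf_eq_one_iff.1 hy
    subst hy1
    obtain ⟨z, hz⟩ := sum_nf hA (fun χ : IrrCharacter S => ((M χ : AlgInt) *
      (⟨(χ : S → ℂ) 1, Cfsg.Agent.Blocks.CentralProduct.isIntegral_irr χ.2 1⟩ : AlgInt)))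
      (fun a ha χ => by
        have h1 : (tw a χ : S → ℂ) 1 = (χ : S → ℂ) 1 := by rw [tw_apply', map_one]
        simp only [hM a ha χ, h1])
      (fun χ hχ => by rw [h0 χ hχ]; simp)
    refine ⟨z, ?_⟩
    have h2 := congrArg (fun t : AlgInt => (t : ℂ)) hz
    simp only [nsmul_eq_mul] at h2
    push_cast at h2
    exact h2
  · -- multiplicities
    have : NeZero (p ^ (e + 1)) := ⟨(pow_pos hp.out.pos _).ne'⟩
    have hyn : y ^ p ^ (e + 1) = 1 := by rw [← hy]; exact pow_orderOf_eq_one y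
    choose m hm using fun χ : IrrCharacter S => exists_mult (Core.isIrr_isCharacter χ.2) y hyn
    -- equivariance
    have hequiv : ∀ (a : MulAut S) (κ : (ZMod (p ^ (e + 1)))ˣ), IsConj (a y) (y ^ (κ : ZMod (p ^ (e + 1))).val) →
        ∀ χ j, m (tw a χ) j = m χ ((κ : ZMod (p ^ (e + 1))) * j) := by
      intro a κ hκ χ
      have h1 : (fun i => m (tw a χ) ((κ⁻¹ : (ZMod (p ^ (e + 1)))ˣ) * i)) = m χ := by
        apply mult_unique
        intro t
        obtain ⟨l, rfl⟩ := ZMod.natCast_zmod_surjective t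
        rw [← hm χ l]
        have h2 : (χ : S → ℂ) (y ^ l) = (tw a χ : S → ℂ) (y ^ ((κ : ZMod (p ^ (e + 1))).val * l)) := by
          rw [← tw_apply a χ (y ^ l), map_pow, pow_mul]
          obtain ⟨c, hc⟩ := isConj_iff.1 hκ
          rw [← hc, conj_pow]
          exact ((Core.isIrr_isClassFunction (tw a χ).2) _ c).symm
        rw [h2, hm (tw a χ)]
        rw [← Equiv.sum_comp (Units.mulLeft κ)]
        refine Finset.sum_congr rfl fun j _ => ?_
        simp only [Units.mulLeft_apply, Units.inv_mul_cancel_left]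
        congr 2
        push_cast
        rw [ZMod.natCast_zmod_val]
        ring
      intro j
      have h3 := congrFun h1 ((κ : ZMod (p ^ (e + 1))) * j)
      simp only [Units.inv_mul_cancel_left] at h3
      exact h3
    set c : ZMod (p ^ (e + 1)) → ℤ := fun j => ∑ χ, M χ * m χ j with hc
    set T : Set (ZMod (p ^ (e + 1)))ˣ := {κ | (∃ m : ℕ, κ ^ p ^ m = 1) ∧
      ∃ a ∈ A, IsConj (a y) (y ^ (κ : ZMod (p ^ (e + 1))).val)} with hT
    obtain ⟨z, hz⟩ := sum_std hp2 c T (fun κ hκ => hκ.1)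
      (by
        rintro κ ⟨-, a, ha, hκ⟩ j
        rw [hc]
        -- reindex by `tw a`
        let σ : Equiv.Perm (IrrCharacter S) :=
          { toFun := tw a
            invFun := tw a⁻¹
            left_inv := fun χ => by rw [← tw_mul, inv_mul_cancel, tw_one]
            right_inv := fun χ => by rw [← tw_mul, mul_inv_cancel, tw_one] }
        show ∑ χ, M χ * m χ ((κ : ZMod (p ^ (e + 1))) * j) = ∑ χ, M χ * m χ j
        rw [← Equiv.sum_comp σ fun χ => M χ * m χ j]
        refine Finset.sum_congr rfl fun χ _ => ?_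
        show _ = M (tw a χ) * m (tw a χ) j
        rw [hM a ha, hequiv a κ hκ])
      (by
        intro j hj
        obtain ⟨z, hz⟩ := sum_nf hA (fun χ : IrrCharacter S => M χ * m χ j)
          (fun a ha χ => by
            obtain ⟨κ, h1, h2⟩ := exists_kappa hA hy hpow ha
            simp only [hM a ha, hequiv a κ h2, hj κ ⟨h1, a, ha, h2⟩])
          (fun χ hχ => by simp only [h0 χ hχ, zero_mul])
        exact ⟨z, by rw [hc]; simpa only [_root_.Int.nsmul_eq_mul] using hz⟩)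
    refine ⟨z, ?_⟩
    rw [← hz]
    have h1 : ∀ χ : IrrCharacter S, (χ : S → ℂ) y = ∑ j, (m χ j : ℂ) * ZMod.stdAddChar j := by
      intro χ
      have h2 := hm χ 1
      rw [pow_one] at h2
      rw [h2]
      simp
    simp only [h1, Finset.mul_sum]
    rw [Finset.sum_comm]
    refine Finset.sum_congr rfl fun j _ => ?_
    rw [hc]
    push_cast
    rw [Finset.sum_mul]
    refine Finset.sum_congr rfl fun χ _ => ?_
    ring

/-- `p` divides `χ(x)` when `p` divides `χ(1)` but not `|S : C(x)|` -/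
theorem exists_dvd {χ : IrrCharacter S} (hd : p ∣ charDegree (χ : S → ℂ)) {x : S}
    (hx : ¬ p ∣ (Subgroup.centralizer ({x} : Set S)).index) : ∃ z : AlgInt, (χ : S → ℂ) x = (p : ℂ) * (z : ℂ) := by
  have h1 := Cfsg.Agent.Blocks.CentralProduct.isIntegral_centralChar χ.2 x
  have h2 := Cfsg.Agent.Blocks.CentralProduct.isIntegral_irr χ.2 x
  obtain ⟨n, hn0, hn⟩ := Core.isIrr_apply_one χ.2
  have h3 : charDegree (χ : S → ℂ) = n := by unfold charDegree; rw [hn]; simp
  rw [h3] at hd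
  obtain ⟨d, rfl⟩ := hd
  set N := (Subgroup.centralizer ({x} : Set S)).index with hN
  have h4 : (N : ℂ) * (χ : S → ℂ) x = (p : ℂ) * d * centralChar (χ : S → ℂ) x := by
    unfold centralChar
    rw [hn, ← hN]
    have h5 : ((p * d : ℕ) : ℂ) ≠ 0 := by exact_mod_cast hn0.ne'
    rw [← Nat.cast_mul, mul_div_cancel₀ _ h5]
  have hcop : Nat.gcd p N = 1 := (Nat.Prime.coprime_iff_not_dvd hp.out).2 hx
  have hbz : (1 : ℤ) = p * Nat.gcdA p N + N * Nat.gcdB p N := by
    rw [← Nat.gcd_eq_gcd_ab, hcop]; rfl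
  have hbz' : (1 : ℂ) = p * (Nat.gcdA p N : ℂ) + N * (Nat.gcdB p N : ℂ) := by exact_mod_cast hbz
  refine ⟨⟨(Nat.gcdA p N : ℂ) * (χ : S → ℂ) x + (Nat.gcdB p N : ℂ) * d * centralChar (χ : S → ℂ) x, ?_⟩, ?_⟩
  · exact Subalgebra.add_mem _ (Subalgebra.mul_mem _ (Subalgebra.intCast_mem _ _) h2)
      (Subalgebra.mul_mem _ (Subalgebra.mul_mem _ (Subalgebra.intCast_mem _ _) (Subalgebra.natCast_mem _ _)) h1)
  · show _ = (p : ℂ) * ((Nat.gcdA p N : ℂ) * (χ : S → ℂ) x + (Nat.gcdB p N : ℂ) * d * centralChar (χ : S → ℂ) x)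
    calc (χ : S → ℂ) x = 1 * (χ : S → ℂ) x := (one_mul _).symm
      _ = (p * (Nat.gcdA p N : ℂ) + N * (Nat.gcdB p N : ℂ)) * (χ : S → ℂ) x := by rw [← hbz']
      _ = p * (Nat.gcdA p N : ℂ) * (χ : S → ℂ) x + (Nat.gcdB p N : ℂ) * (N * (χ : S → ℂ) x) := by ring
      _ = _ := by rw [h4]; ring

/-- **the congruence lemma** (S4981, C1) -/
theorem congr_main (hp2 : p ≠ 2) {A Φ : Subgroup (MulAut S)} (hA : IsPGroup p A) (hinv : InvHyp p A Φ) {x : S}
    (hx : PCent p x) (hpow : PowA A x) {β : S → ℂ} (hβ : IsGeneralizedCharacter S β) (hβA : ∀ a ∈ A, InvF a β)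
    {f : MulAut S} (hf : f ∈ Φ) (hpow' : PowA A (f x)) : ∃ z : AlgInt, β x - β (f x) = (p : ℂ) * (z : ℂ) := by
  classical
  have hfin : Finite (IrrCharacter S) := Core.finite_irr
  have hft : Fintype (IrrCharacter S) := Fintype.ofFinite _
  have hftS : Fintype S := Fintype.ofFinite _
  obtain ⟨M, hM⟩ := Core.isGeneralizedCharacter_iff.1 hβ
  obtain ⟨⟨k, hk⟩, hidx⟩ := hx
  -- the multiplicities are `A`-invariant
  have hMinv : ∀ a ∈ A, ∀ χ, M (tw a χ) = M χ := by
    intro a ha χ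
    let σ : Equiv.Perm (IrrCharacter S) :=
      { toFun := tw a
        invFun := tw a⁻¹
        left_inv := fun χ => by rw [← tw_mul, inv_mul_cancel, tw_one]
        right_inv := fun χ => by rw [← tw_mul, mul_inv_cancel, tw_one] }
    have h1 : (∑ ψ : IrrCharacter S, M (tw a ψ) • (ψ : S → ℂ)) = ∑ ψ : IrrCharacter S, M ψ • (ψ : S → ℂ) := by
      rw [← hM]
      funext s
      rw [← hβA a ha s]
      conv_rhs => rw [hM]
      rw [Finset.sum_apply, Finset.sum_apply, ← Equiv.sum_comp σ (fun ψ => (M ψ • (ψ : S → ℂ)) (a s))]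
      refine Finset.sum_congr rfl fun ψ _ => ?_
      show M (tw a ψ) • (ψ : S → ℂ) s = M (tw a ψ) • (tw a ψ : S → ℂ) (a s)
      rw [tw_apply]
    have h2 := Core.classInner_sum_zsmul_irr (fun ψ => M (tw a ψ)) χ
    rw [h1, Core.classInner_sum_zsmul_irr] at h2
    exact_mod_cast h2.symm
  -- the non-invariant part
  have hnf : ∀ y : S, orderOf y = p ^ k → PowA A y →
      ∃ z : AlgInt, ∑ χ, (((if Fxd A χ then 0 else M χ : ℤ)) : ℂ) * (χ : S → ℂ) y = (p : ℂ) * (z : ℂ) := by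
    intro y hy hpy
    refine sum_nonfixed hp2 hA hy hpy (fun χ => if Fxd A χ then 0 else M χ) (fun a ha χ => ?_) (fun χ hχ => ?_)
    · simp only [fxd_tw ha, hMinv a ha]
    · simp only [if_pos hχ]
  obtain ⟨z1, hz1⟩ := hnf x hk hpow
  obtain ⟨z2, hz2⟩ := hnf (f x) (by rw [← hk]; exact orderOf_injective (f : S →* S) f.injective x) hpow'
  -- the invariant part
  have hfx : ∀ χ : IrrCharacter S, ∃ z : AlgInt, Fxd A χ → (χ : S → ℂ) x - (χ : S → ℂ) (f x) = (p : ℂ) * (z : ℂ) := by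
    intro χ
    by_cases hd : p ∣ charDegree (χ : S → ℂ)
    · obtain ⟨w1, hw1⟩ := exists_dvd hd hidx
      have hd' : p ∣ charDegree (tw f⁻¹ χ : S → ℂ) := by
        have h1 : charDegree (tw f⁻¹ χ : S → ℂ) = charDegree (χ : S → ℂ) := by
          unfold charDegree
          rw [tw_apply', map_one]
        rwa [h1]
      obtain ⟨w2, hw2⟩ := exists_dvd hd' hidx
      rw [tw_apply', inv_inv] at hw2
      refine ⟨w1 - w2, fun _ => ?_⟩
      rw [hw1, hw2]
      push_cast
      ring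
    · refine ⟨0, fun hF => ?_⟩
      rw [hinv χ hd hF f hf x]
      simp only [_root_.sub_self, _root_.ZeroMemClass.coe_zero, _root_.MulZeroClass.mul_zero]
  choose w hw using hfx
  refine ⟨∑ χ, (if Fxd A χ then (M χ : AlgInt) * w χ else 0) + (z1 - z2), ?_⟩
  have hsplit : ∀ y : S, β y = ∑ χ, (if Fxd A χ then (M χ : ℂ) * (χ : S → ℂ) y else 0) +
      ∑ χ, (((if Fxd A χ then 0 else M χ : ℤ)) : ℂ) * (χ : S → ℂ) y := by
    intro y
    conv_lhs => rw [hM]
    rw [Finset.sum_apply, ← Finset.sum_add_distrib]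
    refine Finset.sum_congr rfl fun χ _ => ?_
    rw [Pi.smul_apply, zsmul_eq_mul]
    split_ifs <;> simp
  rw [hsplit x, hsplit (f x), hz1, hz2]
  have h3 : ∑ χ, (if Fxd A χ then (M χ : ℂ) * (χ : S → ℂ) x else 0) -
      ∑ χ, (if Fxd A χ then (M χ : ℂ) * (χ : S → ℂ) (f x) else 0) =
      (p : ℂ) * ((∑ χ, (if Fxd A χ then (M χ : AlgInt) * w χ else 0) : AlgInt) : ℂ) := by
    rw [← Finset.sum_sub_distrib]
    push_cast
    rw [Finset.mul_sum]
    refine Finset.sum_congr rfl fun χ _ => ?_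
    by_cases hF : Fxd A χ
    · simp only [if_pos hF]
      push_cast
      rw [← mul_sub, hw χ hF]
      ring
    · simp only [if_neg hF]
      simp only [_root_.sub_self, _root_.ZeroMemClass.coe_zero, _root_.MulZeroClass.mul_zero]
  push_cast at h3 ⊢
  linear_combination h3

end act

end Cfsg.Agent.H95.PQ
end

-- part: H754/PQ/Amb
section
/-!
# S4981: the ambient lemma (helper754)

`GG` a finite group with an abelian Sylow `p`-subgroup `T`, `φ` an automorphism of `GG` acting on `T` as a power map,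
`π : S' → S` surjective with central kernel of order prime to `p`, `ι : S' → GG` injective. Then every `p`-element `x` of
`S` satisfies `PCent p x`, and if `a` is an automorphism of `S` of `p`-power order with
`a (π y) = π y'`, `ι y' = s φ(ι y) s⁻¹`, then `a x` is conjugate to a power of `x`.

* `comm_of_isPGroup` : `p`-subgroups of `GG` are abelian;
* `exists_sylow_invariant` : an automorphism of `p`-power order fixes a Sylow `p`-subgroup;
* `pCent_of_ambient`, `powA_of_ambient` : the ambient lemma.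
-/

set_option autoImplicit false

namespace Cfsg.Agent.H754.PQ

open Subgroup Cfsg.Agent.H54.PQ
open scoped Pointwise

universe u v w

section general

theorem mem_smul_sylow {p : ℕ} {GG : Type w} [Group GG] {P : Sylow p GG} {g x : GG} :
    x ∈ ((g • P : Sylow p GG) : Subgroup GG) ↔ g⁻¹ * x * g ∈ P := by
  constructor
  · rintro ⟨z, hz, rfl⟩
    have h1 : g⁻¹ * (g * z * g⁻¹) * g = z := by group
    show g⁻¹ * (g * z * g⁻¹) * g ∈ P
    rw [h1]
    exact hz
  · intro h
    refine ⟨_, h, ?_⟩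
    show g * (g⁻¹ * x * g) * g⁻¹ = x
    group

variable {p : ℕ} [hp : Fact p.Prime]

/-- If some Sylow `p`-subgroup is abelian then all `p`-subgroups are. -/
theorem comm_of_isPGroup {GG : Type w} [Group GG] [Finite GG] (T : Sylow p GG)
    (hT : ∀ x ∈ T, ∀ y ∈ T, x * y = y * x) {H : Subgroup GG} (hH : IsPGroup p H) {x y : GG} (hx : x ∈ H)
    (hy : y ∈ H) : x * y = y * x := by
  obtain ⟨P, hP⟩ := hH.exists_le_sylow
  obtain ⟨g, hg⟩ := MulAction.exists_smul_eq GG T P
  have key : ∀ z ∈ H, g⁻¹ * z * g ∈ T := by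
    intro z hz
    rw [← mem_smul_sylow, hg]
    exact hP hz
  have h := hT _ (key x hx) _ (key y hy)
  have h1 : g⁻¹ * (x * y) * g = g⁻¹ * (y * x) * g := by
    calc g⁻¹ * (x * y) * g = (g⁻¹ * x * g) * (g⁻¹ * y * g) := by group
      _ = (g⁻¹ * y * g) * (g⁻¹ * x * g) := h
      _ = g⁻¹ * (y * x) * g := by group
  exact mul_left_cancel (mul_right_cancel h1)

/-- An automorphism of `p`-power order leaves some Sylow `p`-subgroup invariant. -/
theorem exists_sylow_invariant {S : Type u} [Group S] [Finite S] {a : MulAut S} {j : ℕ} (ha : a ^ p ^ j = 1) :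
    ∃ R : Sylow p S, ∀ x ∈ R, a x ∈ R := by
  have h1 : IsPGroup p (zpowers a) := by
    rw [IsPGroup.iff_orderOf]
    rintro ⟨b, hb⟩
    obtain ⟨k, hk⟩ := mem_zpowers_iff.1 hb
    have h2 : b ^ p ^ j = 1 := by
      rw [← hk, ← zpow_natCast, ← zpow_mul, mul_comm, zpow_mul, zpow_natCast, ha, one_zpow]
    obtain ⟨m, _, hm⟩ := (Nat.dvd_prime_pow hp.out).1 (orderOf_dvd_of_pow_eq_one h2)
    exact ⟨m, by rw [Subgroup.orderOf_mk]; exact hm⟩
  have h2 : ¬ p ∣ Nat.card (Sylow p S) := not_dvd_card_sylow p S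
  obtain ⟨R, hR⟩ := h1.nonempty_fixed_point_of_prime_not_dvd_card (α := Sylow p S) h2
  refine ⟨R, fun x hx => ?_⟩
  have h3 : (⟨a, mem_zpowers a⟩ : zpowers a) • R = R := hR _
  rw [← h3]
  exact ⟨x, hx, rfl⟩

/-- Burnside: if `T` is an abelian Sylow subgroup and `h` normalises `A₀ ≤ T` then some element of the normalizer of `T`
acts on `A₀` as `h`. -/
theorem burnside {GG : Type w} [Group GG] [Finite GG] (T : Sylow p GG) (hT : ∀ x ∈ T, ∀ y ∈ T, x * y = y * x)
    {A₀ : Subgroup GG} (hA : A₀ ≤ T) {h : GG} (hh : ∀ x ∈ A₀, h * x * h⁻¹ ∈ A₀) :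
    ∃ n ∈ normalizer ((T : Subgroup GG) : Set GG), ∀ x ∈ A₀, n * x * n⁻¹ = h * x * h⁻¹ := by
  have h1 : (T : Subgroup GG) ≤ centralizer (A₀ : Set GG) := fun t ht => by
    rw [mem_centralizer_iff]
    intro x hx
    exact hT x (hA hx) t ht
  have h2 : ((h⁻¹ • T : Sylow p GG) : Subgroup GG) ≤ centralizer (A₀ : Set GG) := by
    intro t ht
    rw [mem_smul_sylow, inv_inv] at ht
    rw [mem_centralizer_iff]
    intro x hx
    have h4 := hT _ (hA (hh x hx)) _ ht
    have h5 : h * (x * t) * h⁻¹ = h * (t * x) * h⁻¹ := by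
      calc h * (x * t) * h⁻¹ = (h * x * h⁻¹) * (h * t * h⁻¹) := by group
        _ = (h * t * h⁻¹) * (h * x * h⁻¹) := h4
        _ = h * (t * x) * h⁻¹ := by group
    exact mul_left_cancel (mul_right_cancel h5)
  obtain ⟨c, hc⟩ := MulAction.exists_smul_eq (centralizer (A₀ : Set GG)) ((h⁻¹ • T).subtype h2) (T.subtype h1)
  simp_rw [Sylow.smul_subtype, Subgroup.smul_def, smul_smul] at hc
  have h6 : ((c : GG) * h⁻¹) • T = T := Sylow.subtype_injective hc
  have h7 : (c : GG) * h⁻¹ ∈ normalizer ((T : Subgroup GG) : Set GG) := Sylow.smul_eq_iff_mem_normalizer.mp h6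
  refine ⟨((c : GG) * h⁻¹)⁻¹, inv_mem h7, fun x hx => ?_⟩
  have h8 : (c : GG)⁻¹ * x * c = x := by
    have h9 := (mem_centralizer_iff.1 c.2) x hx
    rw [mul_assoc, h9]
    group
  calc ((c : GG) * h⁻¹)⁻¹ * x * (((c : GG) * h⁻¹)⁻¹)⁻¹ = h * ((c : GG)⁻¹ * x * c) * h⁻¹ := by group
    _ = h * x * h⁻¹ := by rw [h8]

/-- Some power prime to `p` of an element of the normalizer of an abelian Sylow subgroup `T` centralises `T`. -/
theorem exists_pow_centralizes {GG : Type w} [Group GG] [Finite GG] (T : Sylow p GG)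
    (hT : ∀ x ∈ T, ∀ y ∈ T, x * y = y * x) {n : GG} (hn : n ∈ normalizer ((T : Subgroup GG) : Set GG)) :
    ∃ k : ℕ, ¬ p ∣ k ∧ ∀ x ∈ T, n ^ k * x * (n ^ k)⁻¹ = x := by
  have hf : orderOf n ≠ 0 := (isOfFinOrder_of_finite n).orderOf_pos.ne'
  obtain ⟨e, m, hm, hem⟩ := Nat.exists_eq_pow_mul_and_not_dvd hf p hp.out.ne_one
  refine ⟨m, hm, fun x hx => ?_⟩
  -- `n ^ m` is a `p`-element normalising `T`
  have h1 : (n ^ m) ^ p ^ e = 1 := by rw [← pow_mul, mul_comm, ← hem, pow_orderOf_eq_one]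
  have h2 : IsPGroup p (zpowers (n ^ m)) := by
    rw [IsPGroup.iff_orderOf]
    rintro ⟨b, hb⟩
    obtain ⟨k, hk⟩ := mem_zpowers_iff.1 hb
    have h2 : b ^ p ^ e = 1 := by
      rw [← hk, ← zpow_natCast, ← zpow_mul, mul_comm, zpow_mul, zpow_natCast, h1, one_zpow]
    obtain ⟨m', _, hm'⟩ := (Nat.dvd_prime_pow hp.out).1 (orderOf_dvd_of_pow_eq_one h2)
    exact ⟨m', by rw [Subgroup.orderOf_mk]; exact hm'⟩
  have h3 : n ^ m ∈ (T : Subgroup GG) := by
    have h4 := h2.inf_normalizer_sylow T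
    have h5 : n ^ m ∈ zpowers (n ^ m) ⊓ (T : Subgroup GG) := by
      rw [← h4]
      exact ⟨mem_zpowers _, pow_mem hn m⟩
    exact h5.2
  rw [hT _ h3 x hx, mul_inv_cancel_right]

/-- A `p`-element is conjugate to an element of a given Sylow subgroup. -/
theorem exists_conj_mem {GG : Type w} [Group GG] [Finite GG] (T : Sylow p GG) {x : GG}
    (hx : ∃ k : ℕ, x ^ p ^ k = 1) : ∃ g : GG, g * x * g⁻¹ ∈ T := by
  obtain ⟨k, hk⟩ := hx
  have h2 : IsPGroup p (zpowers x) := by
    rw [IsPGroup.iff_orderOf]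
    rintro ⟨b, hb⟩
    obtain ⟨i, hi⟩ := mem_zpowers_iff.1 hb
    have h2 : b ^ p ^ k = 1 := by
      rw [← hi, ← zpow_natCast, ← zpow_mul, mul_comm, zpow_mul, zpow_natCast, hk, one_zpow]
    obtain ⟨m', _, hm'⟩ := (Nat.dvd_prime_pow hp.out).1 (orderOf_dvd_of_pow_eq_one h2)
    exact ⟨m', by rw [Subgroup.orderOf_mk]; exact hm'⟩
  obtain ⟨P, hP⟩ := h2.exists_le_sylow
  obtain ⟨g, hg⟩ := MulAction.exists_smul_eq GG T P
  refine ⟨g⁻¹, ?_⟩
  rw [inv_inv, ← mem_smul_sylow, hg]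
  exact hP (mem_zpowers x)

/-- A `p`-subgroup can be conjugated into a given Sylow subgroup. -/
theorem exists_conj_le {GG : Type w} [Group GG] [Finite GG] (T : Sylow p GG) {H : Subgroup GG}
    (hH : IsPGroup p H) : ∃ g : GG, ∀ x ∈ H, g * x * g⁻¹ ∈ T := by
  obtain ⟨P, hP⟩ := hH.exists_le_sylow
  obtain ⟨g, hg⟩ := MulAction.exists_smul_eq GG T P
  refine ⟨g⁻¹, fun x hx => ?_⟩
  rw [inv_inv, ← mem_smul_sylow, hg]
  exact hP hx

end general

section ambient

set_option linter.unusedSectionVars false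

variable {p : ℕ} [hp : Fact p.Prime] {GG : Type w} [Group GG] [Finite GG] {S' : Type v} [Group S'] [Finite S']
  {S : Type u} [Group S] [Finite S]

/-- `S` has an abelian Sylow `p`-subgroup. -/
theorem exists_comm_sylow (T : Sylow p GG) (hT : ∀ x ∈ T, ∀ y ∈ T, x * y = y * x) (ι : S' →* GG)
    (hι : Function.Injective ι) (π : S' →* S) (hπ : Function.Surjective π) :
    ∃ R : Sylow p S, ∀ x ∈ R, ∀ y ∈ R, x * y = y * x := by
  obtain ⟨P⟩ : Nonempty (Sylow p S') := inferInstance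
  refine ⟨P.mapSurjective hπ, ?_⟩
  rintro _ ⟨x, hx, rfl⟩ _ ⟨y, hy, rfl⟩
  rw [← map_mul, ← map_mul]
  congr 1
  apply hι
  rw [map_mul, map_mul]
  exact comm_of_isPGroup T hT (H := (P : Subgroup S').map ι) (P.2.map ι) ⟨x, hx, rfl⟩ ⟨y, hy, rfl⟩

/-- **Ambient lemma, first part.** -/
theorem pCent_of_ambient (T : Sylow p GG) (hT : ∀ x ∈ T, ∀ y ∈ T, x * y = y * x) (ι : S' →* GG)
    (hι : Function.Injective ι) (π : S' →* S) (hπ : Function.Surjective π) {x : S}
    (hx : ∃ k : ℕ, x ^ p ^ k = 1) : PCent p x := by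
  obtain ⟨R, hR⟩ := exists_comm_sylow T hT ι hι π hπ
  obtain ⟨k, hk⟩ := hx
  obtain ⟨m, _, hm⟩ := (Nat.dvd_prime_pow hp.out).1 (orderOf_dvd_of_pow_eq_one hk)
  refine ⟨⟨m, hm⟩, fun hd => ?_⟩
  obtain ⟨g, hg⟩ := exists_conj_mem R ⟨k, hk⟩
  have h1 : ((g⁻¹ • R : Sylow p S) : Subgroup S) ≤ centralizer ({x} : Set S) := by
    intro y hy
    rw [mem_smul_sylow, inv_inv] at hy
    rw [mem_centralizer_singleton_iff]
    have h2 := hR _ hy _ hg
    have h3 : g * (y * x) * g⁻¹ = g * (x * y) * g⁻¹ := by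
      calc g * (y * x) * g⁻¹ = (g * y * g⁻¹) * (g * x * g⁻¹) := by group
        _ = (g * x * g⁻¹) * (g * y * g⁻¹) := h2
        _ = g * (x * y) * g⁻¹ := by group
    exact mul_left_cancel (mul_right_cancel h3)
  exact (g⁻¹ • R : Sylow p S).not_dvd_index (hd.trans (index_dvd_of_le h1))

/-- **Ambient lemma, second part.** -/
theorem powA_of_ambient (T : Sylow p GG) (hT : ∀ x ∈ T, ∀ y ∈ T, x * y = y * x) (ι : S' →* GG)
    (hι : Function.Injective ι) (π : S' →* S) (hπ : Function.Surjective π)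
    (hker : ∀ z ∈ π.ker, z ∈ center S') (hkp : ¬ p ∣ Nat.card π.ker) {a : MulAut S} {j : ℕ} (ha : a ^ p ^ j = 1)
    (φ : MulAut GG) (e : ℕ) (hφ : ∀ t ∈ T, φ t = t ^ e) (s : GG)
    (hs : ∀ y : S', ∃ y' : S', ι y' = s * φ (ι y) * s⁻¹ ∧ π y' = a (π y)) {x : S}
    (hx : ∃ k : ℕ, x ^ p ^ k = 1) : ∃ k : ℕ, IsConj (a x) (x ^ k) := by
  obtain ⟨R, hR⟩ := exists_sylow_invariant ha
  obtain ⟨R', hR'⟩ := Sylow.mapSurjective_surjective hπ p R
  have hmemR : ∀ y ∈ R', π y ∈ R := fun y hy => by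
    rw [← hR']
    exact ⟨y, hy, rfl⟩
  have hexR : ∀ x ∈ R, ∃ y ∈ R', π y = x := fun x hx => by
    rw [← hR'] at hx
    exact hx
  -- `y ↦ s φ(ι y) s⁻¹` leaves `R'` invariant
  have step : ∀ y ∈ R', ∃ y' ∈ R', ι y' = s * φ (ι y) * s⁻¹ ∧ π y' = a (π y) := by
    intro y hy
    obtain ⟨y', h1, h2⟩ := hs y
    obtain ⟨w, hw, hwy⟩ := hexR _ (hR _ (hmemR y hy))
    refine ⟨y', ?_, h1, h2⟩
    have hz : w⁻¹ * y' ∈ π.ker := by
      rw [MonoidHom.mem_ker, map_mul, map_inv, hwy, h2, inv_mul_cancel]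
    obtain ⟨m, hm⟩ := (IsPGroup.iff_card.1 R'.2)
    have hy0 : y ^ p ^ m = 1 := by
      have := pow_card_eq_one' (G := R') (x := ⟨y, hy⟩)
      rw [hm] at this
      exact congrArg Subtype.val this
    have hw0 : w ^ p ^ m = 1 := by
      have := pow_card_eq_one' (G := R') (x := ⟨w, hw⟩)
      rw [hm] at this
      exact congrArg Subtype.val this
    have hy'0 : y' ^ p ^ m = 1 := by
      apply hι
      rw [map_pow, h1, map_one, conj_pow, ← map_pow, ← map_pow, hy0, map_one, map_one, mul_one, mul_inv_cancel]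
    have hz0 : (w⁻¹ * y') ^ p ^ m = 1 := by
      have hc : Commute w (w⁻¹ * y') := (mem_center_iff.1 (hker _ hz) w)
      have h3 : w * (w⁻¹ * y') = y' := by group
      have h4 := hc.mul_pow (p ^ m)
      rw [h3, hy'0, hw0, one_mul] at h4
      exact h4.symm
    have hz1 : (w⁻¹ * y') ^ Nat.card π.ker = 1 := by
      have := pow_card_eq_one' (G := π.ker) (x := ⟨_, hz⟩)
      exact congrArg Subtype.val this
    have hz2 : w⁻¹ * y' = 1 := by
      have h3 : (Nat.card π.ker).Coprime (p ^ m) :=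
        Nat.Coprime.pow_right _ ((Nat.Prime.coprime_iff_not_dvd hp.out).2 hkp).symm
      have h4 := Nat.eq_one_of_dvd_coprimes h3 (orderOf_dvd_of_pow_eq_one hz1) (orderOf_dvd_of_pow_eq_one hz0)
      exact orderOf_eq_one_iff.1 h4
    have h5 : y' = w := (inv_mul_eq_one.1 hz2).symm
    rw [h5]
    exact hw
  obtain ⟨g, hg⟩ := exists_conj_le T (H := (R' : Subgroup S').map ι) (R'.2.map ι)
  have hgT : ∀ y ∈ R', g * ι y * g⁻¹ ∈ T := fun y hy => hg _ ⟨y, hy, rfl⟩
  let A₀ : Subgroup GG := ((R' : Subgroup S').map ι).map (MulAut.conj g).toMonoidHom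
  have hA₀ : A₀ ≤ T := by
    rintro _ ⟨_, ⟨y, hy, rfl⟩, rfl⟩
    exact hgT y hy
  have hmemA : ∀ y ∈ R', g * ι y * g⁻¹ ∈ A₀ := fun y hy => ⟨_, ⟨y, hy, rfl⟩, rfl⟩
  let h₀ : GG := g * s * (φ g)⁻¹
  have hact : ∀ y ∈ R', ∀ y' : S', ι y' = s * φ (ι y) * s⁻¹ → h₀ * (g * ι y * g⁻¹) ^ e * h₀⁻¹ = g * ι y' * g⁻¹ := by
    intro y hy y' h1
    rw [← hφ _ (hgT y hy), h1, map_mul, map_mul, map_inv]
    show g * s * (φ g)⁻¹ * (φ g * φ (ι y) * (φ g)⁻¹) * (g * s * (φ g)⁻¹)⁻¹ = _
    group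
  have hinj : Function.Injective (fun t : A₀ => (t ^ e : A₀)) := by
    intro t t' htt
    have h1 : ((t : GG)) ^ e = (t' : GG) ^ e := congrArg Subtype.val htt
    rw [← hφ _ (hA₀ t.2), ← hφ _ (hA₀ t'.2)] at h1
    exact Subtype.ext (φ.injective h1)
  have hnorm : ∀ t ∈ A₀, h₀ * t * h₀⁻¹ ∈ A₀ := by
    intro t ht
    obtain ⟨t', ht'⟩ := (Finite.surjective_of_injective hinj) ⟨t, ht⟩
    have h1 : (t' : GG) ^ e = t := congrArg Subtype.val ht'
    obtain ⟨_, ⟨y, hy, rfl⟩, h2⟩ := t'.2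
    have h3 : g * ι y * g⁻¹ = t' := h2
    obtain ⟨y', hy', h4, _⟩ := step y hy
    rw [← h1, ← h3, hact y hy y' h4]
    exact hmemA y' hy'
  obtain ⟨n, hn, hn2⟩ := burnside T hT hA₀ hnorm
  obtain ⟨k₀, hk₀, hk₀'⟩ := exists_pow_centralizes T hT hn
  -- iteration
  have iter : ∀ m : ℕ, ∀ y ∈ R', ∃ y' ∈ R', g * ι y' * g⁻¹ = n ^ m * (g * ι y * g⁻¹) ^ e ^ m * (n ^ m)⁻¹ ∧
      π y' = (a ^ m) (π y) := by
    intro m
    induction m with
    | zero =>
      intro y hy
      exact ⟨y, hy, by simp, by simp⟩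
    | succ m ih =>
      intro y hy
      obtain ⟨y₁, hy₁, h1, h2⟩ := ih y hy
      obtain ⟨y₂, hy₂, h3, h4⟩ := step y₁ hy₁
      refine ⟨y₂, hy₂, ?_, ?_⟩
      · rw [← hact y₁ hy₁ y₂ h3, ← hn2 _ (pow_mem (hmemA y₁ hy₁) e), h1, conj_pow, ← pow_mul, ← pow_succ,
          pow_succ' n m]
        group
      · rw [h4, h2, pow_succ', MulAut.mul_apply]
  have hk₀R : ∀ x ∈ R, (a ^ k₀) x = x ^ e ^ k₀ := by
    intro x hx
    obtain ⟨y, hy, rfl⟩ := hexR x hx
    obtain ⟨y', hy', h1, h2⟩ := iter k₀ y hy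
    rw [hk₀' _ (pow_mem (hgT y hy) _), conj_pow] at h1
    have h3 : ι y' = ι (y ^ e ^ k₀) := by
      rw [map_pow]
      exact mul_left_cancel (mul_right_cancel h1)
    rw [← h2, hι h3, map_pow]
  -- `a` itself
  have hcop : Nat.Coprime k₀ (p ^ j) :=
    Nat.Coprime.pow_right _ ((Nat.Prime.coprime_iff_not_dvd hp.out).2 hk₀).symm
  obtain ⟨k₁, hk₁⟩ : ∃ k₁ : ℕ, k₀ * k₁ ≡ 1 [MOD p ^ j] := by
    rcases Nat.eq_zero_or_pos j with rfl | hj
    · exact ⟨0, by rw [pow_zero]; exact Nat.modEq_one⟩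
    · obtain ⟨m, hm⟩ := Nat.exists_mul_mod_eq_one_of_coprime hcop (Nat.one_lt_pow hj.ne' hp.out.one_lt)
      exact ⟨m, by rw [Nat.ModEq, hm.2, Nat.mod_eq_of_lt (Nat.one_lt_pow hj.ne' hp.out.one_lt)]⟩
  have haj : a ^ (k₀ * k₁) = a := by
    have h1 : a ^ (k₀ * k₁) = a ^ 1 := by
      rw [← pow_mod_orderOf a (k₀ * k₁), ← pow_mod_orderOf a 1,
        (hk₁.of_dvd (orderOf_dvd_of_pow_eq_one ha) : k₀ * k₁ ≡ 1 [MOD orderOf a])]
    rw [h1, pow_one]
  have hfin : ∀ m : ℕ, ∀ x ∈ R, ((a ^ k₀) ^ m) x = x ^ (e ^ k₀) ^ m := by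
    intro m
    induction m with
    | zero => intro x _; simp
    | succ m ih =>
      intro x hx
      rw [pow_succ', MulAut.mul_apply, ih x hx, hk₀R _ (pow_mem hx _), ← pow_mul, ← pow_succ]
  obtain ⟨c, hc⟩ := exists_conj_mem R hx
  refine ⟨(e ^ k₀) ^ k₁, ?_⟩
  have h1 := hfin k₁ _ hc
  rw [← pow_mul, haj, map_mul, map_mul, map_inv, conj_pow] at h1
  have h2 : IsConj (a x) (a c * a x * (a c)⁻¹) := isConj_iff.2 ⟨a c, rfl⟩
  have h3 : IsConj (x ^ (e ^ k₀) ^ k₁) (c * x ^ (e ^ k₀) ^ k₁ * c⁻¹) := isConj_iff.2 ⟨c, rfl⟩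
  rw [h1] at h2
  exact h2.trans h3.symm

end ambient

end Cfsg.Agent.H754.PQ
end

-- part: H754/PQ/Eng
section
/-!
# S4981: the engine for the rows in cross characteristic (helper754)

`row_mult_of` : the multiplicities of the eigenvalues of the elements of order `p`; `row_small_of` : no example in small
dimension.
-/

set_option autoImplicit false

open Polynomial Cfsg Subgroup

open scoped MatrixGroups

namespace Cfsg.Agent.H754.PQ

open Cfsg.Agent.H54.PQ Cfsg.Agent.H967.CopMat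

universe u v w

/-- the conclusion of the congruence lemma C1 for `A` and `Φ` -/
def Congr (p : ℕ) {S : Type u} [Group S] (A Φ : Subgroup (MulAut S)) : Prop :=
  ∀ x : S, PCent p x → PowA A x → ∀ f ∈ Φ, PowA A (f x) → ∀ β : S → ℂ, IsGeneralizedCharacter S β →
    (∀ a ∈ A, InvF a β) → ∃ z : AlgInt, β x - β (f x) = (p : ℂ) * (z : ℂ)

/-! ### field automorphisms -/

/-- an automorphism of a finite field is a power of the Frobenius automorphism -/
theorem exists_frob (F : Type*) [Field F] [Finite F] (r : ℕ) [Fact r.Prime] [CharP F r] (τ : F ≃+* F) :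
    ∃ n : ℕ, ∀ x : F, τ x = x ^ r ^ n := by
  classical
  have := Fintype.ofFinite F
  let _ : Algebra (ZMod r) F := ZMod.algebra F r
  let σ : F ≃ₐ[ZMod r] F := AlgEquiv.ofRingEquiv (f := τ) (fun x => by
    have : (τ : F →+* F).comp (algebraMap (ZMod r) F) = algebraMap (ZMod r) F := Subsingleton.elim _ _
    exact RingHom.congr_fun this x)
  obtain ⟨n, hn⟩ := (FiniteField.bijective_frobeniusAlgEquivOfAlgebraic_pow (ZMod r) F).2 σ
  refine ⟨n, fun x => ?_⟩
  have h1 : τ x = σ x := rfl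
  rw [h1, ← hn]
  show (FiniteField.frobeniusAlgEquivOfAlgebraic (ZMod r) F ^ (n : ℕ)) x = _
  rw [AlgEquiv.coe_pow, FiniteField.coe_frobeniusAlgEquivOfAlgebraic_iterate, ZMod.card]

/-- the `n`-th power of the Frobenius automorphism -/
noncomputable def frobN (K : Type*) [Field K] [Finite K] (r : ℕ) [Fact r.Prime] [CharP K r] (n : ℕ) : K ≃+* K :=
  iterateFrobeniusEquiv K r n

theorem frobN_apply (K : Type*) [Field K] [Finite K] (r : ℕ) [Fact r.Prime] [CharP K r] (n : ℕ) (x : K) :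
    frobN K r n x = x ^ r ^ n := by
  rw [frobN, iterateFrobeniusEquiv_def]

/-! ### powers on `p`-th roots of unity -/

theorem pow_pow_eq {p : ℕ} [hp : Fact p.Prime] {M : Type*} [Group M] {x : M} (hx : x ^ p = 1) (e j : ℕ) :
    x ^ e ^ p ^ j = x ^ e := by
  rw [pow_eq_pow_iff_modEq]
  refine Nat.ModEq.of_dvd (orderOf_dvd_of_pow_eq_one hx) ?_
  rw [← ZMod.natCast_eq_natCast_iff]
  push_cast
  induction j with
  | zero => rw [pow_zero, pow_one]
  | succ j ih => rw [pow_succ, pow_mul, ih, ZMod.pow_card]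

theorem pow_pow_eq' {p : ℕ} [hp : Fact p.Prime] {K : Type*} [Field K] {x : K} (hx : x ^ p = 1) (e j : ℕ) :
    x ^ e ^ p ^ j = x ^ e := by
  have h0 : x ≠ 0 := by
    rintro rfl
    rw [zero_pow hp.out.ne_zero] at hx
    exact zero_ne_one hx
  have h1 := pow_pow_eq (M := Kˣ) (x := Units.mk0 x h0) (p := p) (Units.ext (by simpa only [_root_.Units.val_pow_eq_pow_val, _root_.Units.val_mk0, _root_.Units.val_one] using hx)) e j
  simpa only [_root_.Units.val_pow_eq_pow_val, _root_.Units.val_mk0] using congrArg Units.val h1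

theorem pow_eq_one_iff' {p : ℕ} [hp : Fact p.Prime] {M : Type*} [Monoid M] {x : M} (hx : x ^ p = 1) {c : ℕ}
    (hc : ¬ p ∣ c) : x ^ c = 1 ↔ x = 1 := by
  refine ⟨fun h => ?_, fun h => by rw [h, one_pow]⟩
  have h1 : x ^ Nat.gcd p c = 1 := pow_gcd_eq_one.2 ⟨hx, h⟩
  rwa [((Nat.Prime.coprime_iff_not_dvd hp.out).2 hc).gcd_eq_one, pow_one] at h1

/-- the number of ones does not change under the `c`-th power -/
theorem count_one_map {p : ℕ} [hp : Fact p.Prime] {K : Type*} [Field K] [DecidableEq K] {R : Multiset K}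
    (hR : ∀ μ ∈ R, μ ^ p = 1) {c : ℕ} (hc : ¬ p ∣ c) : (R.map (· ^ c)).count 1 = R.count 1 := by
  rw [Multiset.count_map]
  have h1 : R.filter (fun a => (1 : K) = a ^ c) = R.filter (fun a => (1 : K) = a) := by
    refine Multiset.filter_congr fun a ha => ?_
    rw [eq_comm, pow_eq_one_iff' (hR a ha) hc, eq_comm]
  rw [h1, Multiset.count_eq_card_filter_eq]

/-! ### the representation over the big field -/

section rep

variable {F : Type w} [Field F] {ι : Type} [Fintype ι] [DecidableEq ι] {S' : Type v} [Group S']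

/-- the eigenvalues over `K` -/
noncomputable def rts (ρ : S' →* GL ι F) (K : Type w) [Field K] [Algebra F K] (g : S') : Multiset K :=
  ((ρ g : Matrix ι ι F).charpoly.map (algebraMap F K)).roots

/-- the representation over `K` -/
noncomputable def rhoK (ρ : S' →* GL ι F) (K : Type w) [Field K] [Algebra F K] : Representation K S' (ι → K) :=
  ((Matrix.toLinAlgEquiv' : Matrix ι ι K ≃ₐ[K] _) : Matrix ι ι K →* _).comp
    ((Units.coeHom _).comp ((Matrix.GeneralLinearGroup.map (algebraMap F K)).comp ρ))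

theorem charpoly_rhoK (ρ : S' →* GL ι F) (K : Type w) [Field K] [Algebra F K] (g : S') :
    LinearMap.charpoly (rhoK ρ K g) = (ρ g : Matrix ι ι F).charpoly.map (algebraMap F K) := by
  have h1 : rhoK ρ K g = Matrix.toLin' ((ρ g : Matrix ι ι F).map (algebraMap F K)) := rfl
  rw [h1, Matrix.charpoly_toLin', Matrix.charpoly_map]

theorem roots_rhoK (ρ : S' →* GL ι F) (K : Type w) [Field K] [Algebra F K] (g : S') :
    (LinearMap.charpoly (rhoK ρ K g)).roots = rts ρ K g := by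
  rw [charpoly_rhoK]; rfl

theorem card_rts (ρ : S' →* GL ι F) {K : Type w} [Field K] [Algebra F K]
    (hsp : ∀ g : S', ((ρ g : Matrix ι ι F).charpoly.map (algebraMap F K)).Splits) (g : S') :
    Multiset.card (rts ρ K g) = Fintype.card ι := by
  rw [rts, ← (hsp g).natDegree_eq_card_roots, natDegree_map, Matrix.charpoly_natDegree_eq_dim]

theorem rhoK_pow_mem (ρ : S' →* GL ι F) (K : Type w) [Field K] [Algebra F K] {p : ℕ} {g : S'} (h : g ^ p = 1) :
    ∀ μ ∈ rts ρ K g, μ ^ p = 1 := by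
  intro μ hμ
  rw [← roots_rhoK] at hμ
  have h1 : Module.End.HasEigenvalue (rhoK ρ K g) μ := by
    rw [Module.End.hasEigenvalue_iff_isRoot_charpoly]
    exact Polynomial.isRoot_of_mem_roots hμ
  obtain ⟨v, hv⟩ := h1.exists_hasEigenvector
  have h2 : ((rhoK ρ K g) ^ p) v = μ ^ p • v := hv.pow_apply p
  rw [← map_pow, h, map_one, Module.End.one_apply] at h2
  have h3 : (1 - μ ^ p) • v = 0 := by rw [sub_smul, one_smul, ← h2, sub_self]
  rcases smul_eq_zero.1 h3 with h4 | h4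
  · exact (sub_eq_zero.1 h4).symm
  · exact absurd h4 hv.2

theorem charpoly_eq_of_rts (ρ : S' →* GL ι F) {K : Type w} [Field K] [Algebra F K]
    (hsp : ∀ g : S', ((ρ g : Matrix ι ι F).charpoly.map (algebraMap F K)).Splits) {g h : S'}
    (hgh : rts ρ K g = rts ρ K h) :
    (ρ g : Matrix ι ι F).charpoly.map (algebraMap F K) = (ρ h : Matrix ι ι F).charpoly.map (algebraMap F K) := by
  rw [(hsp g).eq_prod_roots_of_monic ((Matrix.charpoly_monic _).map _),
    (hsp h).eq_prod_roots_of_monic ((Matrix.charpoly_monic _).map _)]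
  change ((rts ρ K g).map (fun a => X - C a)).prod = ((rts ρ K h).map (fun a => X - C a)).prod
  rw [hgh]

/-- the eigenvalues of a semilinear conjugate -/
theorem rts_semi (ρ : S' →* GL ι F) {K : Type w} [Field K] [Finite K] [Algebra F K]
    (hsp : ∀ g : S', ((ρ g : Matrix ι ι F).charpoly.map (algebraMap F K)).Splits) {r : ℕ} [Fact r.Prime] [CharP F r]
    {σ : F ≃+* F} {n : ℕ} (hσ : ∀ x, σ x = x ^ r ^ n) {s : GL ι F} {y y' : S'}
    (h : ρ y' = s * Matrix.GeneralLinearGroup.map (σ : F →+* F) (ρ y) * s⁻¹) :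
    rts ρ K y' = (rts ρ K y).map (· ^ r ^ n) := by
  have hK : CharP K r := charP_of_injective_algebraMap (algebraMap F K).injective r
  have h1 : (ρ y' : Matrix ι ι F).charpoly = (ρ y : Matrix ι ι F).charpoly.map (σ : F →+* F) := by
    have e1 : (Matrix.GeneralLinearGroup.map (σ : F →+* F) (ρ y) : Matrix ι ι F) =
      (ρ y : Matrix ι ι F).map (σ : F →+* F) := rfl
    rw [h, Units.val_mul, Units.val_mul, Matrix.coe_units_inv, Matrix.charpoly_units_conj, e1, Matrix.charpoly_map]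
  have h2 : (algebraMap F K).comp (σ : F →+* F) = ((frobN K r n : K ≃+* K) : K →+* K).comp (algebraMap F K) := by
    ext x
    show algebraMap F K (σ x) = frobN K r n (algebraMap F K x)
    rw [frobN_apply, hσ, map_pow]
  rw [rts, h1, Polynomial.map_map, h2, ← Polynomial.map_map, (hsp y).roots_map]
  refine Multiset.map_congr rfl fun x _ => ?_
  exact frobN_apply K r n x

end rep

/-! ### semilinear automorphisms -/

section semi

variable {S : Type u} [Group S] {F : Type w} [Field F] {ι : Type} [Fintype ι] [DecidableEq ι]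
  {S' : Type v} [Group S']

/-- `a` lifts to `y ↦ s σ(y) s⁻¹` -/
def Semi (ρ : S' →* GL ι F) (π : S' →* S) (a : MulAut S) (σ : F ≃+* F) (s : GL ι F) : Prop :=
  ∀ y : S', ∃ y' : S', ρ y' = s * Matrix.GeneralLinearGroup.map (σ : F →+* F) (ρ y) * s⁻¹ ∧ π y' = a (π y)

variable [Finite S'] {ρ : S' →* GL ι F} {π : S' →* S}

omit [Finite S'] in
theorem eq_of_ker {p : ℕ} [hp : Fact p.Prime] (hker : ∀ z ∈ π.ker, z ∈ center S') (hkp : ¬ p ∣ Nat.card π.ker)
    {g h : S'} (hg : g ^ p = 1) (hh : h ^ p = 1) (hgh : π g = π h) : g = h := by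
  have h1 : g⁻¹ * h ∈ π.ker := by rw [MonoidHom.mem_ker, map_mul, map_inv, hgh, inv_mul_cancel]
  have h2 : Commute g (g⁻¹ * h) := mem_center_iff.1 (hker _ h1) g
  have h3 : (g * (g⁻¹ * h)) ^ p = g ^ p * (g⁻¹ * h) ^ p := h2.mul_pow p
  rw [mul_inv_cancel_left, hg, hh, one_mul] at h3
  have h4 : (g⁻¹ * h) ^ Nat.card π.ker = 1 := by
    have h5 : (⟨g⁻¹ * h, h1⟩ : π.ker) ^ Nat.card π.ker = 1 := pow_card_eq_one'
    exact congrArg Subtype.val h5
  have h5 : (g⁻¹ * h) ^ Nat.gcd p (Nat.card π.ker) = 1 := pow_gcd_eq_one.2 ⟨h3.symm, h4⟩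
  rw [((Nat.Prime.coprime_iff_not_dvd hp.out).2 hkp).gcd_eq_one, pow_one] at h5
  exact inv_mul_eq_one.1 h5

omit [Finite S'] in
theorem pow_semi {p : ℕ} (hρ : Function.Injective ρ) {σ : F ≃+* F} {s : GL ι F} {y y' : S'}
    (h : ρ y' = s * Matrix.GeneralLinearGroup.map (σ : F →+* F) (ρ y) * s⁻¹) (hy : y ^ p = 1) : y' ^ p = 1 := by
  apply hρ
  rw [map_pow, h, conj_pow, ← map_pow, ← map_pow, hy, map_one, map_one, mul_one, mul_inv_cancel]

omit [Finite S'] in
theorem semi_iter {p : ℕ} (hρ : Function.Injective ρ) {K : Type w} [Field K] [Finite K]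
    [Algebra F K] (hsp : ∀ g : S', ((ρ g : Matrix ι ι F).charpoly.map (algebraMap F K)).Splits) {r : ℕ}
    [Fact r.Prime] [CharP F r] {σ : F ≃+* F} {n : ℕ} (hσ : ∀ x, σ x = x ^ r ^ n) {s : GL ι F} {a : MulAut S}
    (ha : Semi ρ π a σ s) {y : S'} (hy : y ^ p = 1) (m : ℕ) :
    ∃ z : S', z ^ p = 1 ∧ π z = (a ^ m) (π y) ∧ rts ρ K z = (rts ρ K y).map (· ^ (r ^ n) ^ m) := by
  induction m with
  | zero =>
    refine ⟨y, hy, by rw [pow_zero, MulAut.one_apply], ?_⟩
    simp
  | succ m ih =>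
    obtain ⟨z, h1, h2, h3⟩ := ih
    obtain ⟨z', h4, h5⟩ := ha z
    refine ⟨z', pow_semi hρ h4 h1, ?_, ?_⟩
    · rw [h5, h2, pow_succ', MulAut.mul_apply]
    · rw [rts_semi ρ hsp hσ h4, h3, Multiset.map_map]
      refine Multiset.map_congr rfl fun x _ => ?_
      show (x ^ (r ^ n) ^ m) ^ r ^ n = x ^ (r ^ n) ^ (m + 1)
      rw [← pow_mul, ← pow_succ]

omit [Finite S'] in
/-- the characteristic polynomials are invariant under semilinear automorphisms of order a power of `p` -/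
theorem rts_invariant {p : ℕ} [hp : Fact p.Prime] (hρ : Function.Injective ρ)
    (hker : ∀ z ∈ π.ker, z ∈ center S') (hkp : ¬ p ∣ Nat.card π.ker) {K : Type w} [Field K] [Finite K]
    [Algebra F K] (hsp : ∀ g : S', ((ρ g : Matrix ι ι F).charpoly.map (algebraMap F K)).Splits) {r : ℕ}
    [Fact r.Prime] [CharP F r] {σ : F ≃+* F} {n : ℕ} (hσ : ∀ x, σ x = x ^ r ^ n) {s : GL ι F} {a : MulAut S}
    (ha : Semi ρ π a σ s) {j : ℕ} (haj : a ^ p ^ j = 1) {g h : S'} (hg : g ^ p = 1) (hh : h ^ p = 1)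
    (hgh : π h = a (π g)) : rts ρ K h = rts ρ K g := by
  obtain ⟨z, h1, h2, h3⟩ := semi_iter (K := K) hρ hsp hσ ha hg 1
  rw [pow_one, ← hgh] at h2
  have e1 : z = h := eq_of_ker hker hkp h1 hh h2
  obtain ⟨z', h4, h5, h6⟩ := semi_iter (K := K) hρ hsp hσ ha hg (p ^ j)
  rw [haj, MulAut.one_apply] at h5
  have e2 : z' = g := eq_of_ker hker hkp h4 hg h5
  rw [e1, pow_one] at h3
  rw [e2] at h6
  rw [h3]
  conv_rhs => rw [h6]
  refine Multiset.map_congr rfl fun x hx => ?_
  exact (pow_pow_eq' (rhoK_pow_mem ρ K hg x hx) _ _).symm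

end semi


/-! ### the engine -/

section engine

variable {p : ℕ} [hp : Fact p.Prime] {S : Type u} [Group S] [Finite S] {F : Type w} [Field F] [Finite F]
  {ι : Type} [Fintype ι] [DecidableEq ι] {S' : Type v} [Group S'] [Finite S'] {ρ : S' →* GL ι F} {π : S' →* S}
  {K : Type w} [Field K] [Finite K] [Algebra F K] {GG : Subgroup (GL ι K)}

/-- the embedding in the big group -/
noncomputable def embK (ρ : S' →* GL ι F)
    (hρG : ∀ g, Matrix.GeneralLinearGroup.map (algebraMap F K) (ρ g) ∈ GG) : S' →* ↥GG :=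
  ((Matrix.GeneralLinearGroup.map (algebraMap F K)).comp ρ).codRestrict GG hρG

omit [Finite S'] [Finite K] [Finite F] in
theorem embK_injective (hρ : Function.Injective ρ)
    (hρG : ∀ g, Matrix.GeneralLinearGroup.map (algebraMap F K) (ρ g) ∈ GG) :
    Function.Injective (embK ρ hρG) := by
  intro g h hgh
  exact hρ (_root_.Cfsg.Agent.H967.CopMat.map_injective _ (congrArg Subtype.val hgh))

omit [Finite K] hp in
theorem diag_comm {T : Sylow p ↥GG}
    (hT : ∀ t ∈ T, ∀ i j, i ≠ j → ((t : GL ι K) : Matrix ι ι K) i j = 0) :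
    ∀ x ∈ T, ∀ y ∈ T, x * y = y * x := by
  have h1 : ∀ t ∈ T, ((t : GL ι K) : Matrix ι ι K) = Matrix.diagonal (fun i => ((t : GL ι K) : Matrix ι ι K) i i) := by
    intro t ht
    ext i j
    by_cases hij : i = j
    · rw [hij, Matrix.diagonal_apply_eq]
    · rw [Matrix.diagonal_apply_ne _ hij, hT t ht i j hij]
  intro x hx y hy
  refine Subtype.ext (Units.ext ?_)
  show ((x : GL ι K) : Matrix ι ι K) * ((y : GL ι K) : Matrix ι ι K) =
    ((y : GL ι K) : Matrix ι ι K) * ((x : GL ι K) : Matrix ι ι K)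
  rw [h1 x hx, h1 y hy, Matrix.diagonal_mul_diagonal, Matrix.diagonal_mul_diagonal]
  congr 1
  funext i
  exact mul_comm _ _

omit [Finite K] hp in
theorem fieldAut_diag {r : ℕ} [Fact r.Prime] [CharP K r] [Finite K] (hGG : Stab GG) {T : Sylow p ↥GG}
    (hT : ∀ t ∈ T, ∀ i j, i ≠ j → ((t : GL ι K) : Matrix ι ι K) i j = 0) (n : ℕ) :
    ∀ t ∈ T, fieldAut hGG (frobN K r n) t = t ^ r ^ n := by
  intro t ht
  have h1 : ((t : GL ι K) : Matrix ι ι K) = Matrix.diagonal (fun i => ((t : GL ι K) : Matrix ι ι K) i i) := by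
    ext i j
    by_cases hij : i = j
    · rw [hij, Matrix.diagonal_apply_eq]
    · rw [Matrix.diagonal_apply_ne _ hij, hT t ht i j hij]
  refine ext_mat fun i j => ?_
  rw [fieldAut_apply, frobN_apply]
  have h2 : (((t ^ r ^ n : ↥GG) : GL ι K) : Matrix ι ι K) = ((t : GL ι K) : Matrix ι ι K) ^ r ^ n := rfl
  rw [h2, h1, Matrix.diagonal_pow]
  by_cases hij : i = j
  · rw [hij, Matrix.diagonal_apply_eq, Matrix.diagonal_apply_eq, Pi.pow_apply]
  · rw [Matrix.diagonal_apply_ne _ hij, Matrix.diagonal_apply_ne _ hij, zero_pow]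
    exact pow_ne_zero _ (Nat.Prime.ne_zero Fact.out)

theorem powA_semi (hρ : Function.Injective ρ) (hπ : Function.Surjective π)
    (hker : ∀ z ∈ π.ker, z ∈ center S') (hkp : ¬ p ∣ Nat.card π.ker) (hGG : Stab GG)
    (hρG : ∀ g, Matrix.GeneralLinearGroup.map (algebraMap F K) (ρ g) ∈ GG) {T : Sylow p ↥GG}
    (hT : ∀ t ∈ T, ∀ i j, i ≠ j → ((t : GL ι K) : Matrix ι ι K) i j = 0) {a : MulAut S} {j : ℕ}
    (haj : a ^ p ^ j = 1) {σ : F ≃+* F} {s : GL ι F}
    (hs : Matrix.GeneralLinearGroup.map (algebraMap F K) s ∈ GG) (ha : Semi ρ π a σ s) {x : S}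
    (hx : ∃ k : ℕ, x ^ p ^ k = 1) : ∃ k : ℕ, IsConj (a x) (x ^ k) := by
  obtain ⟨r, hr⟩ := CharP.exists F
  have hrp : Fact r.Prime := ⟨CharP.char_is_prime F r⟩
  have hK : CharP K r := charP_of_injective_algebraMap (algebraMap F K).injective r
  obtain ⟨n, hn⟩ := exists_frob F r σ
  refine powA_of_ambient T (diag_comm hT) (embK ρ hρG) (embK_injective hρ hρG) π hπ hker hkp haj
    (fieldAut hGG (frobN K r n)) (r ^ n) (fieldAut_diag hGG hT n) ⟨_, hs⟩ (fun y => ?_) hx
  obtain ⟨y', h1, h2⟩ := ha y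
  refine ⟨y', Subtype.ext ?_, h2⟩
  show Matrix.GeneralLinearGroup.map (algebraMap F K) (ρ y') = Matrix.GeneralLinearGroup.map (algebraMap F K) s *
    (fieldAut hGG (frobN K r n) (embK ρ hρG y) : GL ι K) * (Matrix.GeneralLinearGroup.map (algebraMap F K) s)⁻¹
  rw [h1, map_mul, map_mul, map_inv, coe_fieldAut]
  congr 2
  ext i j
  show algebraMap F K (σ ((ρ y : Matrix ι ι F) i j)) = frobN K r n (algebraMap F K ((ρ y : Matrix ι ι F) i j))
  rw [hn, frobN_apply, map_pow]

/-- **the multiplicities of the eigenvalues of `x ^ k`** -/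
theorem row_mult_of [DecidableEq K] {A Φ : Subgroup (MulAut S)} (hA : IsPGroup p A)
    (hC : Congr p A Φ) (hρ : Function.Injective ρ) (hπ : Function.Surjective π)
    (hker : ∀ z ∈ π.ker, z ∈ center S') (hkp : ¬ p ∣ Nat.card π.ker)
    (hsp : ∀ g : S', ((ρ g : Matrix ι ι F).charpoly.map (algebraMap F K)).Splits) (hGG : Stab GG)
    (hρG : ∀ g, Matrix.GeneralLinearGroup.map (algebraMap F K) (ρ g) ∈ GG) {T : Sylow p ↥GG}
    (hT : ∀ t ∈ T, ∀ i j, i ≠ j → ((t : GL ι K) : Matrix ι ι K) i j = 0)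
    (hsA : ∀ a ∈ A, ∃ (σ : F ≃+* F) (s : GL ι F), Matrix.GeneralLinearGroup.map (algebraMap F K) s ∈ GG ∧
      Semi ρ π a σ s) {f : MulAut S} (hf : f ∈ Φ) {r n : ℕ} [Fact r.Prime] [CharP F r] (hrp : p ≠ r)
    {σ : F ≃+* F} (hσ : ∀ x, σ x = x ^ r ^ n) {s : GL ι F} (hfs : Semi ρ π f σ s) {k : ℕ}
    (hk : ∀ g : S', (g ^ k) ^ p = 1) (hkk : ∀ z ∈ π.ker, z ^ k = 1) {x : S'} (hx : ∃ j : ℕ, x ^ p ^ j = 1)
    (μ : K) : (p : ℤ) ∣ ((rts ρ K (x ^ k)).count μ : ℤ) - (((rts ρ K (x ^ k)).map (· ^ r ^ n)).count μ : ℤ) := by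
  classical
  obtain ⟨θ, hθ⟩ := Cfsg.Agent.H139.Cusp.exists_theta K
  obtain ⟨x', hx1, hx2⟩ := hfs x
  have hpx : ∀ y : S, (∃ k : ℕ, y ^ p ^ k = 1) → PCent p y := fun y hy =>
    pCent_of_ambient T (diag_comm hT) (embK ρ hρG) (embK_injective hρ hρG) π hπ hy
  have hpa : ∀ y : S, (∃ k : ℕ, y ^ p ^ k = 1) → PowA A y := by
    intro y hy a ha
    obtain ⟨j, hj⟩ := hA ⟨a, ha⟩
    obtain ⟨σ', s', h1, h2⟩ := hsA a ha
    exact powA_semi hρ hπ hker hkp hGG hρG hT (congrArg Subtype.val hj) h1 h2 hy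
  obtain ⟨j, hj⟩ := hx
  have hy1 : ∃ k : ℕ, (π x) ^ p ^ k = 1 := ⟨j, by rw [← map_pow, hj, map_one]⟩
  have hy2 : ∃ k : ℕ, (f (π x)) ^ p ^ k = 1 := ⟨j, by rw [← map_pow, ← map_pow, hj, map_one, map_one]⟩
  have hc : ¬ p ∣ r ^ n := by
    intro h
    exact hrp ((Nat.prime_dvd_prime_iff_eq hp.out Fact.out).1 (hp.out.dvd_of_dvd_pow h))
  have hR : rts ρ K (x' ^ k) = (rts ρ K (x ^ k)).map (· ^ r ^ n) := by
    refine rts_semi ρ hsp hσ (s := s) ?_
    rw [map_pow, hx1, conj_pow, ← map_pow, ← map_pow]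
  have h1 := Cfsg.Agent.H877.PQ.v_mult_of (A := A) π hπ hk (fun z hz => ⟨hker z hz, hkk z hz⟩) θ hθ (rhoK ρ K)
    (fun g => by rw [charpoly_rhoK]; exact hsp g)
    (fun a ha g h hg hh hgh => by
      obtain ⟨j, hj⟩ := hA ⟨a, ha⟩
      obtain ⟨σ', s', _, h2⟩ := hsA a ha
      obtain ⟨n', hn'⟩ := exists_frob F r σ'
      rw [charpoly_rhoK, charpoly_rhoK]
      exact charpoly_eq_of_rts ρ hsp
        (rts_invariant hρ hker hkp hsp hn' h2 (congrArg Subtype.val hj) hg hh hgh))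
    (hC (π x) (hpx _ hy1) (hpa _ hy1) f hf (hpa _ hy2))
    (fun hζ => Cfsg.Agent.H55.PQ.mult_of_congr hζ) (fun hβ' _ h => Cfsg.Agent.H55.PQ.gen_descend π hπ hβ' h) rfl hx2
    (by
      rw [roots_rhoK, roots_rhoK, hR, count_one_map (rhoK_pow_mem ρ K (hk x)) hc, sub_self]
      exact dvd_zero _) μ
  rwa [roots_rhoK, roots_rhoK, hR] at h1

end engine


/-! ### the exponent `k` -/

theorem exists_k (p : ℕ) [hp : Fact p.Prime] (G : Type v) [Group G] [Finite G] (hpG : p ∣ Nat.card G) :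
    ∃ k b : ℕ, 1 ≤ b ∧ (∀ g : G, (g ^ k) ^ p = 1) ∧ (∀ z : G, ¬ p ∣ orderOf z → z ^ k = 1) ∧
      (∀ x : G, orderOf x = p ^ b → x ^ k ≠ 1) ∧ (∃ x : G, orderOf x = p ^ b) ∧
      ∀ (x : G) (j : ℕ), orderOf x = p ^ j → j ≤ b := by
  classical
  set n := Nat.card G with hn
  have hn0 : n ≠ 0 := Nat.card_pos.ne'
  obtain ⟨x₀, hx₀⟩ := Finite.exists_max (fun x : G => (orderOf x).factorization p)
  set b := (orderOf x₀).factorization p with hb
  set m := n / p ^ n.factorization p with hm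
  have hpm : ¬ p ∣ m := Nat.not_dvd_ordCompl hp.out hn0
  have hfac : ∀ x : G, ∀ j : ℕ, orderOf x = p ^ j → j ≤ b := by
    intro x j hj
    have h1 := hx₀ x
    rw [hj, Nat.Prime.factorization_pow hp.out, Finsupp.single_eq_same] at h1
    exact h1
  have hb1 : 1 ≤ b := by
    obtain ⟨x, hx⟩ := exists_prime_orderOf_dvd_card' p hpG
    exact hfac x 1 (by rw [hx, pow_one])
  have hord : ∀ g : G, orderOf g ∣ m * p ^ b := by
    intro g
    have h1 : orderOf g ∣ n := _root_.orderOf_dvd_natCard g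
    have h2 : orderOf g / p ^ (orderOf g).factorization p ∣ m := Nat.ordCompl_dvd_ordCompl_of_dvd h1 p
    have h3 : p ^ (orderOf g).factorization p ∣ p ^ b := pow_dvd_pow p (hx₀ g)
    have h4 := Nat.ordProj_mul_ordCompl_eq_self (orderOf g) p
    rw [← h4, mul_comm]
    exact mul_dvd_mul h2 h3
  have hpb : p ^ (b - 1) * p = p ^ b := by rw [← pow_succ, Nat.sub_add_cancel hb1]
  refine ⟨m * p ^ (b - 1), b, hb1, ?_, ?_, ?_, ?_, hfac⟩
  · intro g
    rw [← pow_mul, mul_assoc, hpb]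
    exact orderOf_dvd_iff_pow_eq_one.1 (hord g)
  · intro z hz
    refine orderOf_dvd_iff_pow_eq_one.1 (dvd_mul_of_dvd_left ?_ _)
    have h1 := hord z
    exact (Nat.Coprime.dvd_of_dvd_mul_right
      (Nat.Coprime.pow_right b ((Nat.Prime.coprime_iff_not_dvd hp.out).2 hz).symm) h1)
  · intro x hx h
    have h1 : p ^ b ∣ m * p ^ (b - 1) := by
      rw [← hx]
      exact orderOf_dvd_of_pow_eq_one h
    rw [← hpb, mul_comm m] at h1
    exact hpm (Nat.dvd_of_mul_dvd_mul_left (pow_pos hp.out.pos _) h1)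
  · refine ⟨x₀ ^ (orderOf x₀ / p ^ b), ?_⟩
    have h1 : orderOf x₀ / p ^ b ∣ orderOf x₀ := Nat.div_dvd_of_dvd (Nat.ordProj_dvd _ _)
    have h2 : 0 < orderOf x₀ := orderOf_pos x₀
    have h3 : orderOf x₀ / p ^ b ≠ 0 := (Nat.ordCompl_pos p h2.ne').ne'
    rw [orderOf_pow_of_dvd h3 h1]
    exact Nat.div_div_self (Nat.ordProj_dvd _ _) h2.ne'

/-! ### small dimension -/

/-- a matrix of order prime to the characteristic all of whose eigenvalues are `1` is the identity -/
theorem eq_one_of_charpoly {ι : Type*} [Fintype ι] [DecidableEq ι] {K : Type*} [Field K] {r p : ℕ} [hr : Fact r.Prime]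
    [CharP K r] (hrp : Nat.Coprime p r) {M : Matrix ι ι K} (hM : M ^ p = 1)
    (h : M.charpoly = (X - C (1 : K)) ^ Fintype.card ι) : M = 1 := by
  have h1 : (M - 1) ^ Fintype.card ι = 0 := by
    have h2 := Matrix.aeval_self_charpoly M
    rw [h, map_pow, map_sub, aeval_X, map_one, map_one] at h2
    exact h2
  obtain ⟨m, hm⟩ : ∃ m : ℕ, Fintype.card ι ≤ r ^ m := ⟨Fintype.card ι, (Nat.lt_pow_self hr.out.one_lt).le⟩
  cases isEmpty_or_nonempty ι with
  | inl hι => exact Matrix.ext fun i => (hι.false i).elim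
  | inr hι =>
  have h3 : M ^ r ^ m = 1 := by
    have : CharP (Matrix ι ι K) r := Matrix.charP r
    have h4 : (M - 1) ^ r ^ m = 0 := pow_eq_zero_of_le hm h1
    have h5 : M = (M - 1) + 1 := by abel
    rw [h5, add_pow_char_pow_of_commute r m (Commute.one_right (M - 1)), h4, one_pow, zero_add]
  have h5 : M ^ Nat.gcd p (r ^ m) = 1 := pow_gcd_eq_one.2 ⟨hM, h3⟩
  rwa [(hrp.pow_right m).gcd_eq_one, pow_one] at h5

section small

variable {p q : ℕ} [hp : Fact p.Prime] {S : Type u} [Group S] [Finite S] {F : Type w} [Field F] [Finite F]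
  {ι : Type} [Fintype ι] [DecidableEq ι] {S' : Type v} [Group S'] [Finite S'] {ρ : S' →* GL ι F} {π : S' →* S}

/-- **no example in dimension less than `q`** -/
theorem row_small_of (hp2 : p ≠ 2) (hq : q.Prime) {A Φ : Subgroup (MulAut S)} (hA : IsPGroup p A)
    (hC : Congr p A Φ) (hρ : Function.Injective ρ) (hπ : Function.Surjective π)
    (hker : ∀ z ∈ π.ker, z ∈ center S') (hkp : ¬ p ∣ Nat.card π.ker)
    (hsA : ∀ a ∈ A, ∃ (σ : F ≃+* F) (s : GL ι F), Semi ρ π a σ s)
    {f : MulAut S} (hf : f ∈ Φ) {r n : ℕ} [Fact r.Prime] [CharP F r] (hrp : p ≠ r)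
    {σ : F ≃+* F} (hσ : ∀ x, σ x = x ^ r ^ n) {s : GL ι F} (hfs : Semi ρ π f σ s)
    (hqn : q ∣ orderOf ((r ^ n : ℕ) : ZMod p)) (hι : Fintype.card ι < q) (hpS : p ∣ Nat.card S') : False := by
  classical
  have hc : ¬ p ∣ r ^ n := by
    intro h
    exact hrp ((Nat.prime_dvd_prime_iff_eq hp.out Fact.out).1 (hp.out.dvd_of_dvd_pow h))
  have hqp : q < p := by
    have h1 : ((r ^ n : ℕ) : ZMod p) ≠ 0 := by rwa [Ne, ZMod.natCast_eq_zero_iff]
    have h2 : orderOf ((r ^ n : ℕ) : ZMod p) ∣ p - 1 := ZMod.orderOf_dvd_card_sub_one h1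
    have h3 := Nat.le_of_dvd (Nat.sub_pos_of_lt hp.out.one_lt) (hqn.trans h2)
    have := hp.out.one_lt
    omega
  have hpF : (p : F) ≠ 0 := by
    rw [Ne, CharP.cast_eq_zero_iff F r]
    intro h
    exact hrp ((Nat.prime_dvd_prime_iff_eq Fact.out hp.out).1 h).symm
  have := Fintype.ofFinite S'
  obtain ⟨K, _, _, _, hs, hK⟩ := exists_big_field hp.out hpF (∏ g : S', (ρ g : Matrix ι ι F).charpoly)
    (Finset.prod_ne_zero_iff.2 fun g _ => (Matrix.charpoly_monic _).ne_zero)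
  have hsp : ∀ g : S', ((ρ g : Matrix ι ι F).charpoly.map (algebraMap F K)).Splits := by
    intro g
    rw [Polynomial.map_prod] at hs
    refine hs.of_dvd ?_ (Finset.dvd_prod_of_mem _ (Finset.mem_univ g))
    exact Finset.prod_ne_zero_iff.2 fun g _ => ((Matrix.charpoly_monic _).map _).ne_zero
  obtain ⟨T₀, hT₀⟩ := exists_diag_sylow hp2 ι K (hι.trans hqp) hK
  have hT₁ : (T₀ : Subgroup (GL ι K)) ≤ ⊤ := le_top
  have hstab : Stab (⊤ : Subgroup (GL ι K)) := fun _ _ _ => mem_top _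
  obtain ⟨k, b, hb1, hk, hkk, hkx, ⟨x, hx⟩, _⟩ := exists_k p S' hpS
  have hkk' : ∀ z ∈ π.ker, z ^ k = 1 := by
    intro z hz
    refine hkk z fun h => hkp (h.trans ?_)
    have h1 := _root_.orderOf_dvd_natCard (⟨z, hz⟩ : π.ker)
    rwa [Subgroup.orderOf_mk] at h1
  have hm := row_mult_of (T := T₀.subtype hT₁) hA hC hρ hπ hker hkp hsp hstab (fun _ => mem_top _)
    (fun t ht i j hij => hT₀ _ ht i j hij)
    (fun a ha => by obtain ⟨σ', s', h⟩ := hsA a ha; exact ⟨σ', s', mem_top _, h⟩) hf hrp hσ hfs hk hkk'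
    (x := x) ⟨b, by rw [← hx, pow_orderOf_eq_one]⟩
  have hR := rhoK_pow_mem ρ K (hk x)
  have hcard := card_rts ρ hsp (x ^ k)
  have hcnt := (Cfsg.Agent.H55.PQ.cnt_dvd hq hR hc hqn hm).2 (fun μ _ => by
    have h1 := Multiset.count_le_card μ (rts ρ K (x ^ k))
    omega)
  have h0 : (Multiset.filter (fun x => x ≠ 1) (rts ρ K (x ^ k))).card = 0 := by
    have h1 := Multiset.card_le_card (Multiset.filter_le (fun x => x ≠ 1) (rts ρ K (x ^ k)))
    exact Nat.eq_zero_of_dvd_of_lt hcnt (by omega)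
  rw [Multiset.card_eq_zero, Multiset.filter_eq_nil] at h0
  have hrep : rts ρ K (x ^ k) = Multiset.replicate (Fintype.card ι) 1 := by
    rw [Multiset.eq_replicate]
    exact ⟨hcard, fun μ hμ => not_not.1 (h0 μ hμ)⟩
  have hKr : CharP K r := charP_of_injective_algebraMap (algebraMap F K).injective r
  have hcop : Nat.Coprime p r := (Nat.coprime_primes hp.out Fact.out).2 hrp
  have hch : ((ρ (x ^ k) : Matrix ι ι F).map (algebraMap F K)).charpoly = (X - C (1 : K)) ^ Fintype.card ι := by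
    rw [Matrix.charpoly_map, (hsp (x ^ k)).eq_prod_roots_of_monic ((Matrix.charpoly_monic _).map _)]
    change ((rts ρ K (x ^ k)).map (fun a => X - C a)).prod = _
    rw [hrep, Multiset.map_replicate, Multiset.prod_replicate]
  have hMp : ((ρ (x ^ k) : Matrix ι ι F).map (algebraMap F K)) ^ p = 1 := by
    have h1 : ((Matrix.GeneralLinearGroup.map (algebraMap F K) (ρ (x ^ k)) ^ p : GL ι K) : Matrix ι ι K) = 1 := by
      rw [← map_pow, ← map_pow, hk, map_one, map_one]; rfl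
    exact h1
  have h1 := eq_one_of_charpoly hcop hMp hch
  refine hkx x hx (hρ (Cfsg.Agent.H967.CopMat.map_injective (algebraMap F K) ?_))
  rw [map_one, map_one]
  exact Units.ext h1

end small

end Cfsg.Agent.H754.PQ
end

private theorem dce_8e3cd5aff373 : _root_.True := by
  try have : _root_.True := by simp only [_root_.Cfsg.Agent.H754.PQ.frobN.eq_1]
  try have : _root_.True := by simp only [_root_.Cfsg.Agent.H95.PQ.red.eq_1]
  try have : _root_.True := by simp only [_root_.Cfsg.Agent.H754.PQ.rts.eq_1]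
  exact _root_.True.intro
end

-- part: H754/PQ/Final_mg
section
prune_inst 0x4010000
set_option linter.all false
open scoped Cfsg.Agent.FastGrp

-- part: H754/PQ/Main
section
/-!
# S4981: the engine in the frame `FSit` (helper754)

* `exists_frob_pow` : the field automorphism `φ` of `q`-power order is `x ↦ x ^ (q₀ ^ j)`, `q₀ = |Fx φ|`, `q ∤ j`;
* `row_mult_congr`, `row_small_congr` : the two theorems of the engine from the congruence lemma `Congr p A Φ`.
-/

set_option autoImplicit false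

open Polynomial Cfsg Subgroup

open scoped MatrixGroups

namespace Cfsg.Agent.H754.PQ

open Cfsg.Agent.H54.PQ Cfsg.Agent.H967.CopMat

universe u v w

/-- `φ` as a power of the Frobenius automorphism over its fixed field -/
theorem exists_frob_pow {q : ℕ} [hq : Fact q.Prime] {F : Type v} [Field F] [Finite F] {φ : F ≃+* F}
    (hφ : ∃ k : ℕ, orderOf φ = q ^ k) :
    ∃ j : ℕ, ¬ q ∣ j ∧ ∀ x : F, φ x = x ^ Nat.card (Fx φ) ^ j := by
  classical
  have := Fintype.ofFinite F
  have := Fintype.ofFinite (Fx φ)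
  let σ : F ≃ₐ[Fx φ] F := AlgEquiv.ofRingEquiv (f := φ) (fun x => x.2)
  have hcard : Nat.card F = Nat.card (Fx φ) ^ orderOf φ := card_Fx φ
  obtain ⟨k, hk⟩ := hφ
  have hfr : ∀ (n : ℕ) (x : F), (FiniteField.frobeniusAlgEquivOfAlgebraic (Fx φ) F ^ n) x =
      x ^ Nat.card (Fx φ) ^ n := by
    intro n x
    rw [AlgEquiv.coe_pow, FiniteField.coe_frobeniusAlgEquivOfAlgebraic_iterate, Nat.card_eq_fintype_card]
  rcases Nat.eq_zero_or_pos k with hk0 | hk0
  · refine ⟨1, hq.out.not_dvd_one, fun x => ?_⟩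
    rw [hk0, pow_zero] at hk
    have h1 : φ = 1 := orderOf_eq_one_iff.1 hk
    rw [hk, pow_one] at hcard
    rw [pow_one, ← hcard, Nat.card_eq_fintype_card, FiniteField.pow_card, h1]
    rfl
  · obtain ⟨n, hn⟩ := (FiniteField.bijective_frobeniusAlgEquivOfAlgebraic_pow (Fx φ) F).2 σ
    have h0 : ∀ (m : ℕ) (x : F), (φ ^ m) x = x ^ Nat.card (Fx φ) ^ ((n : ℕ) * m) := by
      intro m
      induction m with
      | zero => intro x; simp
      | succ m ih =>
        intro x
        have h1 : φ x = x ^ Nat.card (Fx φ) ^ (n : ℕ) := by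
          have h2 : φ x = σ x := rfl
          rw [h2, ← hn]
          exact hfr _ x
        rw [pow_succ, RingAut.mul_apply, ih, h1, ← pow_mul, ← pow_add, Nat.mul_succ, add_comm]
    refine ⟨n, fun hqn => ?_, fun x => by have := h0 1 x; rwa [pow_one, mul_one] at this⟩
    obtain ⟨c, hc⟩ := hqn
    have h2 : φ ^ q ^ (k - 1) = 1 := by
      ext x
      rw [h0, hc]
      have e1 : q * c * q ^ (k - 1) = q ^ k * c := by
        rw [mul_right_comm, ← pow_succ', Nat.sub_add_cancel hk0]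
      rw [e1, pow_mul, ← hk, ← hcard]
      have h3 : ∀ m : ℕ, x ^ Nat.card F ^ m = x := by
        intro m
        rw [Nat.card_eq_fintype_card]
        exact FiniteField.pow_card_pow m x
      exact h3 c
    have h3 : q ^ k ∣ q ^ (k - 1) := by
      rw [← hk]
      exact orderOf_dvd_of_pow_eq_one h2
    have h4 := (Nat.pow_dvd_pow_iff_le_right hq.out.one_lt).1 h3
    omega

/-- the order of a power -/
theorem dvd_orderOf_pow {q : ℕ} (hq : q.Prime) {M : Type*} [Monoid M] {x : M} {j : ℕ} (hj : ¬ q ∣ j)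
    (h : q ∣ orderOf x) : q ∣ orderOf (x ^ j) := by
  have hj0 : j ≠ 0 := by
    rintro rfl
    exact hj (dvd_zero q)
  rw [orderOf_pow' x hj0]
  have h1 : orderOf x / Nat.gcd (orderOf x) j * Nat.gcd (orderOf x) j = orderOf x :=
    Nat.div_mul_cancel (Nat.gcd_dvd_left _ _)
  rw [← h1] at h
  rcases (Nat.Prime.dvd_mul hq).1 h with h2 | h2
  · exact h2
  · exact absurd (h2.trans (Nat.gcd_dvd_right _ _)) hj

section frame

variable {p q : ℕ} [hp : Fact p.Prime] [hqp : Fact q.Prime] {S : Type u} [Group S] [Finite S] {F : Type v} [Field F]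
    [Finite F] {Ψ : (F ≃+* F) →* MulAut S} {A Φ : Subgroup (MulAut S)} {φ : F ≃+* F}

omit hp hqp [Finite S] [Finite F] in
/-- elements of `A` are semilinear -/
theorem semi_of_fsit (hF : FSit p q Ψ A Φ φ) {ι : Type*} [Fintype ι] [DecidableEq ι] {G : Subgroup (GL ι F)}
    (hG : Stab G) {π : ↥G →* S} (hπ : Function.Surjective π)
    (hΨ : ∀ (σ : F ≃+* F) (g : ↥G), π (fieldAut hG σ g) = Ψ σ (π g)) {a : MulAut S} (ha : a ∈ A) :
    ∃ (γ : F ≃+* F) (s : ↥G), ∀ y : ↥G, π (s * fieldAut hG γ y * s⁻¹) = a (π y) := by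
  obtain ⟨s, γ, k, _, rfl⟩ := hF.a a ha
  obtain ⟨s', rfl⟩ := hπ s
  refine ⟨γ, s', fun y => ?_⟩
  rw [map_mul, map_mul, hΨ, map_inv, MulAut.mul_apply, MulAut.conj_apply]

/-- **the multiplicities**, in the frame -/
theorem row_mult_congr (hpF : (p : F) ≠ 0) (hF : FSit p q Ψ A Φ φ) (hC : Congr p A Φ) {ι : Type} [Fintype ι]
    [DecidableEq ι] {G : Subgroup (GL ι F)} (hG : Stab G) (π : ↥G →* S) (hπ : Function.Surjective π)
    (hker : ∀ z ∈ π.ker, z ∈ center ↥G) (hkp : ¬ p ∣ Nat.card π.ker)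
    (hΨ : ∀ (σ : F ≃+* F) (g : ↥G), π (fieldAut hG σ g) = Ψ σ (π g))
    {K : Type v} [Field K] [Finite K] [DecidableEq K] [Algebra F K]
    (hsp : ∀ g ∈ G, ((g : Matrix ι ι F).charpoly.map (algebraMap F K)).Splits) {GG : Subgroup (GL ι K)}
    (hGG : Stab GG) (hle : ∀ g ∈ G, Matrix.GeneralLinearGroup.map (algebraMap F K) g ∈ GG) {T : Sylow p ↥GG}
    (hT : ∀ t ∈ T, ∀ i j, i ≠ j → ((t : GL ι K) : Matrix ι ι K) i j = 0) {k : ℕ}
    (hk : ∀ g : ↥G, (g ^ k) ^ p = 1) (hkk : ∀ z ∈ π.ker, z ^ k = 1) {x : ↥G} (hx : ∃ j : ℕ, x ^ p ^ j = 1) :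
    ∃ j : ℕ, ¬ q ∣ j ∧ ∀ μ : K, (p : ℤ) ∣ ((rts G.subtype K (x ^ k)).count μ : ℤ) -
      (((rts G.subtype K (x ^ k)).map (· ^ Nat.card (Fx φ) ^ j)).count μ : ℤ) := by
  classical
  obtain ⟨r, hr⟩ := CharP.exists F
  have hrp : Fact r.Prime := ⟨CharP.char_is_prime F r⟩
  have hpr : p ≠ r := by
    rintro rfl
    exact hpF (CharP.cast_eq_zero F p)
  obtain ⟨j, hj, hφj⟩ := exists_frob_pow hF.φ
  have := Fintype.ofFinite (Fx φ)
  have hr0 : CharP (Fx φ) r := (algebraMap (Fx φ) F).charP (algebraMap (Fx φ) F).injective r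
  obtain ⟨a, _, ha⟩ := FiniteField.card (Fx φ) r
  have hn : Nat.card (Fx φ) ^ j = r ^ ((a : ℕ) * j) := by
    rw [Nat.card_eq_fintype_card, ha, pow_mul]
  refine ⟨j, hj, fun μ => ?_⟩
  have hf : Ψ φ ∈ Φ := by rw [hF.Φ]; exact mem_zpowers _
  rw [hn]
  refine row_mult_of (A := A) (Φ := Φ) (ρ := G.subtype) (π := π) hF.pA hC G.subtype_injective hπ hker hkp
    (fun g => hsp g.1 g.2) hGG (fun g => hle g.1 g.2) hT (fun a ha => ?_) hf hpr (σ := φ) (s := 1)
    (fun x => by rw [hφj x, hn]) (fun y => ?_) hk hkk hx μ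
  · obtain ⟨γ, s, h⟩ := semi_of_fsit hF hG hπ hΨ ha
    exact ⟨γ, s, hle s.1 s.2, fun y => ⟨_, rfl, h y⟩⟩
  · refine ⟨fieldAut hG φ y, ?_, hΨ φ y⟩
    rw [one_mul, inv_one, mul_one]
    rfl

/-- **no example in small dimension**, in the frame -/
theorem row_small_congr (hpF : (p : F) ≠ 0) (hF : FSit p q Ψ A Φ φ) (hC : p ≠ 2 → Congr p A Φ) {ι : Type w} [Fintype ι]
    [DecidableEq ι] (hι : Fintype.card ι < q) {G : Subgroup (GL ι F)} (hG : Stab G) (π : ↥G →* S)
    (hπ : Function.Surjective π) (hker : ∀ z ∈ π.ker, z ∈ center ↥G) (hkp : ¬ p ∣ Nat.card π.ker)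
    (hΨ : ∀ (σ : F ≃+* F) (g : ↥G), π (fieldAut hG σ g) = Ψ σ (π g)) (hpS : p ∣ Nat.card S)
    (hq : q ∣ orderOf (Nat.card (Fx φ) : ZMod p)) : False := by
  classical
  obtain ⟨r, hr⟩ := CharP.exists F
  have hrp : Fact r.Prime := ⟨CharP.char_is_prime F r⟩
  have hpr : p ≠ r := by
    rintro rfl
    exact hpF (CharP.cast_eq_zero F p)
  obtain ⟨j, hj, hφj⟩ := exists_frob_pow hF.φ
  have := Fintype.ofFinite (Fx φ)
  have hr0 : CharP (Fx φ) r := (algebraMap (Fx φ) F).charP (algebraMap (Fx φ) F).injective r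
  obtain ⟨a, _, ha⟩ := FiniteField.card (Fx φ) r
  have hn : Nat.card (Fx φ) ^ j = r ^ ((a : ℕ) * j) := by
    rw [Nat.card_eq_fintype_card, ha, pow_mul]
  have hp2 : p ≠ 2 := by
    rintro rfl
    have h1 : ((Nat.card (Fx φ) : ℕ) : ZMod 2) = 1 := by
      rw [Nat.card_eq_fintype_card, ha, Nat.cast_pow]
      have h2 : (r : ZMod 2) = 1 := by
        have h3 : r % 2 = 1 := (Nat.Prime.eq_two_or_odd hrp.out).resolve_left (fun h => hpr h.symm)
        rw [← ZMod.natCast_mod, h3, Nat.cast_one]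
      rw [h2, one_pow]
    rw [h1, orderOf_one] at hq
    exact hqp.out.not_dvd_one hq
  have hf : Ψ φ ∈ Φ := by rw [hF.Φ]; exact mem_zpowers _
  let e : ι ≃ Fin (Fintype.card ι) := Fintype.equivFin ι
  let E : GL ι F ≃* GL (Fin (Fintype.card ι)) F := Units.mapEquiv (Matrix.reindexAlgEquiv F F e).toMulEquiv
  have hE : ∀ (σ : F ≃+* F) (g : GL ι F), E (Matrix.GeneralLinearGroup.map (σ : F →+* F) g) =
      Matrix.GeneralLinearGroup.map (σ : F →+* F) (E g) := by
    intro σ g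
    exact Units.ext (Matrix.ext fun i j => rfl)
  refine row_small_of (q := q) (A := A) (Φ := Φ) (ρ := E.toMonoidHom.comp G.subtype) (π := π) hp2 hqp.out hF.pA (hC hp2)
    (E.injective.comp G.subtype_injective) hπ hker hkp (fun a ha => ?_) hf hpr (σ := φ) (s := 1) (n := (a : ℕ) * j)
    (fun x => by rw [hφj x, hn]) (fun y => ?_) ?_ ?_ ?_
  · obtain ⟨γ, s, h⟩ := semi_of_fsit hF hG hπ hΨ ha
    refine ⟨γ, E s, fun y => ⟨_, ?_, h y⟩⟩
    show E (s * fieldAut hG γ y * s⁻¹ : ↥G) = E s * Matrix.GeneralLinearGroup.map (γ : F →+* F) (E y) * (E s)⁻¹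
    rw [← hE, ← map_inv, ← map_mul, ← map_mul]
    rfl
  · refine ⟨fieldAut hG φ y, ?_, hΨ φ y⟩
    rw [one_mul, inv_one, mul_one]
    exact hE φ y
  · rw [← hn, Nat.cast_pow]
    exact dvd_orderOf_pow hqp.out hj hq
  · rwa [Fintype.card_fin]
  · exact hpS.trans (Subgroup.card_dvd_of_surjective π hπ)

end frame

end Cfsg.Agent.H754.PQ
end

-- part: H754/PQ/Final
section
/-!
# S4981: `row_small` and `row_mult` (helper754)
-/

set_option autoImplicit false

open Polynomial Cfsg Subgroup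

open scoped MatrixGroups

namespace Cfsg.Agent.H754.PQ

open Cfsg.Agent.H54.PQ Cfsg.Agent.H967.CopMat

universe u v w

/-- the congruence lemma C1 in the form `Congr` -/
theorem congr_of_inv {p : ℕ} [Fact p.Prime] (hp2 : p ≠ 2) {S : Type u} [Group S] [Finite S]
    {A Φ : Subgroup (MulAut S)} (hA : IsPGroup p A) (hinv : InvHyp p A Φ) : Congr p A Φ :=
  fun _ hx h1 _ hf h2 _ hβ hβA => Cfsg.Agent.H95.PQ.congr_main hp2 hA hinv hx h1 hβ hβA hf h2

/-- ENGINE (classical groups, cross characteristic) -/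
theorem row_small {p q : ℕ} [Fact p.Prime] [Fact q.Prime] {S : Type u} [Group S] [Finite S] {F : Type v} [Field F]
    [Finite F] (hpF : (p : F) ≠ 0) (Ψ : (F ≃+* F) →* MulAut S) {A Φ : Subgroup (MulAut S)} {φ : F ≃+* F}
    (hF : FSit p q Ψ A Φ φ) (hinv : InvHyp p A Φ) {ι : Type w} [Fintype ι] [DecidableEq ι]
    (hι : Fintype.card ι < q) {G : Subgroup (GL ι F)} (hG : Stab G) (π : ↥G →* S) (hπ : Function.Surjective π)
    (hker : ∀ z ∈ π.ker, z ∈ center ↥G) (hkp : ¬ p ∣ Nat.card π.ker)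
    (hΨ : ∀ (σ : F ≃+* F) (g : ↥G), π (fieldAut hG σ g) = Ψ σ (π g)) (hpS : p ∣ Nat.card S)
    (hq : q ∣ orderOf (Nat.card (Fx φ) : ZMod p)) : False :=
  row_small_congr hpF hF (fun hp2 => congr_of_inv hp2 hF.pA hinv) hι hG π hπ hker hkp hΨ hpS hq

/-- **the multiplicities** : the number of eigenvalues `μ` of `x ^ k` and of its image under the `q₀ ^ j`-th power agree
modulo `p` -/
theorem row_mult {p q : ℕ} [Fact p.Prime] [Fact q.Prime] (hp2 : p ≠ 2) {S : Type u} [Group S] [Finite S]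
    {F : Type v} [Field F] [Finite F] {Ψ : (F ≃+* F) →* MulAut S} {A Φ : Subgroup (MulAut S)} {φ : F ≃+* F}
    (hpF : (p : F) ≠ 0) (hF : FSit p q Ψ A Φ φ) (hinv : InvHyp p A Φ) {ι : Type} [Fintype ι]
    [DecidableEq ι] {G : Subgroup (GL ι F)} (hG : Stab G) (π : ↥G →* S) (hπ : Function.Surjective π)
    (hker : ∀ z ∈ π.ker, z ∈ center ↥G) (hkp : ¬ p ∣ Nat.card π.ker)
    (hΨ : ∀ (σ : F ≃+* F) (g : ↥G), π (fieldAut hG σ g) = Ψ σ (π g))
    {K : Type v} [Field K] [Finite K] [DecidableEq K] [Algebra F K]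
    (hsp : ∀ g ∈ G, ((g : Matrix ι ι F).charpoly.map (algebraMap F K)).Splits) {GG : Subgroup (GL ι K)}
    (hGG : Stab GG) (hle : ∀ g ∈ G, Matrix.GeneralLinearGroup.map (algebraMap F K) g ∈ GG) {T : Sylow p ↥GG}
    (hT : ∀ t ∈ T, ∀ i j, i ≠ j → ((t : GL ι K) : Matrix ι ι K) i j = 0) {k : ℕ}
    (hk : ∀ g : ↥G, (g ^ k) ^ p = 1) (hkk : ∀ z ∈ π.ker, z ^ k = 1) {x : ↥G} (hx : ∃ j : ℕ, x ^ p ^ j = 1) :
    ∃ j : ℕ, ¬ q ∣ j ∧ ∀ μ : K, (p : ℤ) ∣ ((rts G.subtype K (x ^ k)).count μ : ℤ) -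
      (((rts G.subtype K (x ^ k)).map (· ^ Nat.card (Fx φ) ^ j)).count μ : ℤ) :=
  row_mult_congr hpF hF (congr_of_inv hp2 hF.pA hinv) hG π hπ hker hkp hΨ hsp hGG hle hT hk hkk hx

end Cfsg.Agent.H754.PQ
end

-- part: H660/PQ/RootDefs
section
/-!
# S4981: functionals on the roots modulo `p` (helper660)

* `Lin D a` : `a : ℕ → ZMod p` is, on the indices of the roots of `D`, the restriction of a linear functional;
* `cnt D a b` : the number of roots with value `b`.
-/

set_option autoImplicit false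

namespace Cfsg.Agent.H660.PQ

open Cfsg.Lie Cfsg.Agent.ChevalleyStructure

/-- `a` is the restriction of a linear functional to the roots -/
def Lin (D : ChevalleyDatum) {p : ℕ} (a : ℕ → ZMod p) : Prop :=
  ∃ m : ℕ → ZMod p, ∀ s < D.nroots, a s = ∑ j ∈ Finset.range D.rank, ((RootVec.rt D s j : ℤ) : ZMod p) * m j

/-- the number of roots with value `b` -/
def cnt (D : ChevalleyDatum) {p : ℕ} (a : ℕ → ZMod p) (b : ZMod p) : ℕ :=
  ((Finset.range D.nroots).filter fun s => a s = b).card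

end Cfsg.Agent.H660.PQ
end

-- part: H660/PQ/DiagSyl
section
/-!
# S4981: the diagonal Sylow subgroups of the Chevalley groups over large fields (helper660)

`exists_torus_sylow` : for a prime `p > 7` dividing `|K| - 1`, some Sylow `p`-subgroup of `D.group K` lies in the torus.
-/

set_option autoImplicit false

open Cfsg

namespace Cfsg.Agent.H660.PQ

open Cfsg.Lie Cfsg.Agent.ChevalleyStructure Cfsg.Agent.ChevalleyStructure.Elts Cfsg.Agent.H834.Mov.Chev

open scoped MatrixGroups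

universe u

/-- the data of the order formulas -/
structure Ord (D : ChevalleyDatum) (q d : ℕ) (degs : List ℕ) (K : Type u) [Field K] [Fintype K] : Prop where
  d0 : d ≠ 0
  d3 : ∀ p : ℕ, p.Prime → p ∣ d → p ≤ 3
  tor : d * Nat.card (D.diagonalSubgroup K) = (q - 1) ^ D.rank
  grp : d * Nat.card (D.group K) = q ^ (D.nroots / 2) * (degs.map fun k => q ^ k - 1).prod
  len : degs.length = D.rank
  deg : ∀ k ∈ degs, k ≠ 0 ∧ k ∣ 2520

theorem exists_ord {D : ChevalleyDatum} (hD : InList D) (K : Type u) [Field K] [Fintype K] :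
    ∃ (d : ℕ) (degs : List ℕ), Ord D (Fintype.card K) d degs K := by
  have hD' := hD
  simp only [InList, List.mem_cons, List.not_mem_nil, or_false] at hD
  rcases hD with h | h | h | h | h | h | h <;> subst h
  · refine ⟨1, [2, 6], one_ne_zero, ?_, ?_, ?_, rfl, by simp⟩
    · intro p hp h; exact absurd (Nat.dvd_one.1 h) hp.one_lt.ne'
    · exact S1035.result (F := K) rfl (chevG2, 1) (by simp only [_root_.List.mem_cons, _root_.Prod.mk.injEq, _root_.and_true, _root_.List.not_mem_nil, _root_.or_false, _root_.true_or])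
    · exact OrderFinal.order_formula rfl chevG2 1 [2, 6] (by simp only [_root_.List.mem_cons, _root_.Prod.mk.injEq, _root_.and_true, _root_.List.not_mem_nil, _root_.or_false, _root_.true_or]) (by simp) (CardCombAll.comb_of_mem (by simp))
        (by simp) rfl
  · refine ⟨Nat.gcd 2 (Fintype.card K - 1), [2, 4], (Nat.gcd_pos_of_pos_left _ (by norm_num)).ne', ?_, ?_, ?_, rfl,
      by simp⟩
    · intro p hp h
      exact (Nat.le_of_dvd (by norm_num) (h.trans (Nat.gcd_dvd_left _ _))).trans (by norm_num)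
    · exact S1035.result (F := K) rfl (chevB2, Nat.gcd 2 (Fintype.card K - 1)) (by simp only [_root_.List.mem_cons, _root_.Prod.mk.injEq, _root_.Nat.coprime_two_left, _root_.and_true, _root_.List.not_mem_nil, _root_.or_false, _root_.true_or, _root_.or_true])
    · exact OrderFinal.order_formula rfl chevB2 (Nat.gcd 2 (Fintype.card K - 1)) [2, 4] (by simp only [_root_.List.mem_cons, _root_.Prod.mk.injEq, _root_.Nat.coprime_two_left, _root_.and_true, _root_.List.not_mem_nil, _root_.or_false, _root_.true_or, _root_.or_true]) (by simp)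
        (CardCombAll.comb_of_mem (by simp)) (by simp) rfl
  · refine ⟨Nat.gcd 2 (Fintype.card K - 1) ^ 2, [2, 4, 4, 6],
      pow_ne_zero _ (Nat.gcd_pos_of_pos_left _ (by norm_num)).ne', ?_, ?_, ?_, rfl, by simp only [_root_.List.mem_cons, _root_.List.not_mem_nil, _root_.or_false, _root_.or_self_left, _root_.ne_eq, _root_.forall_eq_or_imp, _root_.OfNat.ofNat_ne_zero, _root_.not_false_eq_true, _root_.Nat.reduceDvd, _root_.and_self, _root_.forall_eq]⟩
    · intro p hp h
      exact (Nat.le_of_dvd (by norm_num) ((hp.dvd_of_dvd_pow h).trans (Nat.gcd_dvd_left _ _))).trans (by norm_num)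
    · exact S1035.result (F := K) rfl (chevD4, Nat.gcd 2 (Fintype.card K - 1) ^ 2) (by simp only [_root_.List.mem_cons, _root_.Prod.mk.injEq, _root_.pow_eq_one_iff, _root_.Nat.coprime_two_left, _root_.OfNat.ofNat_ne_zero, _root_.or_false, _root_.List.not_mem_nil, _root_.or_true])
    · exact OrderFinal.order_formula rfl chevD4 (Nat.gcd 2 (Fintype.card K - 1) ^ 2) [2, 4, 4, 6] (by simp only [_root_.List.mem_cons, _root_.Prod.mk.injEq, _root_.pow_eq_one_iff, _root_.Nat.coprime_two_left, _root_.OfNat.ofNat_ne_zero, _root_.or_false, _root_.List.not_mem_nil, _root_.or_true]) (by simp)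
        (CardCombAll.comb_of_mem (by simp)) (by simp) rfl
  · refine ⟨1, [2, 6, 8, 12], one_ne_zero, ?_, ?_, ?_, rfl, by simp only [_root_.List.mem_cons, _root_.List.not_mem_nil, _root_.or_false, _root_.ne_eq, _root_.forall_eq_or_imp, _root_.OfNat.ofNat_ne_zero, _root_.not_false_eq_true, _root_.Nat.reduceDvd, _root_.and_self, _root_.forall_eq]⟩
    · intro p hp h; exact absurd (Nat.dvd_one.1 h) hp.one_lt.ne'
    · exact S1035.result (F := K) rfl (chevF4, 1) (by simp only [_root_.List.mem_cons, _root_.Prod.mk.injEq, _root_.and_true, _root_.List.not_mem_nil, _root_.or_false, _root_.true_or, _root_.or_true])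
    · exact OrderFinal.order_formula rfl chevF4 1 [2, 6, 8, 12] (by simp only [_root_.List.mem_cons, _root_.Prod.mk.injEq, _root_.and_true, _root_.List.not_mem_nil, _root_.or_false, _root_.true_or, _root_.or_true]) (by simp) (CardCombAll.comb_of_mem (by simp))
        (by simp) rfl
  · refine ⟨Nat.gcd 3 (Fintype.card K - 1), [2, 5, 6, 8, 9, 12], (Nat.gcd_pos_of_pos_left _ (by norm_num)).ne',
      ?_, ?_, ?_, rfl, by simp only [_root_.List.mem_cons, _root_.List.not_mem_nil, _root_.or_false, _root_.ne_eq, _root_.forall_eq_or_imp, _root_.OfNat.ofNat_ne_zero, _root_.not_false_eq_true, _root_.Nat.reduceDvd, _root_.and_self, _root_.forall_eq]⟩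
    · intro p hp h
      exact Nat.le_of_dvd (by norm_num) (h.trans (Nat.gcd_dvd_left _ _))
    · exact S1035.result (F := K) rfl (chevE6, Nat.gcd 3 (Fintype.card K - 1)) (by simp only [_root_.List.mem_cons, _root_.Prod.mk.injEq, _root_.List.not_mem_nil, _root_.or_false, _root_.true_or, _root_.or_true])
    · exact OrderFinal.order_formula rfl chevE6 (Nat.gcd 3 (Fintype.card K - 1)) [2, 5, 6, 8, 9, 12] (by simp only [_root_.List.mem_cons, _root_.Prod.mk.injEq, _root_.List.not_mem_nil, _root_.or_false, _root_.true_or, _root_.or_true]) (by simp)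
        (CardCombAll.comb_of_mem (by simp)) (by simp) rfl
  · refine ⟨Nat.gcd 2 (Fintype.card K - 1), [2, 6, 8, 10, 12, 14, 18],
      (Nat.gcd_pos_of_pos_left _ (by norm_num)).ne', ?_, ?_, ?_, rfl, by simp only [_root_.List.mem_cons, _root_.List.not_mem_nil, _root_.or_false, _root_.ne_eq, _root_.forall_eq_or_imp, _root_.OfNat.ofNat_ne_zero, _root_.not_false_eq_true, _root_.Nat.reduceDvd, _root_.and_self, _root_.forall_eq]⟩
    · intro p hp h
      exact (Nat.le_of_dvd (by norm_num) (h.trans (Nat.gcd_dvd_left _ _))).trans (by norm_num)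
    · exact S1035.result (F := K) rfl (chevE7, Nat.gcd 2 (Fintype.card K - 1)) (by simp only [_root_.List.mem_cons, _root_.Prod.mk.injEq, _root_.Nat.coprime_two_left, _root_.and_true, _root_.List.not_mem_nil, _root_.or_false, _root_.true_or, _root_.or_true])
    · exact OrderFinal.order_formula rfl chevE7 (Nat.gcd 2 (Fintype.card K - 1)) [2, 6, 8, 10, 12, 14, 18] (by simp only [_root_.List.mem_cons, _root_.Prod.mk.injEq, _root_.Nat.coprime_two_left, _root_.and_true, _root_.List.not_mem_nil, _root_.or_false, _root_.true_or, _root_.or_true])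
        (by simp) (CardCombAll.comb_of_mem (by simp)) (by simp) rfl
  · refine ⟨1, [2, 8, 12, 14, 18, 20, 24, 30], one_ne_zero, ?_, ?_, ?_, rfl, by simp only [_root_.List.mem_cons, _root_.List.not_mem_nil, _root_.or_false, _root_.ne_eq, _root_.forall_eq_or_imp, _root_.OfNat.ofNat_ne_zero, _root_.not_false_eq_true, _root_.Nat.reduceDvd, _root_.and_self, _root_.forall_eq]⟩
    · intro p hp h; exact absurd (Nat.dvd_one.1 h) hp.one_lt.ne'
    · exact S1035.result (F := K) rfl (chevE8, 1) (by simp only [_root_.List.mem_cons, _root_.Prod.mk.injEq, _root_.and_true, _root_.List.not_mem_nil, _root_.or_false, _root_.true_or, _root_.or_true])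
    · exact OrderFinal.order_formula rfl chevE8 1 [2, 8, 12, 14, 18, 20, 24, 30] (by simp only [_root_.List.mem_cons, _root_.Prod.mk.injEq, _root_.and_true, _root_.List.not_mem_nil, _root_.or_false, _root_.true_or, _root_.or_true]) (by simp)
        (CardCombAll.comb_of_mem (by simp)) (by simp only [_root_.List.mem_cons, _root_.Prod.mk.injEq, _root_.List.cons.injEq, _root_.Nat.reduceEqDiff, _root_.reduceCtorEq, _root_.and_self, _root_.and_false, _root_.List.cons_ne_self, _root_.List.not_mem_nil, _root_.or_false, _root_.or_true]) rfl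

variable {D : ChevalleyDatum} {K : Type u} [Field K] [Fintype K]

/-- the index of the torus -/
theorem Ord.index (hD : InList D) {d : ℕ} {degs : List ℕ} (h : Ord D (Fintype.card K) d degs K) :
    ((D.diagonalSubgroup K).subgroupOf (D.group K)).index =
      Fintype.card K ^ (D.nroots / 2) * (degs.map fun k => ∑ j ∈ Finset.range k, Fintype.card K ^ j).prod := by
  set q := Fintype.card K with hq
  have hq1 : 1 < q := Fintype.one_lt_card
  have hTG : D.diagonalSubgroup K ≤ D.group K := diagonal_le_group hD K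
  set T : Subgroup ↥(D.group K) := (D.diagonalSubgroup K).subgroupOf (D.group K) with hT
  have hcT : Nat.card T = Nat.card (D.diagonalSubgroup K) := Nat.card_congr (Subgroup.subgroupOfEquivOfLe hTG).toEquiv
  have h1 := OrderFinal.pow_mul_prod (q := q) hq1.le degs
  have hdG := h.grp
  rw [h.len, ← h.tor] at h1
  rw [← h1] at hdG
  have h2 := T.card_mul_index
  have h3 : d * (Nat.card T * T.index) = d * (Nat.card T *
      (q ^ (D.nroots / 2) * (degs.map fun k => ∑ j ∈ Finset.range k, q ^ j).prod)) := by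
    rw [h2, hdG, hcT]; ring
  exact Nat.eq_of_mul_eq_mul_left Nat.card_pos (Nat.eq_of_mul_eq_mul_left (Nat.pos_of_ne_zero h.d0) h3)

theorem not_dvd_2520 {p : ℕ} (hp : p.Prime) (h7 : 7 < p) : ¬ p ∣ 2520 := by
  intro h
  rcases primes_2520 hp h with rfl | rfl | rfl | rfl <;> omega

/-- `p` does not divide the index of the torus if `p > 7` divides `|K| - 1` -/
theorem not_dvd_index (hD : InList D) {p : ℕ} (hp : p.Prime) (h7 : 7 < p) (hpK : p ∣ Fintype.card K - 1) :
    ¬ p ∣ ((D.diagonalSubgroup K).subgroupOf (D.group K)).index := by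
  obtain ⟨d, degs, h⟩ := exists_ord hD K
  have hq1 : 1 < Fintype.card K := Fintype.one_lt_card
  rw [h.index hD]
  intro h1
  rcases hp.dvd_mul.1 h1 with h1 | h1
  · have h2 := hp.dvd_of_dvd_pow h1
    have h3 := (Nat.dvd_sub_iff_right hq1.le h2).1 hpK
    exact hp.one_lt.ne' (Nat.dvd_one.1 h3)
  · obtain ⟨x, hx, hsx⟩ := dvd_prod_of hp h1
    obtain ⟨k, hk, rfl⟩ := List.mem_map.1 hx
    exact not_dvd_sum hq1.le hpK (fun h' => not_dvd_2520 hp h7 (h'.trans (h.deg k hk).2)) hsx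

/-- **Some Sylow `p`-subgroup of `D.group K` lies in the torus.** -/
theorem exists_torus_sylow (hD : InList D) (K : Type u) [Field K] [Fintype K] {p : ℕ} [hp : Fact p.Prime]
    (h7 : 7 < p) (hpK : p ∣ Fintype.card K - 1) :
    ∃ T : Sylow p ↥(D.group K), (∀ t ∈ T, ((t : GL D.Idx K)) ∈ D.diagonalSubgroup K) ∧
      ∀ t ∈ T, ∀ i j, i ≠ j → ((t : GL D.Idx K) : Matrix D.Idx D.Idx K) i j = 0 := by
  set! T₀ : Subgroup ↥(D.group K) := (D.diagonalSubgroup K).subgroupOf (D.group K) with hT₀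
  obtain ⟨P⟩ : Nonempty (Sylow p T₀) := inferInstance
  have hpg : IsPGroup p (((P : Subgroup T₀).map T₀.subtype :)) := P.2.map _
  have hidx : ¬ p ∣ (((P : Subgroup T₀).map T₀.subtype).index :) := by
    rw [Subgroup.index_map_subtype]
    intro h
    rcases hp.out.dvd_mul.1 h with h | h
    · exact P.not_dvd_index h
    · exact not_dvd_index hD hp.out h7 hpK h
  have hmem : ∀ t ∈ hpg.toSylow hidx, ((t : GL D.Idx K)) ∈ D.diagonalSubgroup K := by
    intro t ht
    rw [IsPGroup.mem_toSylow] at ht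
    obtain ⟨⟨y, hy⟩, -, rfl⟩ := ht
    exact hy
  refine ⟨hpg.toSylow hidx, hmem, fun t ht i j hij => ?_⟩
  exact (TriAbstract.mem_diagSub.1 (HMatDiagAll.diagonalSubgroup_le_diagSub hD (hmem t ht))) i j hij

end Cfsg.Agent.H660.PQ
end
end

-- part: H461/PQ/Base_mg
section
prune_inst 0x11604141422200080004200200002095010000200000000008060000000802200d00204001001104020a000100010000000000000000000000200000000000000008100401000000400008000180010000000000000000000000000000000004004010000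
set_option linter.all false
open scoped Cfsg.Agent.FastGrp

-- part: H461/PQ/Base
section
/-!
# S4981, ORD-T: the basic lemmas

* `centSyl_of_card'` : a subgroup of the right order fixed by the automorphism;
* `factorization_pow_sub_one'`, `factorization_pow_add_one'` : `p`-parts of `q₀ ^ (i m) ∓ 1`, `m` a power of `q`.
-/

set_option autoImplicit false

namespace Cfsg.Agent.H461.PQ

open Subgroup Cfsg Cfsg.Agent.H54.PQ

universe u w

theorem centSyl_of_card' {p : ℕ} [Fact p.Prime] {S : Type u} [Group S] [Finite S] {G₀ : Type w} [Group G₀] [Finite G₀]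
    (j : G₀ →* S) (hj : Function.Injective j)
    (h : (Nat.card S).factorization p = (Nat.card G₀).factorization p) (f : MulAut S)
    (hf : ∀ x, f (j x) = j x) : CentSyl p (Subgroup.zpowers f) := by
  obtain ⟨P₀⟩ : Nonempty (Sylow p G₀) := inferInstance
  let Q : Subgroup S := (P₀ : Subgroup G₀).map j
  have hQ : Nat.card Q = p ^ (Nat.card S).factorization p := by
    rw [h, ← P₀.card_eq_multiplicity]
    exact Nat.card_congr ((P₀ : Subgroup G₀).equivMapOfInjective j hj).toEquiv.symm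
  refine ⟨Sylow.ofCard Q hQ, ?_⟩
  intro g hg x hx
  have hx' : x ∈ Q := hx
  obtain ⟨y, -, rfl⟩ := hx'
  obtain ⟨k, rfl⟩ := Subgroup.mem_zpowers_iff.1 hg
  have h1 : ∀ n : ℕ, (f ^ n) (j y) = j y := fun n => by
    induction n with
    | zero => rfl
    | succ n ih => rw [pow_succ, MulAut.mul_apply, hf, ih]
  rcases k with n | n
  · rw [Int.ofNat_eq_natCast, zpow_natCast]; exact h1 n
  · rw [zpow_negSucc, MulAut.inv_apply, MulEquiv.symm_apply_eq]
    exact (h1 (n + 1)).symm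

/-- the `p`-part of `a ^ n - 1`, `n` a power of `q` -/
theorem factorization_pow_aux {p q a : ℕ} (hp : p.Prime) (hq : q.Prime) (hpq : p ≠ q) (ha : 1 < a)
    (hd : ¬ q ∣ orderOf (a : ZMod p)) (j : ℕ) :
    (a ^ q ^ j - 1).factorization p = (a - 1).factorization p := by
  have : Fact p.Prime := ⟨hp⟩
  have hcast : ∀ b : ℕ, 1 ≤ b → (p ∣ b - 1 ↔ (b : ZMod p) = 1) := fun b hb => by
    rw [← (ZMod.natCast_eq_zero_iff (b - 1) p), Nat.cast_sub hb, Nat.cast_one, sub_eq_zero]
  have hn0 : q ^ j ≠ 0 := pow_ne_zero _ hq.ne_zero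
  have haj : 1 ≤ a ^ q ^ j := Nat.one_le_pow _ _ (by omega)
  by_cases h : p ∣ a - 1
  · have hg : a ^ q ^ j - 1 = (∑ i ∈ Finset.range (q ^ j), a ^ i) * (a - 1) := by
      zify [haj, ha.le]
      exact (geom_sum_mul _ _).symm
    have h1 := (hcast a ha.le).1 h
    have hs : ¬ p ∣ ∑ i ∈ Finset.range (q ^ j), a ^ i := by
      rw [← ZMod.natCast_eq_zero_iff, Nat.cast_sum]
      simp only [Nat.cast_pow, h1, one_pow, Finset.sum_const, Finset.card_range, nsmul_eq_mul, mul_one]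
      rw [← Nat.cast_pow, ZMod.natCast_eq_zero_iff]
      exact fun h2 => hpq ((Nat.prime_dvd_prime_iff_eq hp hq).1 (hp.dvd_of_dvd_pow h2))
    have hs0 : ∑ i ∈ Finset.range (q ^ j), a ^ i ≠ 0 := by
      intro h2
      exact hs (h2 ▸ dvd_zero p)
    rw [hg, Nat.factorization_mul hs0 (by omega), Finsupp.add_apply, Nat.factorization_eq_zero_of_not_dvd hs, zero_add]
  · rw [Nat.factorization_eq_zero_of_not_dvd h, Nat.factorization_eq_zero_of_not_dvd]
    intro h2
    rw [hcast _ haj, Nat.cast_pow] at h2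
    have h3 : orderOf (a : ZMod p) ∣ q ^ j := orderOf_dvd_of_pow_eq_one h2
    obtain ⟨i, -, hi⟩ := (Nat.dvd_prime_pow hq).1 h3
    rcases i with _ | i
    · rw [pow_zero, orderOf_eq_one_iff] at hi
      exact h ((hcast a ha.le).2 hi)
    · exact hd (hi ▸ dvd_pow_self q (Nat.succ_ne_zero i))

theorem factorization_pow_sub_one' {p q : ℕ} (hp : p.Prime) (hq : q.Prime) (hpq : p ≠ q) {q₀ : ℕ} (h1 : 1 < q₀)
    (hd : ¬ q ∣ orderOf (q₀ : ZMod p)) (j i : ℕ) (hi : i ≠ 0) :
    ((q₀ ^ q ^ j) ^ i - 1).factorization p = (q₀ ^ i - 1).factorization p := by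
  have h2 : (q₀ ^ q ^ j) ^ i = (q₀ ^ i) ^ q ^ j := by rw [← pow_mul, ← pow_mul, mul_comm]
  rw [h2]
  refine factorization_pow_aux hp hq hpq (Nat.one_lt_pow hi h1) (fun h => hd (h.trans ?_)) j
  rw [Nat.cast_pow]
  exact orderOf_pow_dvd i

theorem factorization_pow_add_one' {p q : ℕ} (hp : p.Prime) (hq : q.Prime) (hpq : p ≠ q) {q₀ : ℕ}
    (h1 : 1 < q₀) (hd : ¬ q ∣ orderOf (q₀ : ZMod p)) (j i : ℕ) (hi : i ≠ 0) :
    ((q₀ ^ q ^ j) ^ i + 1).factorization p = (q₀ ^ i + 1).factorization p := by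
  have key : ∀ b : ℕ, 1 < b → (b ^ i + 1).factorization p + (b ^ i - 1).factorization p =
      (b ^ (2 * i) - 1).factorization p := by
    intro b hb
    have hb' : 1 < b ^ i := Nat.one_lt_pow hi hb
    have h3 : b ^ (2 * i) - 1 = (b ^ i + 1) * (b ^ i - 1) := by
      rw [mul_comm 2 i, pow_mul, ← Nat.sq_sub_sq, one_pow]
    rw [h3, Nat.factorization_mul (by omega) (by omega), Finsupp.add_apply]
  have hQ : 1 < q₀ ^ q ^ j := Nat.one_lt_pow (pow_ne_zero _ hq.ne_zero) h1
  have e1 := key _ hQ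
  have e2 := key _ h1
  rw [factorization_pow_sub_one' hp hq hpq h1 hd j i hi,
    factorization_pow_sub_one' hp hq hpq h1 hd j (2 * i) (by omega)] at e1
  omega

end Cfsg.Agent.H461.PQ
end

-- part: H660/PQ/Root1
section
/-!
# S4981: functionals which are injective on the roots outside their kernel (helper660)

`root1` : if an additive map on the root lattice takes every nonzero value at most once on the roots and vanishes on some
root, then it is zero.
-/

set_option autoImplicit false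

namespace Cfsg.Agent.H660.PQ

open CoxeterSystem Cfsg.Lie Cfsg.Agent.ChevalleyStructure Cfsg.Agent.ChevalleyStructure.Elts
  Cfsg.Agent.ChevalleyStructure.CoxeterGeom Cfsg.Agent.ChevalleyStructure.CoxeterGeomTypes Cfsg.Agent.Tits.Roots
  Cfsg.Agent.Nodes.RGDChev

/-- one step in the Dynkin diagram -/
def step {l : ℕ} (A : Fin l → Fin l → ℤ) (S : Finset (Fin l)) : Finset (Fin l) :=
  Finset.univ.filter fun j => j ∈ S ∨ ∃ i ∈ S, A i j ≠ 0

/-- the Dynkin diagram is connected -/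
def Conn {l : ℕ} (A : Fin l → Fin l → ℤ) : Prop := ∀ i : Fin l, (step A)^[l] {i} = Finset.univ

instance {l : ℕ} (A : Fin l → Fin l → ℤ) : Decidable (Conn A) := by unfold Conn; infer_instance

theorem Conn.all {l : ℕ} {A : Fin l → Fin l → ℤ} (h : Conn A) {P : Fin l → Prop}
    (hP : ∀ i j, P i → A i j ≠ 0 → P j) {i : Fin l} (hi : P i) (j : Fin l) : P j := by
  have h1 : ∀ n : ℕ, ∀ j ∈ (step A)^[n] {i}, P j := by
    intro n
    induction n with
    | zero =>
      intro j hj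
      rw [Function.iterate_zero, id, Finset.mem_singleton] at hj
      rwa [hj]
    | succ n ih =>
      intro j hj
      rw [Function.iterate_succ_apply', step, Finset.mem_filter] at hj
      rcases hj.2 with h2 | ⟨k, hk, h2⟩
      · exact ih j h2
      · exact hP k j (ih k hk) h2
  exact h1 l j (by rw [h i]; exact Finset.mem_univ j)

section

variable {D : ChevalleyDatum} {l : ℕ} {M : CoxeterMatrix (Fin l)} (hp : IsType D l M) {W : Type*} [Group W]
  (cs : CoxeterSystem M W) {R : Type*} [AddCommGroup R]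

theorem root1 (hc : Conn (cartanOf D l)) (a : (Fin l → ℤ) →+ R)
    (hinj : ∀ x y, IsRoot cs hp.isCartan x → IsRoot cs hp.isCartan y → a x = a y → a x ≠ 0 → x = y)
    {s : Fin l → ℤ} (hs : IsRoot cs hp.isCartan s) (h0 : a s = 0) : a = 0 := by
  obtain ⟨w, i, rfl⟩ := hs
  have h1 : ∀ j, a (rep cs hp.isCartan w (sr j)) = 0 := by
    refine hc.all (P := fun j => a (rep cs hp.isCartan w (sr j)) = 0) ?_ h0
    intro i j hi hij
    by_contra hj
    have e1 : rep cs hp.isCartan (w * cs.simple i) (sr j) =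
        rep cs hp.isCartan w (sr j) - cartanOf D l i j • rep cs hp.isCartan w (sr i) := by
      rw [rep_mul_apply, rep_simple_eq, map_sub, map_zsmul]
      congr 2
      rw [sr, pairing_single, mul_one]
    have e2 : a (rep cs hp.isCartan w (sr j)) = a (rep cs hp.isCartan (w * cs.simple i) (sr j)) := by
      rw [e1, map_sub, map_zsmul, hi, smul_zero, sub_zero]
    have e3 := hinj _ _ ((isRoot_sr cs hp.isCartan j).act w) ((isRoot_sr cs hp.isCartan j).act (w * cs.simple i)) e2 hj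
    rw [e1] at e3
    have e4 : cartanOf D l i j • rep cs hp.isCartan w (sr i) = 0 := sub_eq_self.1 e3.symm
    rcases smul_eq_zero.1 e4 with h | h
    · exact hij h
    · exact rep_single_ne_zero cs hp.isCartan w i h
  have h2 : ∀ v : Fin l → ℤ, a (rep cs hp.isCartan w v) = 0 := by
    intro v
    have e : v = ∑ i, v i • (sr i : Fin l → ℤ) := by
      funext j
      rw [Finset.sum_apply, Finset.sum_eq_single j]
      · rw [Pi.smul_apply, sr_self, smul_eq_mul, mul_one]
      · intro i _ hi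
        rw [Pi.smul_apply, sr_ne (Ne.symm hi), smul_zero]
      · intro hj
        exact absurd (Finset.mem_univ j) hj
    rw [e, map_sum, map_sum]
    refine Finset.sum_eq_zero fun i _ => ?_
    rw [map_zsmul, map_zsmul, h1, smul_zero]
  ext x
  have h3 := h2 (rep cs hp.isCartan w⁻¹ (Pi.single x 1))
  rw [rep_apply_inv] at h3
  simpa only [_root_.AddMonoidHom.coe_comp, _root_.AddMonoidHom.coe_single, _root_.Function.comp_apply, _root_.AddMonoidHom.zero_comp, _root_.AddMonoidHom.zero_apply] using h3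

end

theorem conn_g2 : Conn (cartanOf chevG2 2) := by decide +kernel
theorem conn_d4 : Conn (cartanOf chevD4 4) := by decide +kernel
theorem conn_f4 : Conn (cartanOf chevF4 4) := by decide +kernel
theorem conn_e6 : Conn (cartanOf chevE6 6) := by decide +kernel
private noncomputable def _root_.Cfsg.Agent.LsF.f5da822_0 : {f // @Cfsg.Agent.H660.PQ.step = f} := ⟨_, by first | (delta Cfsg.Agent.H660.PQ.step; rewrite [Cfsg.Agent.LsF.finFintype_eq, Cfsg.Agent.LsF.dFMem_eq, Cfsg.Agent.LsF.ffilter_eq, Cfsg.Agent.LsF.instIDecEq_eq, Cfsg.Agent.LsF.dAnd_eq, Cfsg.Agent.LsF.dOr_eq, Cfsg.Agent.LsF.dNot_eq, Cfsg.Agent.LsF.dFinEq_eq, Cfsg.Agent.LsF.dExistsFin_eq]; exact rfl) | exact rfl⟩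
private noncomputable def _root_.Cfsg.Agent.LsF.f5da822_1 : {f // @Cfsg.Lie.ChevalleyDatum.cartan = f} := ⟨_, by first | (delta Cfsg.Lie.ChevalleyDatum.cartan; rewrite [Cfsg.Agent.LsF.agetD_eq]; exact rfl) | exact rfl⟩
private noncomputable def _root_.Cfsg.Agent.LsF.f5da822_2 : {f // @Cfsg.Lie.ChevalleyDatum.simple = f} := ⟨_, by first | (delta Cfsg.Lie.ChevalleyDatum.simple; rewrite [Cfsg.Agent.LsF.agetD_eq]; exact rfl) | exact rfl⟩
private noncomputable def _root_.Cfsg.Agent.LsF.f5da822_3 : {f // @Cfsg.Agent.ChevalleyStructure.CoxeterGeomTypes.cartanOf = f} := ⟨_, by first | (delta Cfsg.Agent.ChevalleyStructure.CoxeterGeomTypes.cartanOf; rewrite [Cfsg.Agent.LsF.f5da822_1.2, Cfsg.Agent.LsF.f5da822_2.2]; exact rfl) | exact rfl⟩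
theorem conn_e7 : Conn (cartanOf chevE7 7) := by (refine of_decide_eq_true ?_; (try (delta Cfsg.Agent.H660.PQ.Conn Cfsg.Agent.H660.PQ.instDecidableConn; rewrite [Cfsg.Agent.LsF.f5da822_0.2, Cfsg.Agent.LsF.f5da822_3.2, Cfsg.Agent.LsF.iterate_eq, Cfsg.Agent.LsF.finFintype_eq, Cfsg.Agent.LsF.dFEq_eq, Cfsg.Agent.LsF.dFinEq_eq, Cfsg.Agent.LsF.dForallFin_eq, Cfsg.Agent.LsF.decide_eq])); decide +kernel)
theorem conn_e8 : Conn (cartanOf chevE8 8) := by (refine of_decide_eq_true ?_; (try (delta Cfsg.Agent.H660.PQ.Conn Cfsg.Agent.H660.PQ.instDecidableConn; rewrite [Cfsg.Agent.LsF.f5da822_0.2, Cfsg.Agent.LsF.f5da822_3.2, Cfsg.Agent.LsF.iterate_eq, Cfsg.Agent.LsF.finFintype_eq, Cfsg.Agent.LsF.dFEq_eq, Cfsg.Agent.LsF.dFinEq_eq, Cfsg.Agent.LsF.dForallFin_eq, Cfsg.Agent.LsF.decide_eq])); decide +kernel)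

end Cfsg.Agent.H660.PQ
end

-- part: H660/PQ/Num
section
/-!
# S4981: multiplicities invariant under a subgroup of the units modulo `p` (helper660)
-/

set_option autoImplicit false

namespace Cfsg.Agent.H660.PQ

open Subgroup

/-- a function on a finite group which is invariant under a subgroup has a sum divisible by the order of the subgroup -/
theorem card_dvd_sum {G : Type*} [CommGroup G] [Fintype G] (C : Subgroup G) (f : G → ℕ)
    (hf : ∀ g ∈ C, ∀ u, f (g * u) = f u) : Nat.card C ∣ ∑ u, f u := by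
  classical
  have := Fintype.ofFinite (G ⧸ C)
  have := Fintype.ofFinite C
  have h1 : ∑ u, f u = ∑ x : (G ⧸ C) × C, f (x.1.out * (x.2 : G)) := by
    refine Fintype.sum_equiv (Subgroup.groupEquivQuotientProdSubgroup (s := C)) _ _ fun u => ?_
    have h2 : ((Subgroup.groupEquivQuotientProdSubgroup (s := C)) u).1 = (QuotientGroup.mk u : G ⧸ C) := rfl
    rw [h2]
    have h3 : (QuotientGroup.mk (QuotientGroup.mk u : G ⧸ C).out : G ⧸ C) = QuotientGroup.mk u :=
      Quotient.out_eq' _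
    have h4 : (QuotientGroup.mk u : G ⧸ C).out⁻¹ * u ∈ C := QuotientGroup.eq.1 h3
    have h5 := hf _ h4 (QuotientGroup.mk u : G ⧸ C).out
    have h6 := hf _ ((Subgroup.groupEquivQuotientProdSubgroup (s := C)) u).2.2 (QuotientGroup.mk u : G ⧸ C).out
    rw [mul_comm, hf _ (SetLike.coe_mem _), ← h5]
    congr 1
    rw [mul_comm, mul_inv_cancel_left]
  rw [h1, Fintype.sum_prod_type]
  refine Finset.dvd_sum fun x _ => ?_
  have h2 : ∀ y : C, f (x.out * (y : G)) = f x.out := fun y => by rw [mul_comm]; exact hf _ y.2 _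
  rw [Finset.sum_congr rfl fun y _ => h2 y, Finset.sum_const, Finset.card_univ, smul_eq_mul, ← Nat.card_eq_fintype_card]
  exact dvd_mul_right _ _

section

variable {p q : ℕ} [hp : Fact p.Prime]

/-- the subgroup generated by `u` and `-1` -/
def cl (u : (ZMod p)ˣ) : Subgroup (ZMod p)ˣ := _root_.Subgroup.closure {u, -1}

theorem mem_cl_self (u : (ZMod p)ˣ) : u ∈ cl u := _root_.Subgroup.subset_closure (Set.mem_insert _ _)

theorem neg_one_mem_cl (u : (ZMod p)ˣ) : -1 ∈ cl u := _root_.Subgroup.subset_closure (Set.mem_insert_of_mem _ rfl)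

theorem sq_mem {u x : (ZMod p)ˣ} (hx : x ∈ cl u) : x ^ 2 ∈ zpowers u := by
  unfold cl at hx
  induction hx using closure_induction with
  | mem y hy =>
    rcases hy with rfl | hy
    · exact pow_mem (mem_zpowers _) 2
    · rw [Set.mem_singleton_iff] at hy
      subst hy
      rw [neg_one_sq]
      exact one_mem _
  | one => rw [one_pow]; exact one_mem _
  | mul y z _ _ h1 h2 => rw [mul_pow]; exact mul_mem h1 h2
  | inv y _ h1 => rw [inv_pow]; exact inv_mem h1

theorem cl_pow_le (c : (ZMod p)ˣ) (k : ℕ) : cl (c ^ k) ≤ cl c := by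
  unfold cl
  rw [closure_le]
  rintro x (rfl | hx)
  · exact pow_mem (mem_cl_self c) k
  · rw [Set.mem_singleton_iff] at hx
    subst hx
    exact neg_one_mem_cl c

/-- the order of `⟨c, -1⟩` is divisible by `q |⟨c ^ (q ^ j), -1⟩|` -/
theorem card_cl (hq : q.Prime) (hq2 : q ≠ 2) {c : (ZMod p)ˣ} (hqc : q ∣ orderOf c) {j : ℕ} (hj : 1 ≤ j) :
    Nat.card (cl (c ^ q ^ j)) * q ∣ Nat.card (cl c) := by
  set C1 := cl (c ^ q ^ j) with hC1
  have hle : C1 ≤ cl c := cl_pow_le c _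
  have hnot : c ∉ C1 := by
    intro h
    obtain ⟨k, hk⟩ := sq_mem h
    have hk' : (c ^ q ^ j) ^ k = c ^ 2 := hk
    have h1 : c ^ ((q : ℤ) ^ j * k - 2) = 1 := by
      rw [zpow_sub, zpow_mul]
      have h2 : c ^ ((q : ℤ) ^ j) = c ^ q ^ j := by
        rw [← Nat.cast_pow, zpow_natCast]
      rw [h2, hk']
      simp
    have h2 : (orderOf c : ℤ) ∣ (q : ℤ) ^ j * k - 2 := orderOf_dvd_iff_zpow_eq_one.2 h1
    have h3 : (q : ℤ) ∣ (q : ℤ) ^ j * k - 2 := (Int.natCast_dvd_natCast.2 hqc).trans h2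
    have h4 : (q : ℤ) ∣ (q : ℤ) ^ j * k := (dvd_pow_self _ (by omega)).mul_right _
    have h5 : (q : ℤ) ∣ 2 := by
      have := dvd_sub h4 h3
      simpa only [_root_.sub_sub_cancel] using this
    have h6 : q ∣ 2 := by exact_mod_cast h5
    exact hq2 ((Nat.prime_dvd_prime_iff_eq hq Nat.prime_two).1 h6)
  -- the class of `c` in the quotient
  let g : ↥(cl c) := ⟨c, mem_cl_self c⟩
  let gb : ↥(cl c) ⧸ C1.subgroupOf (cl c) := QuotientGroup.mk g
  have h1 : gb ^ q ^ j = 1 := by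
    rw [← QuotientGroup.mk_pow, QuotientGroup.eq_one_iff]
    exact mem_cl_self (c ^ q ^ j)
  have h2 : gb ≠ 1 := by
    intro h
    rw [QuotientGroup.eq_one_iff] at h
    exact hnot h
  obtain ⟨i, hi, h3⟩ := (Nat.dvd_prime_pow hq).1 (orderOf_dvd_of_pow_eq_one h1)
  have h4 : i ≠ 0 := by
    rintro rfl
    rw [pow_zero, orderOf_eq_one_iff] at h3
    exact h2 h3
  have h5 : q ∣ Nat.card (↥(cl c) ⧸ C1.subgroupOf (cl c)) := by
    refine Dvd.dvd.trans ?_ (_root_.orderOf_dvd_natCard gb)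
    rw [h3]
    exact dvd_pow_self _ h4
  have h6 := Subgroup.card_eq_card_quotient_mul_card_subgroup (C1.subgroupOf (cl c))
  have h7 : Nat.card (C1.subgroupOf (cl c)) = Nat.card C1 := Nat.card_congr (Subgroup.subgroupOfEquivOfLe hle).toEquiv
  rw [h6, h7, mul_comm]
  exact mul_dvd_mul_right h5 _

/-- invariance of `N` under a closure, away from `0` -/
theorem inv_closure {N : ZMod p → ℕ} {s : Set (ZMod p)ˣ}
    (h : ∀ u ∈ s, ∀ b : ZMod p, b ≠ 0 → N (u * b) = N b) :
    ∀ u ∈ Subgroup.closure s, ∀ b : ZMod p, b ≠ 0 → N (u * b) = N b := by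
  intro u hu
  induction hu using closure_induction with
  | mem y hy => exact h y hy
  | one => intro b _; rw [Units.val_one, one_mul]
  | mul y z _ _ h1 h2 =>
    intro b hb
    rw [Units.val_mul, mul_assoc, h1 _ (mul_ne_zero z.ne_zero hb), h2 b hb]
  | inv y _ h1 =>
    intro b hb
    have := h1 ((y⁻¹ : (ZMod p)ˣ) * b) (mul_ne_zero (Units.ne_zero _) hb)
    rw [← mul_assoc, Units.mul_inv, one_mul] at this
    exact this.symm

/-- the multiplicities on an orbit -/
theorem card_mul_le {N : ZMod p → ℕ} {C : Subgroup (ZMod p)ˣ}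
    (h : ∀ u ∈ C, ∀ b : ZMod p, b ≠ 0 → N (u * b) = N b) {b : ZMod p} (hb : b ≠ 0) :
    Nat.card C * N b ≤ ∑ x, N x := by
  classical
  have := Fintype.ofFinite C
  have h1 : Nat.card C * N b = ∑ u : C, N ((u : (ZMod p)ˣ) * b) := by
    rw [Finset.sum_congr rfl fun (u : C) _ => h u u.2 b hb, Finset.sum_const, Finset.card_univ, smul_eq_mul,
      Nat.card_eq_fintype_card]
  rw [h1]
  have h2 : Function.Injective (fun u : C => (((u : (ZMod p)ˣ) : ZMod p) * b)) := by
    intro u v huv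
    exact Subtype.ext (Units.ext (mul_right_cancel₀ hb huv))
  have h3 : ∑ u : C, N ((u : (ZMod p)ˣ) * b) =
      ∑ x ∈ Finset.univ.map ⟨fun u : C => (((u : (ZMod p)ˣ) : ZMod p) * b), h2⟩, N x := by
    rw [Finset.sum_map]
    rfl
  rw [h3]
  exact Finset.sum_le_sum_of_subset (Finset.subset_univ _)

/-- **The numerical core**: `N` = multiplicities of the values of a functional, `c` = `q₀`, `c ^ (q ^ j)` = `Q`. -/
theorem num_core (hq : q.Prime) (hq2 : q ≠ 2) {N : ZMod p → ℕ} {c : (ZMod p)ˣ} (hqc : q ∣ orderOf c) {j : ℕ}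
    (hj : 1 ≤ j) (hneg : ∀ b, N (-b) = N b) (hQ : ∀ b, b ≠ 0 → N ((c ^ q ^ j : (ZMod p)ˣ) * b) = N b)
    (hc : ∀ b, b ≠ 0 → (p : ℤ) ∣ (N (c * b) : ℤ) - N b)
    (hn : ∑ x, N x < Nat.card (cl (c ^ q ^ j)) * (Nat.card (cl (c ^ q ^ j)) * q + 1)) :
    (∀ b, b ≠ 0 → Nat.card (cl (c ^ q ^ j)) * q * N b ≤ ∑ x, N x) ∧
      Nat.card (cl (c ^ q ^ j)) * q ∣ ∑ x, N x - N 0 := by
  classical
  set e := Nat.card (cl (c ^ q ^ j)) with he
  have hnegu : ∀ b : ZMod p, b ≠ 0 → N (((-1 : (ZMod p)ˣ) : ZMod p) * b) = N b := by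
    intro b _
    rw [Units.val_neg, Units.val_one, neg_one_mul, hneg]
  have h1 : ∀ u ∈ cl (c ^ q ^ j), ∀ b : ZMod p, b ≠ 0 → N (u * b) = N b := by
    refine inv_closure ?_
    rintro u (rfl | hu)
    · exact hQ
    · rw [Set.mem_singleton_iff] at hu
      subst hu
      exact hnegu
  have h2 : ∀ b : ZMod p, b ≠ 0 → e * N b ≤ ∑ x, N x := fun b hb => card_mul_le h1 hb
  have he0 : 0 < e := Nat.card_pos
  have h3 : e * q ∣ Nat.card (cl c) := card_cl hq hq2 hqc hj
  have h4 : Nat.card (cl c) ∣ p - 1 := by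
    have := Subgroup.card_subgroup_dvd_card (cl c)
    rwa [Nat.card_eq_fintype_card (α := (ZMod p)ˣ), ZMod.card_units p] at this
  have hp1 : 0 < p - 1 := Nat.sub_pos_of_lt hp.out.one_lt
  have h5 : e * q < p := by
    have := Nat.le_of_dvd hp1 (h3.trans h4)
    omega
  have h6 : ∀ b : ZMod p, b ≠ 0 → N b < p := by
    intro b hb
    have h7 := (h2 b hb).trans_lt hn
    have h8 := Nat.lt_of_mul_lt_mul_left h7
    omega
  have h7 : ∀ b : ZMod p, b ≠ 0 → N (c * b) = N b := by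
    intro b hb
    have h8 := h6 b hb
    have h9 := h6 (c * b) (mul_ne_zero c.ne_zero hb)
    have h10 := hc b hb
    have h11 := Int.eq_zero_of_abs_lt_dvd h10 (by rw [abs_lt]; constructor <;> push_cast <;> omega)
    omega
  have h8 : ∀ u ∈ cl c, ∀ b : ZMod p, b ≠ 0 → N (u * b) = N b := by
    refine inv_closure ?_
    rintro u (rfl | hu)
    · exact h7
    · rw [Set.mem_singleton_iff] at hu
      subst hu
      exact hnegu
  have hC0 : 0 < Nat.card (cl c) := Nat.card_pos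
  refine ⟨fun b hb => (Nat.mul_le_mul_right _ (Nat.le_of_dvd hC0 h3)).trans (card_mul_le h8 hb), ?_⟩
  refine h3.trans ?_
  have h9 : Nat.card (cl c) ∣ ∑ u : (ZMod p)ˣ, N u :=
    card_dvd_sum (cl c) (fun u : (ZMod p)ˣ => N (u : ZMod p)) fun g hg u => by
      show N ((g * u : (ZMod p)ˣ) : ZMod p) = N u
      rw [Units.val_mul]
      exact h8 g hg _ u.ne_zero
  have h10 : ∑ x, N x - N 0 = ∑ u : (ZMod p)ˣ, N u := by
    have h11 : ∑ x, N x = N 0 + ∑ x ∈ Finset.univ.erase (0 : ZMod p), N x :=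
      (Finset.add_sum_erase _ _ (Finset.mem_univ _)).symm
    rw [h11, Nat.add_sub_cancel_left]
    symm
    refine Finset.sum_bij (fun u _ => (u : ZMod p)) ?_ ?_ ?_ ?_
    · intro u _
      exact Finset.mem_erase.2 ⟨u.ne_zero, Finset.mem_univ _⟩
    · intro u _ v _ huv
      exact Units.ext huv
    · intro b hb
      exact ⟨Units.mk0 b (Finset.mem_erase.1 hb).1, Finset.mem_univ _, rfl⟩
    · intro u _
      rfl
  rw [h10]
  exact h9

/-- `|⟨Q, -1⟩|` is even; it is at least `4` unless `Q² = 1` -/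
theorem four_le_cl (hp2 : p ≠ 2) {u : (ZMod p)ˣ} (h : u ^ 2 ≠ 1) : 2 ∣ Nat.card (cl u) ∧ 4 ≤ Nat.card (cl u) := by
  have hm1 : orderOf (-1 : (ZMod p)ˣ) = 2 := by
    rw [orderOf_eq_iff (by norm_num)]
    refine ⟨by rw [neg_one_sq], fun m hm hm0 h1 => ?_⟩
    have h2 : m = 1 := by omega
    rw [h2, pow_one] at h1
    have h3 : (-1 : ZMod p) = 1 := by
      have := congrArg Units.val h1
      simpa using this
    have h4 : ((2 : ℕ) : ZMod p) = 0 := by
      have h5 : (1 : ZMod p) + 1 = 0 := by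
        nth_rewrite 1 [← h3]
        ring
      push_cast
      rw [← h5]
      norm_num
    rw [ZMod.natCast_eq_zero_iff] at h4
    exact hp2 ((Nat.prime_dvd_prime_iff_eq hp.out Nat.prime_two).1 h4)
  have h2 : 2 ∣ Nat.card (cl u) := by
    rw [← hm1]
    have := _root_.orderOf_dvd_natCard (⟨-1, neg_one_mem_cl u⟩ : cl u)
    rwa [Subgroup.orderOf_mk] at this
  refine ⟨h2, ?_⟩
  by_contra hlt
  have h3 : 0 < Nat.card (cl u) := Nat.card_pos
  have h4 : Nat.card (cl u) = 2 := by omega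
  apply h
  have h5 := pow_card_eq_one' (x := (⟨u, mem_cl_self u⟩ : cl u))
  rw [h4] at h5
  exact congrArg Subtype.val h5

end

end Cfsg.Agent.H660.PQ
end

-- part: H660/PQ/Core
section
/-!
# S4981: the contradiction in the exceptional groups, numerical part (helper660)

`a` a nonzero functional modulo `p` on the root lattice, `N b` the number of roots with value `b`.
-/

set_option autoImplicit false

namespace Cfsg.Agent.H660.PQ

open CoxeterSystem Cfsg.Lie Cfsg.Agent.ChevalleyStructure Cfsg.Agent.ChevalleyStructure.Elts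
  Cfsg.Agent.ChevalleyStructure.CoxeterGeom Cfsg.Agent.ChevalleyStructure.CoxeterGeomTypes Cfsg.Agent.Tits.Roots
  Cfsg.Agent.Nodes.RGDChev Cfsg.Agent.ChevalleyStructure.RootVec

section

variable {D : ChevalleyDatum} {l : ℕ} {M : CoxeterMatrix (Fin l)} {p q : ℕ}

/-- the number of roots with value `b` -/
def nb (D : ChevalleyDatum) {l p : ℕ} (a : (Fin l → ℤ) →+ ZMod p) (b : ZMod p) : ℕ :=
  cnt D (fun r => a (vec D l r)) b

theorem nb_pos {a : (Fin l → ℤ) →+ ZMod p} {b : ZMod p} (h : nb D a b ≠ 0) : ∃ r < D.nroots, a (vec D l r) = b := by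
  unfold nb cnt at h
  obtain ⟨s, hs⟩ := Finset.card_pos.1 (Nat.pos_of_ne_zero h)
  rw [Finset.mem_filter, Finset.mem_range] at hs
  exact ⟨s, hs.1, hs.2⟩

theorem nb_inj {a : (Fin l → ℤ) →+ ZMod p} {b : ZMod p} (h : nb D a b ≤ 1) {r s : ℕ} (hr : r < D.nroots)
    (hs : s < D.nroots) (hra : a (vec D l r) = b) (hsa : a (vec D l s) = b) : r = s := by
  unfold nb cnt at h
  exact Finset.card_le_one.1 h r (Finset.mem_filter.2 ⟨Finset.mem_range.2 hr, hra⟩) s
    (Finset.mem_filter.2 ⟨Finset.mem_range.2 hs, hsa⟩)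

theorem nb_neg (hD : IsType D l M) (a : (Fin l → ℤ) →+ ZMod p) (b : ZMod p) : nb D a (-b) = nb D a b := by
  unfold nb cnt
  refine Finset.card_bij (fun r _ => D.neg r) ?_ ?_ ?_
  · intro r hr
    rw [Finset.mem_filter, Finset.mem_range] at hr ⊢
    refine ⟨neg_lt hD.checked hr.1, ?_⟩
    have h : a (vec D l r) = -b := hr.2
    show a (vec D l (D.neg r)) = b
    rw [vec_neg hD hr.1, map_neg, h, _root_.neg_neg]
  · intro r hr s hs h
    rw [Finset.mem_filter, Finset.mem_range] at hr hs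
    exact neg_inj hD.checked hr.1 hs.1 h
  · intro s hs
    rw [Finset.mem_filter, Finset.mem_range] at hs
    refine ⟨D.neg s, ?_, RootVec.neg_neg hD.checked hs.1⟩
    rw [Finset.mem_filter, Finset.mem_range]
    refine ⟨neg_lt hD.checked hs.1, ?_⟩
    have h : a (vec D l s) = b := hs.2
    show a (vec D l (D.neg s)) = -b
    rw [vec_neg hD hs.1, map_neg, h]

theorem sum_nb [NeZero p] (a : (Fin l → ℤ) →+ ZMod p) : ∑ b, nb D a b = D.nroots := by
  unfold nb cnt
  rw [← Finset.card_eq_sum_card_fiberwise (f := fun r => a (vec D l r)) (t := Finset.univ)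
    (fun _ _ => Finset.mem_univ _), Finset.card_range]

/-- a nonzero functional which takes every nonzero value at most once does not vanish on any root -/
theorem nb_zero (hD : IsType D l M) (hc : Conn (cartanOf D l)) {a : (Fin l → ℤ) →+ ZMod p} (ha : a ≠ 0)
    (h1 : ∀ b, b ≠ 0 → nb D a b ≤ 1) : nb D a 0 = 0 := by
  by_contra h
  obtain ⟨s, hs, hs0⟩ := nb_pos h
  refine ha (root1 hD M.toCoxeterSystem hc a ?_ (isRoot_vec hD M.toCoxeterSystem hs) hs0)
  intro x y hx hy hxy hx0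
  obtain ⟨r, hr, rfl⟩ := (isRoot_iff hD M.toCoxeterSystem x).1 hx
  obtain ⟨r', hr', rfl⟩ := (isRoot_iff hD M.toCoxeterSystem y).1 hy
  rw [nb_inj (h1 _ hx0) hr hr' rfl hxy.symm]

variable [hp : Fact p.Prime]

/-- **no example if `8 q` exceeds the number of roots** -/
theorem num_false (hD : IsType D l M) (hc : Conn (cartanOf D l)) {a : (Fin l → ℤ) →+ ZMod p} (ha : a ≠ 0)
    (hq : q.Prime) (hq2 : q ≠ 2) {c : (ZMod p)ˣ} (hqc : q ∣ orderOf c) {j : ℕ} (hj : 1 ≤ j)
    (hQ : ∀ b, b ≠ 0 → nb D a ((c ^ q ^ j : (ZMod p)ˣ) * b) = nb D a b)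
    (hcc : ∀ b, b ≠ 0 → (p : ℤ) ∣ (nb D a (c * b) : ℤ) - nb D a b) (h4 : 4 ≤ Nat.card (cl (c ^ q ^ j)))
    (hn : D.nroots < 2 * (Nat.card (cl (c ^ q ^ j)) * q)) (hqn : ¬ q ∣ D.nroots) : False := by
  set e := Nat.card (cl (c ^ q ^ j)) with he
  have h8 : D.nroots < e * (e * q + 1) := by
    refine hn.trans_le ?_
    have : 2 * (e * q) ≤ e * (e * q) := Nat.mul_le_mul_right _ (by omega)
    linarith only [this]
  obtain ⟨h1, h2⟩ := num_core hq hq2 hqc hj (nb_neg hD a) hQ hcc (by rw [sum_nb]; exact h8)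
  rw [sum_nb] at h1 h2
  have h3 : ∀ b, b ≠ 0 → nb D a b ≤ 1 := by
    intro b hb
    by_contra hcon
    have h5 := h1 b hb
    rw [← he] at h5
    have h6 : e * q * 2 ≤ e * q * nb D a b := Nat.mul_le_mul_left _ (by omega)
    omega
  rw [nb_zero hD hc ha h3, Nat.sub_zero] at h2
  exact hqn ((Dvd.intro_left _ rfl).trans h2)

/-- `a` restricted to the roots is linear -/
theorem lin_of (hD : IsType D l M) (a : (Fin l → ℤ) →+ ZMod p) : Lin D (fun r => a (vec D l r)) := by
  classical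
  refine ⟨fun j => if h : j < l then a (sr ⟨j, h⟩) else 0, fun s hs => ?_⟩
  have e : vec D l s = ∑ i, vec D l s i • (sr i : Fin l → ℤ) := by
    funext j
    rw [Finset.sum_apply, Finset.sum_eq_single j]
    · rw [Pi.smul_apply, sr_self, smul_eq_mul, mul_one]
    · intro i _ hi
      rw [Pi.smul_apply, sr_ne (Ne.symm hi), smul_zero]
    · intro hj
      exact absurd (Finset.mem_univ j) hj
  show a (vec D l s) = _
  rw [e, map_sum, hD.rank_eq, ← Fin.sum_univ_eq_sum_range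
    (fun j => ((rt D s j : ℤ) : ZMod p) * if h : j < l then a (sr ⟨j, h⟩) else 0)]
  refine Finset.sum_congr rfl fun i _ => ?_
  rw [map_zsmul, dif_pos i.2, zsmul_eq_mul]
  rfl

/-- **no example in `E8`** -/
theorem num_false_e8 {a : (Fin 8 → ℤ) →+ ZMod p} (ha : a ≠ 0)
    (hpar : (∀ b : ZMod p, b ≠ 0 → cnt chevE8 (fun r => a (vec chevE8 8 r)) b ≤ 3) →
      (∃ s < 240, a (vec chevE8 8 s) = 0) → (∃ r < 240, a (vec chevE8 8 r) ≠ 0) →
      cnt chevE8 (fun r => a (vec chevE8 8 r)) 0 % 4 = 2 ∧ cnt chevE8 (fun r => a (vec chevE8 8 r)) 0 ≤ 114)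
    (hq : q.Prime) (hq17 : 17 ≤ q) {c : (ZMod p)ˣ} (hqc : q ∣ orderOf c) {j : ℕ} (hj : 1 ≤ j)
    (hQ : ∀ b, b ≠ 0 → nb chevE8 a ((c ^ q ^ j : (ZMod p)ˣ) * b) = nb chevE8 a b)
    (hcc : ∀ b, b ≠ 0 → (p : ℤ) ∣ (nb chevE8 a (c * b) : ℤ) - nb chevE8 a b)
    (h2e : 2 ∣ Nat.card (cl (c ^ q ^ j))) (h4 : 4 ≤ Nat.card (cl (c ^ q ^ j))) : False := by
  have hD : IsType chevE8 8 CoxeterMatrix.E₈ := by simp [IsType, typeList]
  have hn : chevE8.nroots = 240 := by decide +kernel
  have hq240 : ¬ q ∣ 240 := by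
    intro h
    have h1 : (240 : ℕ) = 2 ^ 4 * (3 * 5) := by norm_num
    rw [h1] at h
    rcases hq.dvd_mul.1 h with h | h
    · have := (Nat.prime_dvd_prime_iff_eq hq Nat.prime_two).1 (hq.dvd_of_dvd_pow h); omega
    · rcases hq.dvd_mul.1 h with h | h
      · have := (Nat.prime_dvd_prime_iff_eq hq Nat.prime_three).1 h; omega
      · have := (Nat.prime_dvd_prime_iff_eq hq Nat.prime_five).1 h; omega
  by_cases hbig : chevE8.nroots < 2 * (Nat.card (cl (c ^ q ^ j)) * q)
  · exact num_false hD conn_e8 ha hq (by omega) hqc hj hQ hcc h4 hbig (by rw [hn]; exact hq240)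
  · rw [hn] at hbig
    set e := Nat.card (cl (c ^ q ^ j)) with he
    have h68 : 68 ≤ e * q := by
      calc 68 = 4 * 17 := by norm_num
        _ ≤ e * q := Nat.mul_le_mul h4 hq17
    have h8 : 240 < e * (e * q + 1) := by
      calc 240 < 4 * 69 := by norm_num
        _ ≤ e * (e * q + 1) := Nat.mul_le_mul h4 (by omega)
    obtain ⟨h1, h2⟩ := num_core hq (by omega) hqc hj (nb_neg hD a) hQ hcc (by rw [sum_nb, hn]; exact h8)
    rw [sum_nb, hn, ← he] at h1 h2
    have h3 : ∀ b, b ≠ 0 → nb chevE8 a b ≤ 3 := by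
      intro b hb
      by_contra hcon
      have h5 := h1 b hb
      have h6 : e * q * 4 ≤ e * q * nb chevE8 a b := Nat.mul_le_mul_left _ (by omega)
      omega
    have he7 : e ≤ 7 := by
      by_contra hcon
      have h6 : 8 * 17 ≤ e * q := Nat.mul_le_mul (by omega) hq17
      omega
    rcases Nat.eq_zero_or_pos (nb chevE8 a 0) with hz | hz
    · rw [hz, Nat.sub_zero] at h2
      exact hq240 ((Dvd.intro_left _ rfl).trans h2)
    · obtain ⟨s, hs⟩ := nb_pos hz.ne'
      rw [hn] at hs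
      have hne : ∃ r < 240, a (vec chevE8 8 r) ≠ 0 := by
        by_contra hcon
        push Not at hcon
        apply ha
        ext i
        have h5 := hcon (chevE8.simple i) (by
          rw [← hn]; exact NPerm.simple_lt hD.inList (lt_rank hD i))
        rw [vec_simple hD i] at h5
        simpa only [sr, _root_.AddMonoidHom.coe_comp, _root_.AddMonoidHom.coe_single, _root_.Function.comp_apply, _root_.AddMonoidHom.zero_comp, _root_.AddMonoidHom.zero_apply] using h5
      obtain ⟨h5, h6⟩ := hpar h3 ⟨s, hs.1, hs.2⟩ hne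
      change nb chevE8 a 0 % 4 = 2 at h5
      change nb chevE8 a 0 ≤ 114 at h6
      set z := nb chevE8 a 0 with hz0
      have he46 : e = 4 ∨ e = 6 := by omega
      rcases he46 with h | h
      · rw [h] at h2
        have h7 : 4 ∣ 240 - z := (Dvd.intro _ rfl).trans h2
        omega
      · rw [h] at h2 hbig
        have hq20 : q ≤ 20 := by omega
        obtain ⟨m, hm⟩ := h2
        interval_cases q <;> (clear * - h5 h6 hm hp hne hq240; omega)

end

end Cfsg.Agent.H660.PQ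
end

-- part: H660/PQ/Tor
section
/-!
# S4981: the functional of a torus element of order `p` (helper660)

`exists_log` : a torus element `t`, `t ^ p = 1`, is given by a functional `a` modulo `p` on the root lattice;
`count_rts` : the eigenvalues of `t` and the numbers `nb D a b`.
-/

set_option autoImplicit false

namespace Cfsg.Agent.H660.PQ

open CoxeterSystem Cfsg.Lie Cfsg.Agent.ChevalleyStructure Cfsg.Agent.ChevalleyStructure.Elts
  Cfsg.Agent.ChevalleyStructure.CoxeterGeom Cfsg.Agent.ChevalleyStructure.CoxeterGeomTypes Cfsg.Agent.Tits.Roots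
  Cfsg.Agent.Nodes.RGDChev Cfsg.Agent.H129.TorusChar Cfsg.Agent.BpExc.TorChev
  Cfsg.Agent.KFacts.RgdChevCoord

universe u

/-! ### the roots of unity -/

section ze

variable {p : ℕ} [hp : Fact p.Prime] {K : Type u} [Field K] {ζ : K} (hζ : IsPrimitiveRoot ζ p)

include hζ

theorem ze_nat (n : ℕ) : ζ ^ (n : ZMod p).val = ζ ^ n := by
  rw [ZMod.val_natCast]
  nth_rewrite 1 [hζ.eq_orderOf]
  rw [pow_mod_orderOf]

theorem ze_add (b c : ZMod p) : ζ ^ (b + c).val = ζ ^ b.val * ζ ^ c.val := by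
  rw [← pow_add, ← ze_nat hζ (b.val + c.val), Nat.cast_add, ZMod.natCast_zmod_val, ZMod.natCast_zmod_val]

theorem ze_mul (n : ℕ) (b : ZMod p) : ζ ^ ((n : ZMod p) * b).val = (ζ ^ b.val) ^ n := by
  rw [← pow_mul, ← ze_nat hζ (b.val * n), Nat.cast_mul, ZMod.natCast_zmod_val, mul_comm]

theorem ze_inj {b c : ZMod p} (h : ζ ^ b.val = ζ ^ c.val) : b = c :=
  ZMod.val_injective p (hζ.pow_inj b.val_lt c.val_lt h)

theorem ze_surj {x : K} (hx : x ^ p = 1) : ∃ b : ZMod p, x = ζ ^ b.val := by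
  obtain ⟨i, hi, h⟩ := hζ.eq_pow_of_pow_eq_one hx
  exact ⟨i, by rw [ze_nat hζ, h]⟩

omit hp in
theorem ze_pow (b : ZMod p) : (ζ ^ b.val) ^ p = 1 := by
  rw [← pow_mul, mul_comm, pow_mul, hζ.pow_eq_one, one_pow]

omit hζ in
theorem ze_zero : ζ ^ (0 : ZMod p).val = 1 := by rw [ZMod.val_zero, pow_zero]

end ze

/-! ### the functional -/

section tor

variable {D : ChevalleyDatum} {l : ℕ} {M : CoxeterMatrix (Fin l)} (hD : IsType D l M) {p : ℕ} [hp : Fact p.Prime]
  {K : Type u} [Field K] {ζ : K} (hζ : IsPrimitiveRoot ζ p) {t : ↥(D.group K)} (ht : t ∈ TT D K) (htp : t ^ p = 1)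

include hζ ht htp

theorem exists_log : ∃ a : (Fin l → ℤ) →+ ZMod p, ∀ x, cX hD t x = ζ ^ (a x).val := by
  have h1 : ∀ x, ∃ b : ZMod p, cX hD t x = ζ ^ b.val := fun x =>
    ze_surj hζ (by rw [← cX_pow hD ht, htp, cX_one])
  choose a ha using h1
  refine ⟨AddMonoidHom.mk' a fun x y => ?_, fun x => by rw [AddMonoidHom.mk'_apply, ha]⟩
  apply ze_inj hζ
  rw [ze_add hζ, ← ha, ← ha, ← ha, (isMC_cX hD ht).add]

omit htp in
theorem log_ne_zero (ht1 : t ≠ 1) {a : (Fin l → ℤ) →+ ZMod p} (ha : ∀ x, cX hD t x = ζ ^ (a x).val) : a ≠ 0 := by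
  rintro rfl
  apply ht1
  refine cX_inj hD ht (one_mem _) fun i => ?_
  rw [ha, cX_one, AddMonoidHom.zero_apply, ze_zero]

end tor

/-! ### counting -/

section count

variable {p : ℕ} [hp : Fact p.Prime] {K : Type u} [Field K] [DecidableEq K]

/-- the eigenvalues of a power -/
theorem count_map_pow {R : Multiset K} (hR : ∀ x ∈ R, x ^ p = 1) {w : ℕ} (hw : ¬ p ∣ w) {μ : K} (hμ : μ ^ p = 1) :
    (R.map (· ^ w)).count (μ ^ w) = R.count μ := by
  rw [Multiset.count_map, Multiset.count_eq_card_filter_eq]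
  congr 1
  refine Multiset.filter_congr fun x hx => ?_
  constructor
  · intro h
    have h1 := hR x hx
    have hx0 : x ≠ 0 := by
      rintro rfl
      rw [zero_pow hp.out.ne_zero] at h1
      exact zero_ne_one h1
    have h2 : (μ / x) ^ w = 1 := by rw [div_pow, h, div_self (pow_ne_zero _ hx0)]
    have h3 : (μ / x) ^ p = 1 := by rw [div_pow, hμ, h1, div_one]
    have h4 : (μ / x) ^ Nat.gcd w p = 1 := pow_gcd_eq_one.2 ⟨h2, h3⟩
    rw [((Nat.Prime.coprime_iff_not_dvd hp.out).2 hw).symm, pow_one] at h4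
    exact (div_eq_one_iff_eq hx0).1 h4
  · rintro rfl
    rfl

/-- the multiset of the eigenvalues of a torus element -/
theorem count_diag {a b : ℕ} (f : Fin b → K) {μ : K} (hμ : μ ≠ 1) :
    (((Finset.univ : Finset (Fin a ⊕ Fin b)).val.map (Sum.elim (fun _ => (1 : K)) f))).count μ =
      (Finset.univ.filter fun s => f s = μ).card := by
  rw [Multiset.count_map, ← Finset.filter_val]
  have e : (Finset.univ.filter fun i : Fin a ⊕ Fin b => μ = Sum.elim (fun _ => (1 : K)) f i) =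
      (∅ : Finset (Fin a)).disjSum (Finset.univ.filter fun s => f s = μ) := by
    ext i
    rcases i with i | i
    · simp only [hμ, _root_.Finset.mem_filter, _root_.Finset.mem_univ, _root_.Sum.elim_inl, _root_.and_false, _root_.Finset.empty_disjSum, _root_.Finset.mem_map, _root_.true_and, _root_.Function.Embedding.inr_apply, _root_.reduceCtorEq, _root_.exists_false]
    · simp only [eq_comm, _root_.Finset.mem_filter, _root_.Finset.mem_univ, _root_.Sum.elim_inr, _root_.true_and, _root_.Finset.empty_disjSum, _root_.Finset.mem_map, _root_.Function.Embedding.inr_apply, _root_.Sum.inr.injEq, _root_.exists_eq_right']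
  rw [e]
  show (Finset.card _) = _
  rw [Finset.card_disjSum, Finset.card_empty, zero_add]

omit [DecidableEq K] [Field K] hp in
theorem card_filter_fin {n : ℕ} (P : ℕ → Prop) [DecidablePred P] :
    (Finset.univ.filter fun s : Fin n => P s).card = ((Finset.range n).filter P).card := by
  refine Finset.card_bij (fun s _ => (s : ℕ)) ?_ ?_ ?_
  · intro s hs
    rw [Finset.mem_filter] at hs
    exact Finset.mem_filter.2 ⟨Finset.mem_range.2 s.2, hs.2⟩
  · intro s _ s' _ h
    exact Fin.ext h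
  · intro s hs
    rw [Finset.mem_filter, Finset.mem_range] at hs
    exact ⟨⟨s, hs.1⟩, Finset.mem_filter.2 ⟨Finset.mem_univ _, hs.2⟩, rfl⟩

end count

end Cfsg.Agent.H660.PQ
end

-- part: H660/PQ/Exc
section
/-!
# S4981: no example in exceptional groups, if the parameter satisfies `u² ≠ 1` modulo `p` (helper660)

`exc_false` : `G ≤ D.group F` stable under field automorphisms, `φ ≠ 1` a field automorphism of `q`-power order,
`|Fx φ| = s ^ d`, `q ∤ d`, `q ∣ ord_p |Fx φ|`, the eigenvalues of the elements of `G` are closed under the power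
`u = s ^ ord φ`, `u² ≠ 1` modulo `p`; the numerical statement `main` is `num_false` or `num_false_e8`.
-/

set_option autoImplicit false

open Polynomial Cfsg

namespace Cfsg.Agent.H660.PQ

open Cfsg.Lie Cfsg.Agent.ChevalleyStructure Cfsg.Agent.ChevalleyStructure.Elts
  Cfsg.Agent.ChevalleyStructure.CoxeterGeom Cfsg.Agent.ChevalleyStructure.CoxeterGeomTypes Cfsg.Agent.Tits.Roots
  Cfsg.Agent.Nodes.RGDChev Cfsg.Agent.H129.TorusChar Cfsg.Agent.BpExc.TorChev
  Cfsg.Agent.KFacts.RgdChevCoord Cfsg.Agent.H54.PQ Cfsg.Agent.H754.PQ Cfsg.Agent.H967.CopMat Cfsg.Agent.H967.CopChev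

open scoped MatrixGroups

/-- a primitive `p`-th root of unity -/
theorem exists_prim {K : Type*} [Field K] [Fintype K] {p : ℕ} [hp : Fact p.Prime] (h : p ∣ Fintype.card K - 1) :
    ∃ ζ : K, IsPrimitiveRoot ζ p := by
  classical
  rw [← Fintype.card_units] at h
  obtain ⟨x, hx⟩ := exists_prime_orderOf_dvd_card p h
  refine ⟨x, ?_⟩
  rw [IsPrimitiveRoot.coe_units_iff, ← hx]
  exact IsPrimitiveRoot.orderOf x

/-- roots of the characteristic polynomial of a diagonal matrix -/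
theorem roots_diag {ι : Type*} [Fintype ι] [DecidableEq ι] {K : Type*} [Field K] (d : ι → K) :
    (Matrix.diagonal d).charpoly.roots = Finset.univ.val.map d := by
  rw [Matrix.charpoly_diagonal]
  have h : (∏ i, (X - C (d i))) = ((Finset.univ.val.map d).map fun a => X - C a).prod := by
    rw [Multiset.map_map]
    rfl
  rw [h, Polynomial.roots_multiset_prod_X_sub_C]

/-- `p` does not divide the order of a field in which `p` is not zero -/
theorem not_dvd_card {F : Type*} [Field F] [Finite F] {p : ℕ} (hp : p.Prime) (hpF : (p : F) ≠ 0) :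
    ¬ p ∣ Nat.card F := by
  classical
  have := Fintype.ofFinite F
  intro h
  obtain ⟨r, hr⟩ := CharP.exists F
  obtain ⟨n, hrp, hn⟩ := FiniteField.card F r
  rw [Nat.card_eq_fintype_card, hn] at h
  have h1 := (Nat.prime_dvd_prime_iff_eq hp hrp).1 (hp.dvd_of_dvd_pow h)
  subst h1
  exact hpF (CharP.cast_eq_zero F p)

section

variable {D : ChevalleyDatum} {l : ℕ} {M : CoxeterMatrix (Fin l)} {p q : ℕ} [hp : Fact p.Prime] [hq : Fact q.Prime]

/-- the units for which the numbers are congruent modulo `p` form a subgroup -/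
theorem congr_gcd {N : ZMod p → ℕ} {c : (ZMod p)ˣ} {m n : ℕ}
    (hm : ∀ b, b ≠ 0 → (p : ℤ) ∣ (N ((c ^ m : (ZMod p)ˣ) * b) : ℤ) - N b)
    (hn : ∀ b, b ≠ 0 → (p : ℤ) ∣ (N ((c ^ n : (ZMod p)ˣ) * b) : ℤ) - N b) (hmn : Nat.gcd m n = 1) :
    ∀ b, b ≠ 0 → (p : ℤ) ∣ (N (c * b) : ℤ) - N b := by
  let H : Subgroup (ZMod p)ˣ :=
    { carrier := {w | ∀ b : ZMod p, b ≠ 0 → (p : ℤ) ∣ (N (w * b) : ℤ) - N b}
      one_mem' := fun b _ => by rw [Units.val_one, one_mul, sub_self]; exact dvd_zero _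
      mul_mem' := fun {x y} hx hy b hb => by
        have h1 := hx (y * b) (mul_ne_zero y.ne_zero hb)
        have h2 := hy b hb
        rw [Units.val_mul, mul_assoc]
        have h3 := dvd_add h1 h2
        rwa [sub_add_sub_cancel] at h3
      inv_mem' := fun {x} hx b hb => by
        have h1 := hx ((x⁻¹ : (ZMod p)ˣ) * b) (mul_ne_zero (Units.ne_zero _) hb)
        rw [← mul_assoc, Units.mul_inv, one_mul] at h1
        rw [← dvd_neg, neg_sub]
        exact h1 }
  have h1 : c ^ m ∈ H := hm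
  have h2 : c ^ n ∈ H := hn
  have h3 : c ∈ H := by
    have h4 : c = (c ^ m) ^ (Nat.gcdA m n) * (c ^ n) ^ (Nat.gcdB m n) := by
      rw [← zpow_natCast, ← zpow_natCast, ← zpow_mul, ← zpow_mul, ← zpow_add, ← Nat.gcd_eq_gcd_ab, hmn, Nat.cast_one,
        zpow_one]
    rw [h4]
    exact mul_mem (zpow_mem h1 _) (zpow_mem h2 _)
  exact h3

/-- **no example in exceptional groups**, `u² ≠ 1` modulo `p` -/
theorem exc_false (hD : IsType D l M) (h7 : 7 < p) {F : Type} [Field F] [Finite F] (hpF : (p : F) ≠ 0)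
    {G : Subgroup (GL D.Idx F)} (hG : Stab G) (hle : G ≤ D.group F) {A Φ : Subgroup (MulAut ↥G)} {φ : F ≃+* F}
    (hφ : φ ≠ 1) (hF : FSit p q (fieldAut hG) A Φ φ) (hinv : InvHyp p A Φ) (hpG : p ∣ Nat.card ↥G)
    {s d : ℕ} (hs : Nat.card (Fx φ) = s ^ d) (hd : ¬ q ∣ d) (hord : q ∣ orderOf ((Nat.card (Fx φ) : ℕ) : ZMod p))
    (hui : ∀ (K : Type) [Field K] [Finite K] [Algebra F K],
      (∀ g : ↥G, ((g : GL D.Idx F) : Matrix D.Idx D.Idx F).charpoly.map (algebraMap F K) |>.Splits) → ∀ x : ↥G,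
      (rts G.subtype K x).map (· ^ (s ^ orderOf φ)) = rts G.subtype K x)
    (hu2 : ((s ^ orderOf φ : ℕ) : ZMod p) ^ 2 ≠ 1)
    (main : ∀ (a : (Fin l → ℤ) →+ ZMod p) (c : (ZMod p)ˣ) (j : ℕ), a ≠ 0 → q ∣ orderOf c → 1 ≤ j →
      (∀ b, b ≠ 0 → nb D a ((c ^ q ^ j : (ZMod p)ˣ) * b) = nb D a b) →
      (∀ b, b ≠ 0 → (p : ℤ) ∣ (nb D a (c * b) : ℤ) - nb D a b) → 2 ∣ Nat.card (cl (c ^ q ^ j)) →
      4 ≤ Nat.card (cl (c ^ q ^ j)) → False) : False := by
  classical
  have := Fintype.ofFinite ↥G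
  have hp2 : p ≠ 2 := by omega
  obtain ⟨K, _, _, _, hsf, hK⟩ := exists_big_field hp.out hpF
    (∏ g : ↥G, (((g : GL D.Idx F) : Matrix D.Idx D.Idx F)).charpoly)
    (Finset.prod_ne_zero_iff.2 fun g _ => (Matrix.charpoly_monic _).ne_zero)
  have hsp : ∀ g : ↥G, ((((g : GL D.Idx F) : Matrix D.Idx D.Idx F)).charpoly.map (algebraMap F K)).Splits := by
    intro g
    rw [Polynomial.map_prod] at hsf
    refine hsf.of_dvd ?_ (Finset.dvd_prod_of_mem _ (Finset.mem_univ g))
    exact Finset.prod_ne_zero_iff.2 fun g _ => ((Matrix.charpoly_monic _).map _).ne_zero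
  obtain ⟨ζ, hζ⟩ := exists_prim (K := K) hK
  obtain ⟨T, hT1, hT2⟩ := exists_torus_sylow hD.inList K h7 hK
  obtain ⟨k, b₀, hb1, hk, -, hkx, ⟨x, hx⟩, -⟩ := exists_k p ↥G hpG
  have hleK : ∀ g ∈ G, Matrix.GeneralLinearGroup.map (algebraMap F K) g ∈ D.group K := fun g hg =>
    map_group_le D (algebraMap F K) ⟨g, hle hg, rfl⟩
  have hker : ∀ z ∈ (MonoidHom.id ↥G).ker, z = 1 := fun z hz => hz
  have hkp : ¬ p ∣ Nat.card (MonoidHom.id ↥G).ker := by
    have h1 : (MonoidHom.id ↥G).ker = ⊥ := by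
      rw [Subgroup.eq_bot_iff_forall]
      exact hker
    rw [h1, Subgroup.card_bot]
    exact hp.out.not_dvd_one
  obtain ⟨j', hj', hmult⟩ := row_mult (p := p) (q := q) hp2 hpF hF hinv hG (MonoidHom.id ↥G) Function.surjective_id
    (fun z hz => by rw [hker z hz]; exact one_mem _) hkp (fun σ g => rfl) (fun g hg => hsp ⟨g, hg⟩) (stab_group D K)
    hleK hT2 hk (fun z hz => by rw [hker z hz, one_pow]) (x := x) ⟨b₀, by rw [← hx, pow_orderOf_eq_one]⟩
  -- the torus element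
  set y : ↥(D.group K) := ⟨Matrix.GeneralLinearGroup.map (algebraMap F K) (x : GL D.Idx F), hleK _ x.2⟩ with hy
  have hyj : y ^ p ^ b₀ = 1 := by
    refine Subtype.ext ?_
    show (Matrix.GeneralLinearGroup.map (algebraMap F K) (x : GL D.Idx F)) ^ p ^ b₀ = 1
    have h1 : (x : GL D.Idx F) ^ p ^ b₀ = 1 := by
      have h2 : x ^ p ^ b₀ = 1 := by rw [← hx, pow_orderOf_eq_one]
      have h3 := congrArg Subtype.val h2
      exact h3
    rw [← map_pow, h1, map_one]
  obtain ⟨g, hg⟩ := exists_conj_mem T ⟨b₀, hyj⟩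
  set t : ↥(D.group K) := (g * y * g⁻¹) ^ k with ht
  have htT : t ∈ TT D K := by
    rw [Subgroup.mem_subgroupOf]
    exact hT1 t (pow_mem hg k)
  have hyk : ((y ^ k : ↥(D.group K)) : GL D.Idx K) =
      Matrix.GeneralLinearGroup.map (algebraMap F K) ((x ^ k : ↥G) : GL D.Idx F) := by
    rw [Subgroup.coe_pow, Subgroup.coe_pow, map_pow]
  have htp : t ^ p = 1 := by
    have h1 : (y ^ k) ^ p = 1 := by
      refine Subtype.ext ?_
      rw [Subgroup.coe_pow, hyk, ← map_pow, ← Subgroup.coe_pow, hk, Subgroup.coe_one, map_one, Subgroup.coe_one]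
    rw [ht, conj_pow, conj_pow, h1, mul_one, mul_inv_cancel]
  have ht1 : t ≠ 1 := by
    intro h
    rw [ht, conj_pow] at h
    have h1 : y ^ k = 1 := conj_eq_one_iff.1 h
    have h2 : Matrix.GeneralLinearGroup.map (algebraMap F K) ((x ^ k : ↥G) : GL D.Idx F) = 1 := by
      rw [← hyk, h1, Subgroup.coe_one]
    have h3 : ((x ^ k : ↥G) : GL D.Idx F) = 1 :=
      Cfsg.Agent.H967.CopMat.map_injective (algebraMap F K) (by rw [h2, map_one])
    exact hkx x hx (Subtype.ext h3)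
  set R := rts G.subtype K (x ^ k) with hR
  have hRd : R = (Finset.univ : Finset D.Idx).val.map (Sum.elim (fun _ => (1 : K))
      (fun s : Fin D.nroots => cX hD t (vec D l s))) := by
    have h1 : ((((x ^ k : ↥G) : GL D.Idx F) : Matrix D.Idx D.Idx F)).charpoly.map (algebraMap F K) =
        ((t : GL D.Idx K) : Matrix D.Idx D.Idx K).charpoly := by
      have h2 : (t : GL D.Idx K) = (g : GL D.Idx K) *
          Matrix.GeneralLinearGroup.map (algebraMap F K) ((x ^ k : ↥G) : GL D.Idx F) * (g : GL D.Idx K)⁻¹ := by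
        rw [ht, conj_pow, Subgroup.coe_mul, Subgroup.coe_mul, Subgroup.coe_inv, hyk]
      rw [h2, Units.val_mul, Units.val_mul, Matrix.coe_units_inv, Matrix.charpoly_units_conj]
      have h3 : ((Matrix.GeneralLinearGroup.map (algebraMap F K) ((x ^ k : ↥G) : GL D.Idx F) : GL D.Idx K) :
          Matrix D.Idx D.Idx K) = (((x ^ k : ↥G) : GL D.Idx F) : Matrix D.Idx D.Idx F).map (algebraMap F K) := rfl
      rw [h3, Matrix.charpoly_map]
    show (((((x ^ k : ↥G) : GL D.Idx F) : Matrix D.Idx D.Idx F)).charpoly.map (algebraMap F K)).roots = _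
    rw [h1, Cfsg.Agent.H501.TorStr.coe_TT hD htT, roots_diag]
  have hRp : ∀ μ ∈ R, μ ^ p = 1 := rhoK_pow_mem G.subtype K (hk x)
  -- the functional
  obtain ⟨a, ha⟩ := exists_log hD hζ htT htp
  have ha0 : a ≠ 0 := log_ne_zero hD hζ htT ht1 ha
  have hcount : ∀ b : ZMod p, b ≠ 0 → R.count (ζ ^ b.val) = nb D a b := by
    intro b hb
    have hb1 : ζ ^ b.val ≠ 1 := by
      intro h
      apply hb
      apply ze_inj hζ
      rw [h, ze_zero]
    rw [hRd]
    refine (count_diag (a := D.rank) (b := D.nroots) (fun s => cX hD t (vec D l s)) hb1).trans ?_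
    unfold nb cnt
    rw [← card_filter_fin]
    congr 1
    refine Finset.filter_congr fun s _ => ?_
    rw [ha]
    constructor
    · exact fun h => ze_inj hζ h
    · intro h
      have h' : a (vec D l s) = b := h
      rw [h']
  -- the parameter
  obtain ⟨i, hi⟩ := hF.φ
  have hpc : ¬ p ∣ s ^ d := by
    rw [← hs]
    intro h
    refine not_dvd_card hp.out hpF (h.trans ?_)
    rw [card_Fx φ]
    exact dvd_pow_self _ (by rw [hi]; exact pow_ne_zero _ hq.out.ne_zero)
  have hd0 : d ≠ 0 := by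
    rintro rfl
    exact hd (dvd_zero q)
  have hps : ¬ p ∣ s := fun h => hpc (h.trans (dvd_pow_self _ hd0))
  have hs0 : ((s : ℕ) : ZMod p) ≠ 0 := by rwa [Ne, ZMod.natCast_eq_zero_iff]
  set c : (ZMod p)ˣ := Units.mk0 ((s : ℕ) : ZMod p) hs0 with hc
  have hi1 : 1 ≤ i := by
    by_contra hcon
    have h1 : i = 0 := by omega
    rw [h1, pow_zero, orderOf_eq_one_iff] at hi
    exact hφ hi
  have hqc : q ∣ orderOf c := by
    have h1 : ((Nat.card (Fx φ) : ℕ) : ZMod p) = ((c ^ d : (ZMod p)ˣ) : ZMod p) := by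
      rw [hs, Nat.cast_pow, Units.val_pow_eq_pow_val, hc, Units.val_mk0]
    rw [h1, orderOf_units] at hord
    exact hord.trans (orderOf_pow_dvd d)
  have hcu : ((c ^ q ^ i : (ZMod p)ˣ) : ZMod p) = ((s ^ orderOf φ : ℕ) : ZMod p) := by
    rw [Units.val_pow_eq_pow_val, hc, Units.val_mk0, hi, Nat.cast_pow]
  have hpu : ¬ p ∣ s ^ orderOf φ := fun h => hps (hp.out.dvd_of_dvd_pow h)
  have hQ : ∀ b, b ≠ 0 → nb D a ((c ^ q ^ i : (ZMod p)ˣ) * b) = nb D a b := by
    intro b hb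
    rw [← hcount b hb, ← hcount _ (mul_ne_zero (Units.ne_zero _) hb), hcu, ze_mul hζ]
    have h1 := hui K hsp (x ^ k)
    rw [← hR] at h1
    nth_rewrite 1 [← h1]
    exact count_map_pow hRp hpu (ze_pow hζ b)
  have hcong : ∀ b, b ≠ 0 → (p : ℤ) ∣ (nb D a ((c ^ (d * j') : (ZMod p)ˣ) * b) : ℤ) - nb D a b := by
    intro b hb
    have h1 : ((c ^ (d * j') : (ZMod p)ˣ) : ZMod p) = ((Nat.card (Fx φ) ^ j' : ℕ) : ZMod p) := by
      rw [Units.val_pow_eq_pow_val, hc, Units.val_mk0, hs, ← pow_mul, Nat.cast_pow]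
    have hpw : ¬ p ∣ Nat.card (Fx φ) ^ j' := by
      rw [hs]
      exact fun h => hpc (hp.out.dvd_of_dvd_pow h)
    rw [← hcount b hb, ← hcount _ (mul_ne_zero (Units.ne_zero _) hb), h1, ze_mul hζ]
    have h2 := hmult ((ζ ^ b.val) ^ Nat.card (Fx φ) ^ j')
    rw [count_map_pow hRp hpw (ze_pow hζ b)] at h2
    exact h2
  have hqd : Nat.gcd (d * j') (q ^ i) = 1 := by
    refine Nat.Coprime.pow_right i ?_
    rw [Nat.coprime_comm, Nat.Prime.coprime_iff_not_dvd hq.out]
    intro h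
    rcases (Nat.Prime.dvd_mul hq.out).1 h with h | h
    · exact hd h
    · exact hj' h
  have hcc := congr_gcd hcong (fun b hb => by rw [hQ b hb, sub_self]; exact dvd_zero _) hqd
  have hc2 : (c ^ q ^ i) ^ 2 ≠ 1 := by
    intro h
    apply hu2
    rw [← hcu, ← Units.val_pow_eq_pow_val, h, Units.val_one]
  obtain ⟨h2, h4⟩ := four_le_cl hp2 hc2
  exact main a c i ha0 hqc hi1 hQ hcc h2 h4

end

end Cfsg.Agent.H660.PQ
end

-- part: H660/PQ/RowBase
section
/-!
# S4981: rows of matrix groups with field automorphisms (helper660)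

`sfact_mat` : the reduction, for matrix groups over `F` all whose automorphisms of `p`- and `q`-power order are field
automorphisms up to inner ones.
-/

set_option autoImplicit false

open Cfsg Subgroup

namespace Cfsg.Agent.H660.PQ

open Cfsg.Agent.H54.PQ Cfsg.Agent.H754.PQ Cfsg.Agent.H967.CopMat Cfsg.Agent.H55.PQ.Red

open scoped MatrixGroups

/-- the reduction for matrix groups -/
theorem sfact_mat {p q : ℕ} {ι : Type} [Fintype ι] [DecidableEq ι] {F : Type} [Field F] [Fintype F]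
    {G : Subgroup (GL ι F)} (hG : Stab G) (hZ : center ↥G = ⊥) (hs : Group.IsSolvable (Cfsg.Out ↥G))
    {r n c : ℕ} [Fact r.Prime] [CharP F r] (hn : 1 ≤ n) (hF : Fintype.card F = r ^ n) (hpr : p ≠ r)
    (hinn : ∀ σ : F ≃+* F, σ ≠ 1 → fieldAut hG σ ∉ Cfsg.Inn ↥G) (hc : Nat.card (Cfsg.Out ↥G) ∣ c * n)
    (hcs : ∀ s : ℕ, s.Prime → s ∣ c → s ≤ 3) (h2 : 2 ∣ Nat.card ↥G) (h3 : 3 ∣ Nat.card ↥G)
    (hcent : ∀ [Fact p.Prime] [Fact q.Prime], p ≠ q → 3 < q → ¬ q ∣ Nat.card ↥G → ∀ φ : F ≃+* F,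
      (∃ k : ℕ, orderOf φ = q ^ k) → ¬ q ∣ orderOf ((Nat.card (Fx φ) : ℕ) : ZMod p) →
      CentSyl p (zpowers (fieldAut hG φ)))
    (hfalse : ∀ [Fact p.Prime] [Fact q.Prime], p ≠ q → 7 < p → 3 < q → ¬ q ∣ Nat.card ↥G → p ∣ Nat.card ↥G →
      ∀ (A Φ : Subgroup (MulAut ↥G)) (φ : F ≃+* F), φ ≠ 1 → FSit p q (fieldAut hG) A Φ φ → InvHyp p A Φ →
      q ∣ orderOf ((Nat.card (Fx φ) : ℕ) : ZMod p) → False) : SFact p q ↥G := by
  intro hp hq hpq hqG
  have : Fact p.Prime := ⟨hp⟩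
  have : Fact q.Prime := ⟨hq⟩
  have hpF : (p : F) ≠ 0 := by
    rw [Ne, CharP.cast_eq_zero_iff F r]
    intro h
    exact hpr ((Nat.prime_dvd_prime_iff_eq Fact.out hp).1 h).symm
  have hq3 : 3 < q := by
    by_contra hcon
    have h1 := hq.two_le
    have h4 : q = 2 ∨ q = 3 := by omega
    rcases h4 with rfl | rfl
    · exact hqG h2
    · exact hqG h3
  have hfin : Finite (F ≃+* F) := Finite.of_injective (fun f : F ≃+* F => (f : F → F)) DFunLike.coe_injective
  have hcard : Nat.card (F ≃+* F) = n := Cfsg.Agent.Lib.FieldAutCard.card_ringAut hn hF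
  obtain ⟨τ, hτ⟩ := exists_ringAut r n hF
  have hcyc : IsCyclic (F ≃+* F) := isCyclic_of_orderOf_eq_card τ (by rw [hτ, hcard])
  have hinn' : ∀ γ : F ≃+* F, (orderOf γ).Prime → fieldAut hG γ ∉ Cfsg.Inn ↥G := by
    intro γ hγ
    refine hinn γ ?_
    rintro rfl
    rw [orderOf_one] at hγ
    exact Nat.not_prime_one hγ
  have hpow : ∀ s : ℕ, s.Prime → 3 < s → ∀ k : ℕ, s ^ k ∣ Nat.card (Cfsg.Out ↥G) → s ^ k ∣ Nat.card (F ≃+* F) := by
    intro s hs h3s k hk
    rw [hcard]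
    have h1 : (s ^ k).Coprime c := by
      apply Nat.Coprime.pow_left
      rw [hs.coprime_iff_not_dvd]
      intro h
      exact absurd (hcs s hs h) (by omega)
    exact h1.dvd_of_dvd_mul_left (hk.trans hc)
  have hqk := hpow q hq hq3
  -- `p` and the order of the field
  have hne : ∀ φ : F ≃+* F, ((Nat.card (Fx φ) : ℕ) : ZMod p) ≠ 0 := by
    intro φ
    rw [Ne, ZMod.natCast_eq_zero_iff]
    intro h
    refine not_dvd_card hp hpF (h.trans ?_)
    rw [card_Fx φ]
    exact dvd_pow_self _ (orderOf_pos φ).ne'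
  by_cases hp3 : p ≤ 3
  · refine sfact_of_coprime hZ hs (fieldAut hG) (fun γ hγ => hinn' γ (by rw [hγ]; exact hq)) hqk
      (fun _ _ _ _ φ hφ1 hφ => hcent hpq hq3 hqG φ hφ ?_) hp hq hpq hqG
    intro h
    have h1 := Nat.le_of_dvd (Nat.sub_pos_of_lt hp.one_lt) (h.trans (ZMod.orderOf_dvd_card_sub_one (hne φ)))
    omega
  · push Not at hp3
    refine sfact_of_field hZ hs (fieldAut hG) (fun γ hγ _ => hinn' γ hγ) (hpow p hp hp3) hqk
      (fun _ _ _ _ A Φ φ hφ1 hF' hinv => ?_) hp hq hpq hqG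
    by_cases hpG : p ∣ Nat.card ↥G
    · by_cases hord : q ∣ orderOf ((Nat.card (Fx φ) : ℕ) : ZMod p)
      · refine (hfalse hpq ?_ hq3 hqG hpG A Φ φ hφ1 hF' hinv hord).elim
        have h1 : q ∣ p - 1 := hord.trans (ZMod.orderOf_dvd_card_sub_one (hne φ))
        have h4 : 2 ∣ p - 1 := by
          have h5 := (hp.eq_two_or_odd).resolve_left (by omega)
          omega
        have h5 : q * 2 ∣ p - 1 := by
          refine Nat.Coprime.mul_dvd_of_dvd_of_dvd ?_ h1 h4
          rw [Nat.Prime.coprime_iff_not_dvd hq]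
          intro h6
          have := Nat.le_of_dvd (by norm_num) h6
          omega
        have h6 := Nat.le_of_dvd (by omega) h5
        omega
      · rw [hF'.Φ]
        exact hcent hpq hq3 hqG φ hF'.φ hord
    · exact centSyl_of_not_dvd hpG Φ

/-- the eigenvalues are closed under the Frobenius automorphism of `F` -/
theorem rts_frob {ι : Type} [Fintype ι] [DecidableEq ι] {F : Type} [Field F] [Finite F] {G : Subgroup (GL ι F)}
    {K : Type} [Field K] [Finite K] [Algebra F K]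
    (hsp : ∀ g : ↥G, (((g : GL ι F) : Matrix ι ι F).charpoly.map (algebraMap F K)).Splits) (x : ↥G) :
    (rts G.subtype K x).map (· ^ Nat.card F) = rts G.subtype K x := by
  classical
  have := Fintype.ofFinite F
  obtain ⟨r, hr⟩ := CharP.exists F
  have hrp : Fact r.Prime := ⟨CharP.char_is_prime F r⟩
  obtain ⟨n, _, hn⟩ := FiniteField.card F r
  have h := rts_semi (ρ := G.subtype) (K := K) hsp (r := r) (σ := (1 : F ≃+* F)) (n := n)
    (fun x => by rw [← hn, FiniteField.pow_card]; rfl) (s := 1) (y := x) (y' := x) (by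
      rw [one_mul, inv_one, mul_one]
      exact Units.ext (Matrix.ext fun i j => rfl))
  rw [Nat.card_eq_fintype_card, hn]
  exact h.symm

end Cfsg.Agent.H660.PQ
end

-- part: H660/PQ/OrdPrime
section
/-!
# S4981: the small prime divisors of the orders of the exceptional Chevalley groups (helper660)
-/

set_option autoImplicit false

open Cfsg

namespace Cfsg.Agent.H660.PQ

open Cfsg.Lie Cfsg.Agent.ChevalleyStructure Cfsg.Agent.ChevalleyStructure.Elts

universe u

variable {D : ChevalleyDatum} {K : Type u} [Field K] [Fintype K]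

theorem prime_dvd_of_ord {d : ℕ} {degs : List ℕ} (h : Ord D (Fintype.card K) d degs K) (hN : 2 ≤ D.nroots) {s k : ℕ}
    (hs : s.Prime) (h3 : 3 < s) (hk : k ∈ degs) (hsk : (s - 1) ∣ k) : s ∣ Nat.card ↥(D.group K) := by
  have h1 : s ∣ d * Nat.card ↥(D.group K) := by
    rw [h.grp]
    rcases Cfsg.Agent.H967.FaChev.pow_dvd_of (q := Fintype.card K) hs Fintype.card_pos hsk with h2 | h2
    · exact (h2.trans (dvd_pow_self _ (by omega))).mul_right _
    · exact (h2.trans (List.dvd_prod (List.mem_map.2 ⟨k, hk, rfl⟩))).mul_left _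
  refine (hs.dvd_mul.1 h1).resolve_left fun h2 => ?_
  have := h.d3 s hs h2
  omega

theorem index_dvd_card : ((D.diagonalSubgroup K).subgroupOf (D.group K)).index ∣ Nat.card ↥(D.group K) :=
  Subgroup.index_dvd_card _

theorem two_dvd_of_ord (hD : InList D) {d : ℕ} {degs : List ℕ} (h : Ord D (Fintype.card K) d degs K)
    (hN : 2 ≤ D.nroots) (h2 : 2 ∈ degs) : 2 ∣ Nat.card ↥(D.group K) := by
  refine Dvd.dvd.trans ?_ (index_dvd_card (D := D) (K := K))
  rw [h.index hD]
  rcases Nat.even_or_odd (Fintype.card K) with h1 | h1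
  · exact (h1.two_dvd.trans (dvd_pow_self _ (by omega))).mul_right _
  · refine Dvd.dvd.mul_left ?_ _
    refine Dvd.dvd.trans ?_ (List.dvd_prod (List.mem_map.2 ⟨2, h2, rfl⟩))
    rw [Finset.sum_range_succ, Finset.sum_range_one, pow_zero, pow_one]
    obtain ⟨m, hm⟩ := h1
    omega

theorem three_dvd_of_ord (hD : InList D) {d : ℕ} {degs : List ℕ} (h : Ord D (Fintype.card K) d degs K)
    (hN : 2 ≤ D.nroots) (h2 : 2 ∈ degs) {k : ℕ} (hk : k ∈ degs) (h3 : 3 ∣ k) : 3 ∣ Nat.card ↥(D.group K) := by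
  refine Dvd.dvd.trans ?_ (index_dvd_card (D := D) (K := K))
  rw [h.index hD]
  set q := Fintype.card K with hq
  have h4 : q % 3 = 0 ∨ q % 3 = 1 ∨ q % 3 = 2 := by omega
  rcases h4 with h4 | h4 | h4
  · exact ((Nat.dvd_of_mod_eq_zero h4).trans (dvd_pow_self _ (by omega))).mul_right _
  · refine Dvd.dvd.mul_left ?_ _
    refine Dvd.dvd.trans ?_ (List.dvd_prod (List.mem_map.2 ⟨k, hk, rfl⟩))
    have h5 : (∑ j ∈ Finset.range k, q ^ j) ≡ ∑ j ∈ Finset.range k, 1 [MOD 3] := by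
      have h6 : ((∑ j ∈ Finset.range k, q ^ j : ℕ) : ZMod 3) = ((∑ j ∈ Finset.range k, 1 : ℕ) : ZMod 3) := by
        have h7 : ((q : ℕ) : ZMod 3) = 1 := by
          rw [← ZMod.natCast_mod, h4, Nat.cast_one]
        rw [Nat.cast_sum, Nat.cast_sum]
        refine Finset.sum_congr rfl fun j _ => ?_
        rw [Nat.cast_pow, h7, one_pow, Nat.cast_one]
      exact (ZMod.natCast_eq_natCast_iff _ _ _).1 h6
    rw [Finset.sum_const, Finset.card_range, smul_eq_mul, mul_one] at h5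
    exact (Nat.ModEq.dvd_iff h5 dvd_rfl).2 h3
  · refine Dvd.dvd.mul_left ?_ _
    refine Dvd.dvd.trans ?_ (List.dvd_prod (List.mem_map.2 ⟨2, h2, rfl⟩))
    rw [Finset.sum_range_succ, Finset.sum_range_one, pow_zero, pow_one]
    omega

theorem ord_g2 : ∃ d, Ord chevG2 (Fintype.card K) d [2, 6] K :=
  ⟨1, one_ne_zero, fun p hp h => absurd (Nat.dvd_one.1 h) hp.one_lt.ne',
    S1035.result (F := K) rfl (chevG2, 1) (by simp only [_root_.List.mem_cons, _root_.Prod.mk.injEq, _root_.and_true, _root_.List.not_mem_nil, _root_.or_false, _root_.true_or]), OrderFinal.order_formula rfl chevG2 1 [2, 6] (by simp only [_root_.List.mem_cons, _root_.Prod.mk.injEq, _root_.and_true, _root_.List.not_mem_nil, _root_.or_false, _root_.true_or]) (by simp)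
    (CardCombAll.comb_of_mem (by simp)) (by simp) rfl, rfl, by simp⟩

theorem ord_f4 : ∃ d, Ord chevF4 (Fintype.card K) d [2, 6, 8, 12] K :=
  ⟨1, one_ne_zero, fun p hp h => absurd (Nat.dvd_one.1 h) hp.one_lt.ne',
    S1035.result (F := K) rfl (chevF4, 1) (by simp only [_root_.List.mem_cons, _root_.Prod.mk.injEq, _root_.and_true, _root_.List.not_mem_nil, _root_.or_false, _root_.true_or, _root_.or_true]), OrderFinal.order_formula rfl chevF4 1 [2, 6, 8, 12] (by simp only [_root_.List.mem_cons, _root_.Prod.mk.injEq, _root_.and_true, _root_.List.not_mem_nil, _root_.or_false, _root_.true_or, _root_.or_true])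
    (by simp) (CardCombAll.comb_of_mem (by simp)) (by simp) rfl, rfl, by simp only [_root_.List.mem_cons, _root_.List.not_mem_nil, _root_.or_false, _root_.ne_eq, _root_.forall_eq_or_imp, _root_.OfNat.ofNat_ne_zero, _root_.not_false_eq_true, _root_.Nat.reduceDvd, _root_.and_self, _root_.forall_eq]⟩

theorem ord_e6 : ∃ d, Ord chevE6 (Fintype.card K) d [2, 5, 6, 8, 9, 12] K :=
  ⟨Nat.gcd 3 (Fintype.card K - 1), (Nat.gcd_pos_of_pos_left _ (by norm_num)).ne',
    fun p _ h => Nat.le_of_dvd (by norm_num) (h.trans (Nat.gcd_dvd_left _ _)),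
    S1035.result (F := K) rfl (chevE6, Nat.gcd 3 (Fintype.card K - 1)) (by simp only [_root_.List.mem_cons, _root_.Prod.mk.injEq, _root_.List.not_mem_nil, _root_.or_false, _root_.true_or, _root_.or_true]),
    OrderFinal.order_formula rfl chevE6 (Nat.gcd 3 (Fintype.card K - 1)) [2, 5, 6, 8, 9, 12] (by simp only [_root_.List.mem_cons, _root_.Prod.mk.injEq, _root_.List.not_mem_nil, _root_.or_false, _root_.true_or, _root_.or_true]) (by simp)
    (CardCombAll.comb_of_mem (by simp)) (by simp) rfl, rfl, by simp only [_root_.List.mem_cons, _root_.List.not_mem_nil, _root_.or_false, _root_.ne_eq, _root_.forall_eq_or_imp, _root_.OfNat.ofNat_ne_zero, _root_.not_false_eq_true, _root_.Nat.reduceDvd, _root_.and_self, _root_.forall_eq]⟩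

theorem ord_e7 : ∃ d, Ord chevE7 (Fintype.card K) d [2, 6, 8, 10, 12, 14, 18] K :=
  ⟨Nat.gcd 2 (Fintype.card K - 1), (Nat.gcd_pos_of_pos_left _ (by norm_num)).ne',
    fun p _ h => (Nat.le_of_dvd (by norm_num) (h.trans (Nat.gcd_dvd_left _ _))).trans (by norm_num),
    S1035.result (F := K) rfl (chevE7, Nat.gcd 2 (Fintype.card K - 1)) (by simp only [_root_.List.mem_cons, _root_.Prod.mk.injEq, _root_.Nat.coprime_two_left, _root_.and_true, _root_.List.not_mem_nil, _root_.or_false, _root_.true_or, _root_.or_true]),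
    OrderFinal.order_formula rfl chevE7 (Nat.gcd 2 (Fintype.card K - 1)) [2, 6, 8, 10, 12, 14, 18] (by simp only [_root_.List.mem_cons, _root_.Prod.mk.injEq, _root_.Nat.coprime_two_left, _root_.and_true, _root_.List.not_mem_nil, _root_.or_false, _root_.true_or, _root_.or_true])
    (by simp) (CardCombAll.comb_of_mem (by simp)) (by simp) rfl, rfl, by simp only [_root_.List.mem_cons, _root_.List.not_mem_nil, _root_.or_false, _root_.ne_eq, _root_.forall_eq_or_imp, _root_.OfNat.ofNat_ne_zero, _root_.not_false_eq_true, _root_.Nat.reduceDvd, _root_.and_self, _root_.forall_eq]⟩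

theorem ord_e8 : ∃ d, Ord chevE8 (Fintype.card K) d [2, 8, 12, 14, 18, 20, 24, 30] K :=
  ⟨1, one_ne_zero, fun p hp h => absurd (Nat.dvd_one.1 h) hp.one_lt.ne',
    S1035.result (F := K) rfl (chevE8, 1) (by simp only [_root_.List.mem_cons, _root_.Prod.mk.injEq, _root_.and_true, _root_.List.not_mem_nil, _root_.or_false, _root_.true_or, _root_.or_true]),
    OrderFinal.order_formula rfl chevE8 1 [2, 8, 12, 14, 18, 20, 24, 30] (by simp only [_root_.List.mem_cons, _root_.Prod.mk.injEq, _root_.and_true, _root_.List.not_mem_nil, _root_.or_false, _root_.true_or, _root_.or_true]) (by simp)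
    (CardCombAll.comb_of_mem (by simp)) (by simp only [_root_.List.mem_cons, _root_.Prod.mk.injEq, _root_.List.cons.injEq, _root_.Nat.reduceEqDiff, _root_.reduceCtorEq, _root_.and_self, _root_.and_false, _root_.List.cons_ne_self, _root_.List.not_mem_nil, _root_.or_false, _root_.or_true]) rfl, rfl, by simp only [_root_.List.mem_cons, _root_.List.not_mem_nil, _root_.or_false, _root_.ne_eq, _root_.forall_eq_or_imp, _root_.OfNat.ofNat_ne_zero, _root_.not_false_eq_true, _root_.Nat.reduceDvd, _root_.and_self, _root_.forall_eq]⟩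

end Cfsg.Agent.H660.PQ
end

-- part: H417/PQ/CentChev
section
/-!
# S4981, ORD-C: a field automorphism centralises a Sylow subgroup of a Chevalley group (helper417)

`cent_chev` : `σ` a field automorphism of `q`-power order of `D.group F`, `q` prime not dividing the order of `|Fx σ|` modulo
`p`: then `|D.group F|` and `|D.group (Fx σ)|` have the same `p`-part, and `σ` centralises a Sylow `p`-subgroup.
-/

set_option autoImplicit false

namespace Cfsg.Agent.H417.PQ

open Subgroup Cfsg Cfsg.Lie Cfsg.Agent.H54.PQ Cfsg.Agent.H967.CopMat Cfsg.Agent.H967.CopChev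
  Cfsg.Agent.ChevalleyStructure Cfsg.Agent.ChevalleyStructure.Elts

universe u v w

/-! ### arithmetic -/

theorem dvd_sub_one_iff {p a : ℕ} (ha : 1 ≤ a) : p ∣ a - 1 ↔ (a : ZMod p) = 1 := by
  rw [← ZMod.natCast_eq_zero_iff, Nat.cast_sub ha, Nat.cast_one, sub_eq_zero]

theorem fac_pow_sub_one {p q q₀ : ℕ} (hp : p.Prime) (hq : q.Prime) (hpq : p ≠ q) (h1 : 1 < q₀)
    (hd : ¬ q ∣ orderOf (q₀ : ZMod p)) (j i : ℕ) (hi : i ≠ 0) :
    ((q₀ ^ q ^ j) ^ i - 1).factorization p = (q₀ ^ i - 1).factorization p := by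
  set x := q₀ ^ i with hx
  have hx1 : 1 < x := Nat.one_lt_pow hi h1
  have hxm : (q₀ ^ q ^ j) ^ i = x ^ q ^ j := by rw [hx, ← pow_mul, ← pow_mul, mul_comm]
  rw [hxm]
  have hm0 : q ^ j ≠ 0 := pow_ne_zero _ hq.ne_zero
  by_cases h : p ∣ x - 1
  · have h2 : x ^ q ^ j - 1 = (∑ k ∈ Finset.range (q ^ j), x ^ k) * (x - 1) :=
      (geom_sum_mul_of_one_le hx1.le (q ^ j)).symm
    have h3 : ¬ p ∣ ∑ k ∈ Finset.range (q ^ j), x ^ k := by
      intro h4
      rw [← ZMod.natCast_eq_zero_iff] at h4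
      push_cast at h4
      rw [(dvd_sub_one_iff hx1.le).1 h] at h4
      simp only [one_pow, Finset.sum_const, Finset.card_range, nsmul_eq_mul, mul_one] at h4
      have h5 : p ∣ q ^ j := by
        rw [← ZMod.natCast_eq_zero_iff]
        exact_mod_cast h4
      exact hpq ((Nat.prime_dvd_prime_iff_eq hp hq).1 (hp.dvd_of_dvd_pow h5))
    have h4 : (∑ k ∈ Finset.range (q ^ j), x ^ k) ≠ 0 := fun h0 => h3 (h0 ▸ dvd_zero p)
    rw [h2, Nat.factorization_mul h4 (by omega), Finsupp.add_apply, Nat.factorization_eq_zero_of_not_dvd h3, zero_add]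
  · rw [Nat.factorization_eq_zero_of_not_dvd h, Nat.factorization_eq_zero_of_not_dvd]
    intro h2
    apply h
    rw [dvd_sub_one_iff (Nat.one_le_pow _ _ (by omega))] at h2
    rw [dvd_sub_one_iff hx1.le]
    have h3 : (q₀ : ZMod p) ^ (i * q ^ j) = 1 := by
      rw [hx] at h2
      push_cast at h2
      rw [pow_mul]
      exact h2
    have h4 : orderOf (q₀ : ZMod p) ∣ i := by
      have h5 := orderOf_dvd_of_pow_eq_one h3
      refine Nat.Coprime.dvd_of_dvd_mul_right ?_ h5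
      exact Nat.Coprime.pow_right j (Nat.Coprime.symm ((Nat.Prime.coprime_iff_not_dvd hq).2 hd))
    rw [hx]
    push_cast
    exact orderOf_dvd_iff_pow_eq_one.1 h4

/-! ### fixed subgroups -/

/-- `G₀ → G` injective, fixed by `f`, with the same `p`-part of the orders -/
theorem centSyl_of_fixed {p : ℕ} [hp : Fact p.Prime] {G : Type v} [Group G] [Finite G] {G₀ : Type w} [Group G₀]
    [Finite G₀] (j : G₀ →* G) (hj : Function.Injective j)
    (h : (Nat.card G).factorization p = (Nat.card G₀).factorization p) (f : MulAut G) (hf : ∀ x, f (j x) = j x) :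
    CentSyl p (Subgroup.zpowers f) := by
  obtain ⟨P₀⟩ : Nonempty (Sylow p G₀) := inferInstance
  have hc : Nat.card ((P₀ : Subgroup G₀).map j) = p ^ (Nat.card G).factorization p := by
    rw [Subgroup.card_map_of_injective hj, h]
    exact P₀.card_eq_multiplicity
  refine ⟨Sylow.ofCard _ hc, fun g hg x hx => ?_⟩
  have hx' : x ∈ (P₀ : Subgroup G₀).map j := hx
  obtain ⟨y, -, rfl⟩ := hx'
  have h1 : Subgroup.zpowers f ≤ MulAction.stabilizer (MulAut G) (j y) := by
    rw [Subgroup.zpowers_le]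
    exact hf y
  exact h1 hg

/-! ### the orders -/

theorem exists_formula {D : ChevalleyDatum} (hD : InList D) : ∃ (g m : ℕ) (degs : List ℕ), g ≠ 0 ∧
    (∀ k ∈ degs, k ≠ 0) ∧ ∀ (K : Type u) [Field K] [Fintype K],
      Nat.gcd g (Fintype.card K - 1) ^ m * Nat.card (D.group K) =
        Fintype.card K ^ (D.nroots / 2) * (degs.map fun k => Fintype.card K ^ k - 1).prod := by
  have hD' := hD
  simp only [InList, List.mem_cons, List.not_mem_nil, or_false] at hD
  rcases hD with h | h | h | h | h | h | h <;> subst h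
  · refine ⟨1, 1, [2, 6], one_ne_zero, by simp, fun K _ _ => ?_⟩
    rw [Nat.gcd_one_left, pow_one]
    exact OrderFinal.order_formula rfl chevG2 1 [2, 6] (by simp only [_root_.List.mem_cons, _root_.Prod.mk.injEq, _root_.and_true, _root_.List.not_mem_nil, _root_.or_false, _root_.true_or]) hD' (CardCombAll.comb_of_mem hD') (by simp) rfl
  · refine ⟨2, 1, [2, 4], two_ne_zero, by simp, fun K _ _ => ?_⟩
    rw [pow_one]
    exact OrderFinal.order_formula rfl chevB2 _ [2, 4] (by simp only [_root_.List.mem_cons, _root_.Prod.mk.injEq, _root_.Nat.coprime_two_left, _root_.and_true, _root_.List.not_mem_nil, _root_.or_false, _root_.true_or, _root_.or_true]) hD' (CardCombAll.comb_of_mem hD') (by simp) rfl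
  · refine ⟨2, 2, [2, 4, 4, 6], two_ne_zero, by simp, fun K _ _ => ?_⟩
    exact OrderFinal.order_formula rfl chevD4 _ [2, 4, 4, 6] (by simp only [_root_.List.mem_cons, _root_.Prod.mk.injEq, _root_.pow_eq_one_iff, _root_.Nat.coprime_two_left, _root_.OfNat.ofNat_ne_zero, _root_.or_false, _root_.List.not_mem_nil, _root_.or_true]) hD' (CardCombAll.comb_of_mem hD') (by simp) rfl
  · refine ⟨1, 1, [2, 6, 8, 12], one_ne_zero, by simp only [_root_.List.mem_cons, _root_.List.not_mem_nil, _root_.or_false, _root_.ne_eq, _root_.forall_eq_or_imp, _root_.OfNat.ofNat_ne_zero, _root_.not_false_eq_true, _root_.forall_eq, _root_.and_self], fun K _ _ => ?_⟩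
    rw [Nat.gcd_one_left, pow_one]
    exact OrderFinal.order_formula rfl chevF4 1 [2, 6, 8, 12] (by simp only [_root_.List.mem_cons, _root_.Prod.mk.injEq, _root_.and_true, _root_.List.not_mem_nil, _root_.or_false, _root_.true_or, _root_.or_true]) hD' (CardCombAll.comb_of_mem hD') (by simp) rfl
  · refine ⟨3, 1, [2, 5, 6, 8, 9, 12], by norm_num, by simp only [_root_.List.mem_cons, _root_.List.not_mem_nil, _root_.or_false, _root_.ne_eq, _root_.forall_eq_or_imp, _root_.OfNat.ofNat_ne_zero, _root_.not_false_eq_true, _root_.forall_eq, _root_.and_self], fun K _ _ => ?_⟩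
    rw [pow_one]
    exact OrderFinal.order_formula rfl chevE6 _ [2, 5, 6, 8, 9, 12] (by simp only [_root_.List.mem_cons, _root_.Prod.mk.injEq, _root_.List.not_mem_nil, _root_.or_false, _root_.true_or, _root_.or_true]) hD' (CardCombAll.comb_of_mem hD')
      (by simp) rfl
  · refine ⟨2, 1, [2, 6, 8, 10, 12, 14, 18], two_ne_zero, by simp only [_root_.List.mem_cons, _root_.List.not_mem_nil, _root_.or_false, _root_.ne_eq, _root_.forall_eq_or_imp, _root_.OfNat.ofNat_ne_zero, _root_.not_false_eq_true, _root_.forall_eq, _root_.and_self], fun K _ _ => ?_⟩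
    rw [pow_one]
    exact OrderFinal.order_formula rfl chevE7 _ [2, 6, 8, 10, 12, 14, 18] (by simp only [_root_.List.mem_cons, _root_.Prod.mk.injEq, _root_.Nat.coprime_two_left, _root_.and_true, _root_.List.not_mem_nil, _root_.or_false, _root_.true_or, _root_.or_true]) hD' (CardCombAll.comb_of_mem hD')
      (by simp) rfl
  · refine ⟨1, 1, [2, 8, 12, 14, 18, 20, 24, 30], one_ne_zero, by simp only [_root_.List.mem_cons, _root_.List.not_mem_nil, _root_.or_false, _root_.ne_eq, _root_.forall_eq_or_imp, _root_.OfNat.ofNat_ne_zero, _root_.not_false_eq_true, _root_.forall_eq, _root_.and_self], fun K _ _ => ?_⟩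
    rw [Nat.gcd_one_left, pow_one]
    exact OrderFinal.order_formula rfl chevE8 1 [2, 8, 12, 14, 18, 20, 24, 30] (by simp only [_root_.List.mem_cons, _root_.Prod.mk.injEq, _root_.and_true, _root_.List.not_mem_nil, _root_.or_false, _root_.true_or, _root_.or_true]) hD'
      (CardCombAll.comb_of_mem hD') (by simp only [_root_.List.mem_cons, _root_.Prod.mk.injEq, _root_.List.cons.injEq, _root_.Nat.reduceEqDiff, _root_.reduceCtorEq, _root_.and_self, _root_.and_false, _root_.List.cons_ne_self, _root_.List.not_mem_nil, _root_.or_false, _root_.or_true]) rfl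

theorem fac_list {p : ℕ} (f : ℕ → ℕ) : ∀ l : List ℕ, (∀ k ∈ l, f k ≠ 0) →
    (l.map f).prod ≠ 0 ∧ (l.map f).prod.factorization p = (l.map fun k => (f k).factorization p).sum
  | [], _ => by simp
  | a :: l, h => by
    obtain ⟨h1, h2⟩ := fac_list f l fun k hk => h k (List.mem_cons_of_mem a hk)
    have h3 := h a List.mem_cons_self
    refine ⟨?_, ?_⟩
    · rw [List.map_cons, List.prod_cons]
      exact mul_ne_zero h3 h1
    · rw [List.map_cons, List.prod_cons, Nat.factorization_mul h3 h1, Finsupp.add_apply, h2, List.map_cons,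
        List.sum_cons]

theorem fac_card {p g m n Q c : ℕ} {degs : List ℕ} (hQ : 1 < Q) (hpQ : ¬ p ∣ Q) (hc : c ≠ 0)
    (hg : g ≠ 0) (hdegs : ∀ k ∈ degs, k ≠ 0)
    (h : Nat.gcd g (Q - 1) ^ m * c = Q ^ n * (degs.map fun k => Q ^ k - 1).prod) :
    m * min (g.factorization p) ((Q - 1).factorization p) + c.factorization p =
      (degs.map fun k => (Q ^ k - 1).factorization p).sum := by
  have hne : ∀ k ∈ degs, Q ^ k - 1 ≠ 0 := fun k hk => by
    have := Nat.one_lt_pow (hdegs k hk) hQ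
    omega
  obtain ⟨h1, h2⟩ := fac_list (p := p) (fun k => Q ^ k - 1) degs hne
  have h3 := congrArg (fun x : ℕ => x.factorization p) h
  have hgcd : Nat.gcd g (Q - 1) ≠ 0 := (Nat.gcd_pos_of_pos_left _ (Nat.pos_of_ne_zero hg)).ne'
  rw [Nat.factorization_mul (pow_ne_zero _ hgcd) hc, Nat.factorization_mul (pow_ne_zero _ (by omega)) h1,
    Finsupp.add_apply, Finsupp.add_apply, h2, Nat.factorization_pow, Nat.factorization_pow, Finsupp.smul_apply,
    Finsupp.smul_apply, Nat.factorization_eq_zero_of_not_dvd hpQ, smul_zero, zero_add,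
    Nat.factorization_gcd hg (by omega), Finsupp.inf_apply, smul_eq_mul] at h3
  exact h3

/-- **the Chevalley groups** -/
theorem cent_chev {D : ChevalleyDatum} (hD : InList D) {p q : ℕ} [Fact p.Prime] (hq : q.Prime) (hpq : p ≠ q)
    {F : Type} [Field F] [Fintype F] (hpF : (p : F) ≠ 0) {σ : F ≃+* F} (hσ : ∃ k : ℕ, orderOf σ = q ^ k)
    (hord : ¬ q ∣ orderOf ((Nat.card ↥(Fx σ) : ℕ) : ZMod p)) :
    CentSyl p (Subgroup.zpowers (fieldAut (stab_group D F) σ)) := by
  classical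
  have hp : p.Prime := Fact.out
  obtain ⟨j, hj⟩ := hσ
  have : Fintype ↥(Fx σ) := Fintype.ofFinite _
  set Q₀ := Fintype.card ↥(Fx σ) with hQ₀
  have hcard : Fintype.card F = Q₀ ^ q ^ j := by
    have := card_Fx σ
    rwa [hj, Nat.card_eq_fintype_card, Nat.card_eq_fintype_card] at this
  have h1 : 1 < Q₀ := Fintype.one_lt_card
  have h1F : 1 < Fintype.card F := Fintype.one_lt_card
  have hpF' : ¬ p ∣ Fintype.card F := by
    intro hdvd
    obtain ⟨r, f, hr, hchar, -, hf⟩ := exists_char F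
    rw [hf] at hdvd
    have : p = r := (Nat.prime_dvd_prime_iff_eq hp hr).1 (hp.dvd_of_dvd_pow hdvd)
    subst this
    exact hpF (CharP.cast_eq_zero F p)
  have hp0 : ¬ p ∣ Q₀ := fun hdvd => hpF' (hcard ▸ dvd_pow hdvd (pow_ne_zero _ hq.ne_zero))
  rw [Nat.card_eq_fintype_card] at hord
  obtain ⟨g, m, degs, hg, hdegs, hform⟩ := exists_formula.{0} hD
  have hfin : Finite (GL D.Idx F) := inferInstance
  have hfin0 : Finite (GL D.Idx ↥(Fx σ)) := inferInstance
  have e1 := fac_card h1F hpF' (Nat.card_pos (α := ↥(D.group F))).ne' hg hdegs (hform F)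
  have e2 := fac_card h1 hp0 (Nat.card_pos (α := ↥(D.group ↥(Fx σ)))).ne' hg hdegs (hform ↥(Fx σ))
  have e3 : ∀ i, i ≠ 0 → (Fintype.card F ^ i - 1).factorization p = (Q₀ ^ i - 1).factorization p := fun i hi => by
    rw [hcard]
    exact fac_pow_sub_one hp hq hpq h1 hord j i hi
  have e4 : (degs.map fun k => (Fintype.card F ^ k - 1).factorization p) =
      (degs.map fun k => (Q₀ ^ k - 1).factorization p) :=
    List.map_congr_left fun k hk => e3 k (hdegs k hk)
  have e5 := e3 1 one_ne_zero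
  rw [pow_one, pow_one] at e5
  rw [e4, e5] at e1
  have e6 : (Nat.card ↥(D.group F)).factorization p = (Nat.card ↥(D.group ↥(Fx σ))).factorization p := by omega
  -- the embedding
  let φ : ↥(D.group ↥(Fx σ)) →* ↥(D.group F) :=
    { toFun := fun x => ⟨Matrix.GeneralLinearGroup.map (Fx σ).subtype x.1, map_group_le D (Fx σ).subtype ⟨x.1, x.2, rfl⟩⟩
      map_one' := Subtype.ext (map_one _)
      map_mul' := fun x y => Subtype.ext (map_mul _ _ _) }
  refine centSyl_of_fixed φ ?_ e6 _ ?_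
  · intro x y hxy
    exact Subtype.ext (_root_.Cfsg.Agent.H967.CopMat.map_injective (Fx σ).subtype (congrArg Subtype.val hxy))
  · intro x
    exact Subtype.ext (map_fixed σ x.1)

end Cfsg.Agent.H417.PQ
end

-- part: H881/PQ/E8Par
section
/-!
# S4981, task E8PAR: the zeros of a functional on the roots of `E8` modulo `p` (helper881)

If every nonzero value is taken by at most three roots and some root is a zero, then the number `z` of zeros satisfies
`z = 2 mod 4` and `z ≤ 114`.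
-/

set_option autoImplicit false
set_option maxRecDepth 100000

namespace Cfsg.Agent.H881.PQ

open Cfsg.Lie Cfsg.Agent.ChevalleyStructure Cfsg.Agent.ChevalleyStructure.RootVec
open Cfsg.Agent.ChevalleyStructure.RootVecTab Cfsg.Agent.ChevalleyStructure.W0Core
open Cfsg.Agent.ChevalleyStructure.PairOrbit Cfsg.Agent.H660.PQ

/-- the reflection tables -/
abbrev T : ℕ → ℕ := W0E8.tabE8

theorem invol8 : involOK T 8 240 = true := by decide +kernel

theorem invol7 : involOK T 7 240 = true := by decide +kernel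

theorem reps8 : repsR T 8 240 [239] = true := by decide +kernel

theorem reps7 : repsR T 7 240 [0, 119, 226, 238, 239] = true := by decide +kernel

theorem fix239 : ∀ i < 7, look (T i) 239 = 239 := by decide +kernel

theorem rt_look {i s : ℕ} (hi : i < 8) (hs : s < 240) : look (T i) s < 240 ∧
    ∀ j, rt chevE8 (look (T i) s) j = rt chevE8 s j - chevE8.cartan i s * (if j = i then 1 else 0) := by
  have h := reflectRoot_rt checked_E8 (i := i) (s := s) hi hs
  rwa [W0E8.tabE8_ok i hi s hs] at h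

section

variable {p : ℕ}

theorem lin_look {a : ℕ → ZMod p} (ha : Lin chevE8 a) {i : ℕ} (hi : i < 8) :
    Lin chevE8 (fun s => a (look (T i) s)) := by
  obtain ⟨m, hm⟩ := ha
  refine ⟨fun j => m j - ((chevE8.cartan i (chevE8.simple j) : ℤ) : ZMod p) * m i, fun s hs => ?_⟩
  obtain ⟨h1, h2⟩ := rt_look hi hs
  show a (look (T i) s) = _
  rw [hm _ h1]
  have h3 := cartan_eq_sum checked_E8 hi hs
  have h4 : ((chevE8.cartan i s : ℤ) : ZMod p) = ∑ j ∈ Finset.range chevE8.rank,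
      ((rt chevE8 s j : ℤ) : ZMod p) * ((chevE8.cartan i (chevE8.simple j) : ℤ) : ZMod p) := by
    rw [h3]; push_cast; rfl
  have h5 : ∑ j ∈ Finset.range chevE8.rank, ((rt chevE8 (look (T i) s) j : ℤ) : ZMod p) * m j =
      ∑ j ∈ Finset.range chevE8.rank, ((rt chevE8 s j : ℤ) : ZMod p) * m j -
        ((chevE8.cartan i s : ℤ) : ZMod p) * m i := by
    have h6 : ∑ j ∈ Finset.range chevE8.rank, (if j = i then ((chevE8.cartan i s : ℤ) : ZMod p) * m j else 0) =
        ((chevE8.cartan i s : ℤ) : ZMod p) * m i := by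
      rw [Finset.sum_ite_eq' (Finset.range chevE8.rank) i (fun j => ((chevE8.cartan i s : ℤ) : ZMod p) * m j),
        if_pos (show i ∈ Finset.range chevE8.rank from Finset.mem_range.2 hi)]
    rw [← h6, ← Finset.sum_sub_distrib]
    refine Finset.sum_congr rfl fun j _ => ?_
    rw [h2]
    split_ifs
    · push_cast; ring
    · push_cast; ring
  rw [h5, h4, Finset.sum_mul, ← Finset.sum_sub_distrib]
  refine Finset.sum_congr rfl fun j _ => ?_
  ring

theorem cnt_look (a : ℕ → ZMod p) {i : ℕ} (hi : i < 8) (b : ZMod p) :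
    cnt chevE8 (fun s => a (look (T i) s)) b = cnt chevE8 a b := by
  unfold cnt
  refine Finset.card_nbij' (look (T i)) (look (T i)) ?_ ?_ ?_ ?_
  · intro s hs
    simp only [Finset.coe_filter, Finset.mem_range, Set.mem_ofPred_eq] at hs ⊢
    exact ⟨(rt_look hi hs.1).1, hs.2⟩
  · intro s hs
    simp only [Finset.coe_filter, Finset.mem_range, Set.mem_ofPred_eq] at hs ⊢
    refine ⟨(rt_look hi hs.1).1, ?_⟩
    rw [(involOK_spec invol8 hi hs.1).2.1]
    exact hs.2
  · intro s hs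
    simp only [Finset.coe_filter, Finset.mem_range, Set.mem_ofPred_eq] at hs
    exact (involOK_spec invol8 hi hs.1).2.1
  · intro s hs
    simp only [Finset.coe_filter, Finset.mem_range, Set.mem_ofPred_eq] at hs
    exact (involOK_spec invol8 hi hs.1).2.1

/-- integral combinations of roots -/
theorem lin_comb {a : ℕ → ZMod p} {m : ℕ → ZMod p}
    (hm : ∀ s < chevE8.nroots, a s = ∑ j ∈ Finset.range chevE8.rank, ((rt chevE8 s j : ℤ) : ZMod p) * m j) :
    ∀ l : List (ℤ × ℕ), (∀ x ∈ l, x.2 < 240) → (l.map fun x => ((x.1 : ℤ) : ZMod p) * a x.2).sum =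
      ∑ j ∈ Finset.range chevE8.rank, (((l.map fun x => x.1 * rt chevE8 x.2 j).sum : ℤ) : ZMod p) * m j
  | [], _ => by simp
  | x :: l, h => by
    rw [List.map_cons, List.sum_cons, lin_comb hm l fun y hy => h y (List.mem_cons_of_mem _ hy),
      hm x.2 (h x List.mem_cons_self), Finset.mul_sum, ← Finset.sum_add_distrib]
    refine Finset.sum_congr rfl fun j _ => ?_
    rw [List.map_cons, List.sum_cons]
    push_cast
    ring

/-- the quadruples `r, σ_θ r, σ_t r, σ_t σ_θ r` -/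
def quads : List (ℕ × ℕ × ℕ × ℕ) := [(120, 1, 227, 78), (122, 2, 228, 79), (125, 3, 229, 81), (129, 4, 230, 84),
  (134, 5, 231, 88), (140, 6, 232, 93), (146, 7, 233, 99), (151, 8, 234, 105), (155, 9, 235, 110)]

theorem quads_ok : ∀ x ∈ quads, ((x.1 < 240 ∧ x.2.1 < 240 ∧ x.2.2.1 < 240 ∧ x.2.2.2 < 240) ∧
    (x.1 ≠ x.2.1 ∧ x.1 ≠ x.2.2.1 ∧ x.1 ≠ x.2.2.2 ∧ x.2.1 ≠ x.2.2.1 ∧ x.2.1 ≠ x.2.2.2 ∧ x.2.2.1 ≠ x.2.2.2)) ∧
    ∀ j < 8, ((rt chevE8 x.1 j - rt chevE8 x.2.1 j = rt chevE8 239 j ∧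
      rt chevE8 x.2.2.1 j - rt chevE8 x.2.2.2 j = rt chevE8 239 j) ∧
      rt chevE8 x.2.2.1 j - rt chevE8 x.1 j = rt chevE8 226 j) := by
  decide +kernel

/-- `2 α_j` as combinations of the roots of `quads` -/
def rel : ℕ → List (ℤ × ℕ)
  | 0 => [(1, 120), (1, 122), (1, 229), (-1, 140), (-1, 151), (-1, 155)]
  | 1 => [(2, 146), (-2, 134)]
  | 2 => [(2, 140), (-2, 134)]
  | 3 => [(2, 134), (-2, 129)]
  | 4 => [(2, 129), (-2, 125)]
  | 5 => [(2, 125), (-2, 122)]
  | 6 => [(2, 122), (-2, 120)]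
  | _ => [(2, 120)]

theorem rel_ok : ∀ i < 8, (∀ x ∈ rel i, x.2 ∈ [120, 122, 125, 129, 134, 140, 146, 151, 155, 229]) ∧
    ∀ j < 8, ((rel i).map fun x => x.1 * rt chevE8 x.2 j).sum = if j = i then 2 else 0 := by
  decide +kernel

theorem lt_of_rel : ∀ x ∈ [120, 122, 125, 129, 134, 140, 146, 151, 155, 229], x < 240 := by decide

theorem sub_eq {a : ℕ → ZMod p} {m : ℕ → ZMod p}
    (hm : ∀ s < chevE8.nroots, a s = ∑ j ∈ Finset.range chevE8.rank, ((rt chevE8 s j : ℤ) : ZMod p) * m j)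
    {x y z : ℕ} (hx : x < 240) (hy : y < 240) (hz : z < 240)
    (h : ∀ j < 8, rt chevE8 x j - rt chevE8 y j = rt chevE8 z j) : a x - a y = a z := by
  rw [hm x hx, hm y hy, hm z hz, ← Finset.sum_sub_distrib]
  refine Finset.sum_congr rfl fun j hj => ?_
  rw [← h j (Finset.mem_range.1 hj)]
  push_cast
  ring

/-- two orthogonal zeros: the base case -/
theorem base [Fact p.Prime] (hp : 2 < p) {a : ℕ → ZMod p} (ha : Lin chevE8 a)
    (h3 : ∀ b : ZMod p, b ≠ 0 → cnt chevE8 a b ≤ 3) (h1 : a 239 = 0) (h2 : a 226 = 0) : ∀ s < 240, a s = 0 := by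
  obtain ⟨m, hm⟩ := ha
  have hq : ∀ x ∈ quads, a x.1 = 0 ∧ a x.2.2.1 = 0 := by
    intro x hx
    obtain ⟨⟨⟨b1, b2, b3, b4⟩, c1, c2, c3, c4, c5, c6⟩, hj⟩ := quads_ok x hx
    have e1 := sub_eq hm b1 b2 (by norm_num) fun j hj' => (hj j hj').1.1
    have e2 := sub_eq hm b3 b4 (by norm_num) fun j hj' => (hj j hj').1.2
    have e3 := sub_eq hm b3 b1 (by norm_num) fun j hj' => (hj j hj').2
    rw [h1, sub_eq_zero] at e1 e2
    rw [h2, sub_eq_zero] at e3
    suffices h : a x.1 = 0 from ⟨h, e3.trans h⟩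
    by_contra hne
    have hsub : ({x.1, x.2.1, x.2.2.1, x.2.2.2} : Finset ℕ) ⊆ (Finset.range chevE8.nroots).filter fun s => a s = a x.1 := by
      intro s hs
      rw [Finset.mem_filter, Finset.mem_range]
      simp only [Finset.mem_insert, Finset.mem_singleton] at hs
      rcases hs with rfl | rfl | rfl | rfl
      · exact ⟨b1, rfl⟩
      · exact ⟨b2, e1.symm⟩
      · exact ⟨b3, e3⟩
      · exact ⟨b4, e2.symm.trans e3⟩
    have hc := Finset.card_le_card hsub
    rw [Finset.card_insert_of_notMem (by simp [c1, c2, c3]), Finset.card_insert_of_notMem (by simp [c4, c5]),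
      Finset.card_insert_of_notMem (by simp [c6]), Finset.card_singleton] at hc
    have := h3 _ hne
    unfold cnt at this
    omega
  have hz : ∀ x ∈ [120, 122, 125, 129, 134, 140, 146, 151, 155, 229], a x = 0 := by
    intro x hx
    simp only [List.mem_cons, List.not_mem_nil, or_false] at hx
    rcases hx with rfl | rfl | rfl | rfl | rfl | rfl | rfl | rfl | rfl | rfl
    · exact (hq (120, 1, 227, 78) (by decide)).1
    · exact (hq (122, 2, 228, 79) (by decide)).1
    · exact (hq (125, 3, 229, 81) (by decide)).1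
    · exact (hq (129, 4, 230, 84) (by decide)).1
    · exact (hq (134, 5, 231, 88) (by decide)).1
    · exact (hq (140, 6, 232, 93) (by decide)).1
    · exact (hq (146, 7, 233, 99) (by decide)).1
    · exact (hq (151, 8, 234, 105) (by decide)).1
    · exact (hq (155, 9, 235, 110) (by decide)).1
    · exact (hq (125, 3, 229, 81) (by decide)).2
  have hmz : ∀ i < 8, m i = 0 := by
    intro i hi
    obtain ⟨r1, r2⟩ := rel_ok i hi
    have h4 := lin_comb hm (rel i) fun x hx => lt_of_rel _ (r1 x hx)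
    have h5 : ((rel i).map fun x => ((x.1 : ℤ) : ZMod p) * a x.2).sum = 0 := by
      apply List.sum_eq_zero
      intro y hy
      obtain ⟨x, hx, rfl⟩ := List.mem_map.1 hy
      rw [hz _ (r1 x hx), mul_zero]
    have h6 : ∑ j ∈ Finset.range chevE8.rank, ((((rel i).map fun x => x.1 * rt chevE8 x.2 j).sum : ℤ) : ZMod p) * m j =
        2 * m i := by
      have h7 : ∀ j ∈ Finset.range chevE8.rank, ((((rel i).map fun x => x.1 * rt chevE8 x.2 j).sum : ℤ) : ZMod p) * m j =
          if j = i then 2 * m j else 0 := by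
        intro j hj
        rw [r2 j (Finset.mem_range.1 hj)]
        split_ifs <;> push_cast <;> ring
      rw [Finset.sum_congr rfl h7, Finset.sum_ite_eq' (Finset.range chevE8.rank) i (fun j => 2 * m j),
        if_pos (show i ∈ Finset.range chevE8.rank from Finset.mem_range.2 hi)]
    rw [h5, h6] at h4
    have h2' : (2 : ZMod p) ≠ 0 := by
      intro h
      have h8 : ((2 : ℕ) : ZMod p) = 0 := by exact_mod_cast h
      rw [ZMod.natCast_eq_zero_iff] at h8
      exact absurd (Nat.le_of_dvd (by norm_num) h8) (by omega)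
    exact (mul_eq_zero.1 h4.symm).resolve_left h2'
  intro s hs
  rw [hm s hs]
  refine Finset.sum_eq_zero fun j hj => ?_
  rw [hmz j (Finset.mem_range.1 hj), mul_zero]

theorem reps_deg : ∀ r ∈ [0, 119, 226, 238, 239], rt chevE8 r 7 = 0 → r = 226 := by decide +kernel

/-- two orthogonal zeros -/
theorem orth [Fact p.Prime] (hp : 2 < p) : ∀ r < 240, rt chevE8 r 7 = 0 → ∀ a : ℕ → ZMod p, Lin chevE8 a →
    (∀ b : ZMod p, b ≠ 0 → cnt chevE8 a b ≤ 3) → a 239 = 0 → a r = 0 → ∀ s < 240, a s = 0 := by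
  refine all_roots invol7 reps7 (fun r => rt chevE8 r 7 = 0 → ∀ a : ℕ → ZMod p, Lin chevE8 a →
    (∀ b : ZMod p, b ≠ 0 → cnt chevE8 a b ≤ 3) → a 239 = 0 → a r = 0 → ∀ s < 240, a s = 0) ?_ ?_
  · intro i hi r hr h hdeg a ha h3 h1 h2 s hs
    have hi' : i < 8 := by omega
    have h4 := h (by
      rw [(rt_look hi' hr).2 7, if_neg (by omega), mul_zero, sub_zero] at hdeg
      exact hdeg) (fun s => a (look (T i) s)) (lin_look ha hi') (fun b hb => by rw [cnt_look a hi' b]; exact h3 b hb)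
      (by rw [fix239 i hi]; exact h1) h2 (look (T i) s) (rt_look hi' hs).1
    rw [(involOK_spec invol8 hi' hs).2.1] at h4
    exact h4
  · intro r hr hdeg a ha h3 h1 h2
    rw [reps_deg r hr hdeg] at h2
    exact base hp ha h3 h1 h2

/-! ### counting -/

theorem deg_facts : ∀ r < 240, (rt chevE8 r 7 = 0 ∨ rt chevE8 r 7 = 1 ∨ rt chevE8 r 7 = -1 ∨ r = 0 ∨ r = 239) := by
  decide +kernel

theorem deg_ends : rt chevE8 0 7 = -2 ∧ rt chevE8 239 7 = 2 := by decide +kernel

theorem card_deg : ((Finset.range 240).filter fun r => rt chevE8 r 7 ≠ 0).card = 114 := by decide +kernel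

/-- the index of `θ - r` for the roots `r` with `⟨r, θ⟩ = 1` -/
def sig : List ℕ := [0, 0, 0, 0, 0, 0, 0, 0, 0, 0, 0, 0, 0, 0, 0, 0, 0, 0, 0, 0, 0, 0, 0, 0,
  0, 0, 0, 0, 0, 0, 0, 0, 0, 0, 0, 0, 0, 0, 0, 0, 0, 0, 0, 0, 0, 0, 0, 0,
  0, 0, 0, 0, 0, 0, 0, 0, 0, 0, 0, 0, 0, 0, 0, 0, 0, 0, 0, 0, 0, 0, 0, 0,
  0, 0, 0, 0, 0, 0, 0, 0, 0, 0, 0, 0, 0, 0, 0, 0, 0, 0, 0, 0, 0, 0, 0, 0,
  0, 0, 0, 0, 0, 0, 0, 0, 0, 0, 0, 0, 0, 0, 0, 0, 0, 0, 0, 0, 0, 0, 0, 0,
  238, 0, 237, 0, 0, 236, 0, 0, 0, 235, 0, 0, 0, 0, 234, 0, 0, 0, 0, 0, 233, 0, 0, 0,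
  0, 0, 232, 0, 0, 0, 0, 231, 0, 0, 0, 230, 0, 0, 229, 0, 228, 227, 0, 0, 0, 0, 0, 0,
  225, 0, 0, 0, 0, 224, 0, 0, 0, 223, 0, 0, 222, 0, 221, 220, 0, 0, 0, 218, 0, 0, 217, 0,
  216, 215, 0, 0, 213, 0, 212, 211, 0, 209, 208, 206, 0, 0, 203, 0, 202, 201, 0, 199, 198, 196, 0, 193,
  192, 190, 187, 0, 183, 182, 180, 177, 173, 168, 0, 161, 160, 158, 155, 151, 146, 140, 134, 129, 125, 122, 120, 0]

private noncomputable def _root_.Cfsg.Agent.LsF.f5da822_4 : {f // @Cfsg.Agent.ChevalleyStructure.RootVecTab.dig = f} := ⟨_, by first | (delta Cfsg.Agent.ChevalleyStructure.RootVecTab.dig; rewrite [Cfsg.Agent.LsF.nmul_pat]; exact rfl) | exact rfl⟩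
private noncomputable def _root_.Cfsg.Agent.LsF.f5da822_5 : {f // @Cfsg.Agent.ChevalleyStructure.RootVecTab.packTab = f} := ⟨_, by first | (delta Cfsg.Agent.ChevalleyStructure.RootVecTab.packTab; rewrite [Cfsg.Agent.LsF.instDecEq_eq, Cfsg.Agent.LsF.ite_eq]; exact rfl) | exact rfl⟩
private noncomputable def _root_.Cfsg.Agent.LsF.f5da822_6 : {f // @Cfsg.Agent.ChevalleyStructure.RootVecTab.code = f} := ⟨_, by first | (delta Cfsg.Agent.ChevalleyStructure.RootVecTab.code; rewrite [Cfsg.Agent.LsF.f5da822_5.2, Cfsg.Agent.LsF.nmul_pat, Cfsg.Agent.LsF.npow_pat]; exact rfl) | exact rfl⟩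
private noncomputable def _root_.Cfsg.Agent.LsF.f5da822_7 : {f // @Cfsg.Agent.ChevalleyStructure.RootVec.rt = f} := ⟨_, by first | (delta Cfsg.Agent.ChevalleyStructure.RootVec.rt; rewrite [Cfsg.Agent.LsF.f5da822_4.2, Cfsg.Agent.LsF.f5da822_6.2, Cfsg.Agent.LsF.nsub_pat, Cfsg.Agent.LsF.isub_pat, Cfsg.Agent.LsF.icast_pat, Cfsg.Agent.LsF.decLt_eq, Cfsg.Agent.LsF.dAnd_eq, Cfsg.Agent.LsF.ite_eq]; exact rfl) | exact rfl⟩
theorem sig_ok : ∀ r < 240, rt chevE8 r 7 = 1 → ((sig.getD r 0 < 240 ∧ sig.getD (sig.getD r 0) 0 = r) ∧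
    sig.getD r 0 ≠ r) ∧ ∀ j < 8, rt chevE8 239 j - rt chevE8 r j = rt chevE8 (sig.getD r 0) j := by
  (refine of_decide_eq_true ?_; (try (rewrite [Cfsg.Agent.LsF.f5da822_7.2, Cfsg.Agent.LsF.isub_pat, Cfsg.Agent.LsF.instDecEq_eq, Cfsg.Agent.LsF.decLt_eq, Cfsg.Agent.LsF.getD_eq, Cfsg.Agent.LsF.instIDecEq_eq, Cfsg.Agent.LsF.dAnd_eq, Cfsg.Agent.LsF.dNot_eq, Cfsg.Agent.LsF.dBallLT_eq, Cfsg.Agent.LsF.dAllP_eq, Cfsg.Agent.LsF.decide_eq])); decide +kernel)

theorem neg_rt : ∀ r < 240, ∀ j < 8, rt chevE8 (239 - r) j = - rt chevE8 r j := by (refine of_decide_eq_true ?_; (try (rewrite [Cfsg.Agent.LsF.f5da822_7.2, Cfsg.Agent.LsF.nsub_pat, Cfsg.Agent.LsF.ineg_pat, Cfsg.Agent.LsF.instIDecEq_eq, Cfsg.Agent.LsF.dBallLT_eq, Cfsg.Agent.LsF.decide_eq])); decide +kernel)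

theorem count [Fact p.Prime] (hp : 2 < p) {a : ℕ → ZMod p} (ha : Lin chevE8 a)
    (h3 : ∀ b : ZMod p, b ≠ 0 → cnt chevE8 a b ≤ 3) (h1 : a 239 = 0) (hne : ∃ r < 240, a r ≠ 0) :
    cnt chevE8 a 0 % 4 = 2 ∧ cnt chevE8 a 0 ≤ 114 := by
  have hdeg : ∀ r < 240, a r = 0 → rt chevE8 r 7 ≠ 0 := by
    intro r hr har h0
    obtain ⟨s, hs, hs'⟩ := hne
    exact hs' (orth hp r hr h0 a ha h3 h1 har s hs)
  obtain ⟨m, hm⟩ := ha
  set Z := (Finset.range 240).filter fun s => a s = 0 with hZ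
  have hcnt : cnt chevE8 a 0 = Z.card := rfl
  rw [hcnt]
  have hneg : ∀ r < 240, a (239 - r) = - a r := by
    intro r hr
    have h4 : 239 - r < chevE8.nroots := by show 239 - r < 240; omega
    rw [hm r hr, hm (239 - r) h4, ← Finset.sum_neg_distrib]
    refine Finset.sum_congr rfl fun j hj => ?_
    rw [neg_rt r hr j (Finset.mem_range.1 hj)]
    push_cast; ring
  constructor
  · -- decomposition
    have hdec : Z = (({0, 239} : Finset ℕ) ∪ Z.filter fun r => rt chevE8 r 7 = 1) ∪ Z.filter fun r => rt chevE8 r 7 = -1 := by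
      ext r
      constructor
      · intro hr
        have hr' := Finset.mem_filter.1 hr
        have hr1 : r < 240 := Finset.mem_range.1 hr'.1
        rcases deg_facts r hr1 with h | h | h | h | h
        · exact absurd h (hdeg r hr1 hr'.2)
        · exact Finset.mem_union_left _ (Finset.mem_union_right _ (Finset.mem_filter.2 ⟨hr, h⟩))
        · exact Finset.mem_union_right _ (Finset.mem_filter.2 ⟨hr, h⟩)
        · exact Finset.mem_union_left _ (Finset.mem_union_left _ (by simp [h]))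
        · exact Finset.mem_union_left _ (Finset.mem_union_left _ (by simp [h]))
      · intro hr
        rcases Finset.mem_union.1 hr with hr | hr
        · rcases Finset.mem_union.1 hr with hr | hr
          · rw [Finset.mem_insert, Finset.mem_singleton] at hr
            rcases hr with rfl | rfl
            · have := hneg 239 (by norm_num)
              rw [h1, neg_zero] at this
              exact Finset.mem_filter.2 ⟨Finset.mem_range.2 (by norm_num), this⟩
            · exact Finset.mem_filter.2 ⟨Finset.mem_range.2 (by norm_num), h1⟩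
          · exact (Finset.mem_filter.1 hr).1
        · exact (Finset.mem_filter.1 hr).1
    have hcard1 : (Z.filter fun r => rt chevE8 r 7 = -1).card = (Z.filter fun r => rt chevE8 r 7 = 1).card := by
      refine Finset.card_nbij' (fun r => 239 - r) (fun r => 239 - r) ?_ ?_ ?_ ?_
      · intro r hr
        simp only [Finset.coe_filter, Set.mem_ofPred_eq, hZ, Finset.mem_filter, Finset.mem_range] at hr ⊢
        refine ⟨⟨by omega, ?_⟩, ?_⟩
        · rw [hneg r hr.1.1, hr.1.2, neg_zero]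
        · rw [neg_rt r hr.1.1 7 (by norm_num), hr.2, _root_.neg_neg]
      · intro r hr
        simp only [Finset.coe_filter, Set.mem_ofPred_eq, hZ, Finset.mem_filter, Finset.mem_range] at hr ⊢
        refine ⟨⟨by omega, ?_⟩, ?_⟩
        · rw [hneg r hr.1.1, hr.1.2, neg_zero]
        · rw [neg_rt r hr.1.1 7 (by norm_num), hr.2]
      · intro r hr
        simp only [Finset.coe_filter, Set.mem_ofPred_eq, hZ, Finset.mem_filter, Finset.mem_range] at hr
        show 239 - (239 - r) = r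
        omega
      · intro r hr
        simp only [Finset.coe_filter, Set.mem_ofPred_eq, hZ, Finset.mem_filter, Finset.mem_range] at hr
        show 239 - (239 - r) = r
        omega
    have heven : 2 ∣ (Z.filter fun r => rt chevE8 r 7 = 1).card := by
      rw [← ZMod.natCast_eq_zero_iff, ← nsmul_one, ← Finset.sum_const]
      refine Finset.sum_involution (fun r _ => sig.getD r 0) ?_ ?_ ?_ ?_
      · intro r _
        decide
      · intro r hr _
        have hr' := Finset.mem_filter.1 hr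
        have hr1 : r < 240 := Finset.mem_range.1 (Finset.mem_filter.1 hr'.1).1
        exact (sig_ok r hr1 hr'.2).1.2
      · intro r hr
        have hr' := Finset.mem_filter.1 hr
        have hr1 : r < 240 := Finset.mem_range.1 (Finset.mem_filter.1 hr'.1).1
        have har : a r = 0 := (Finset.mem_filter.1 hr'.1).2
        obtain ⟨⟨⟨h5, h6⟩, h7⟩, h8⟩ := sig_ok r hr1 hr'.2
        have h9 := sub_eq hm (by norm_num : 239 < 240) hr1 h5 h8
        rw [h1, har, sub_zero] at h9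
        refine Finset.mem_filter.2 ⟨Finset.mem_filter.2 ⟨Finset.mem_range.2 h5, h9.symm⟩, ?_⟩
        rw [← h8 7 (by norm_num), deg_ends.2, hr'.2]
        norm_num
      · intro r hr
        have hr' := Finset.mem_filter.1 hr
        have hr1 : r < 240 := Finset.mem_range.1 (Finset.mem_filter.1 hr'.1).1
        exact (sig_ok r hr1 hr'.2).1.1.2
    rw [hdec, Finset.card_union_of_disjoint, Finset.card_union_of_disjoint, hcard1, Finset.card_pair (by norm_num)]
    · omega
    · rw [Finset.disjoint_left]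
      intro r hr hr'
      have h5 := (Finset.mem_filter.1 hr').2
      rw [Finset.mem_insert, Finset.mem_singleton] at hr
      rcases hr with rfl | rfl
      · rw [deg_ends.1] at h5; exact absurd h5 (by norm_num)
      · rw [deg_ends.2] at h5; exact absurd h5 (by norm_num)
    · rw [Finset.disjoint_left]
      intro r hr hr'
      have h5 := (Finset.mem_filter.1 hr').2
      rcases Finset.mem_union.1 hr with hr | hr
      · rw [Finset.mem_insert, Finset.mem_singleton] at hr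
        rcases hr with rfl | rfl
        · rw [deg_ends.1] at h5; exact absurd h5 (by norm_num)
        · rw [deg_ends.2] at h5; exact absurd h5 (by norm_num)
      · rw [(Finset.mem_filter.1 hr).2] at h5; exact absurd h5 (by norm_num)
  · rw [← card_deg]
    apply Finset.card_le_card
    intro r hr
    have hr' := Finset.mem_filter.1 hr
    exact Finset.mem_filter.2 ⟨hr'.1, hdeg r (Finset.mem_range.1 hr'.1) hr'.2⟩

/-- **TASK E8PAR** -/
theorem e8_par [Fact p.Prime] (hp : 7 < p) {a : ℕ → ZMod p} (ha : Lin chevE8 a)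
    (h3 : ∀ b : ZMod p, b ≠ 0 → cnt chevE8 a b ≤ 3) {s : ℕ} (hs : s < 240) (has : a s = 0)
    (hne : ∃ r < 240, a r ≠ 0) : cnt chevE8 a 0 % 4 = 2 ∧ cnt chevE8 a 0 ≤ 114 := by
  have key := all_roots invol8 reps8 (fun s => ∀ a : ℕ → ZMod p, Lin chevE8 a →
    (∀ b : ZMod p, b ≠ 0 → cnt chevE8 a b ≤ 3) → a s = 0 → (∃ r < 240, a r ≠ 0) →
    cnt chevE8 a 0 % 4 = 2 ∧ cnt chevE8 a 0 ≤ 114) ?_ ?_
  · exact key s hs a ha h3 has hne
  · intro i hi r hr h a ha h3 h1 hne
    have h4 := h (fun s => a (look (T i) s)) (lin_look ha hi) (fun b hb => by rw [cnt_look a hi b]; exact h3 b hb) h1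
      (by
        obtain ⟨r', hr', hr''⟩ := hne
        refine ⟨look (T i) r', (rt_look hi hr').1, ?_⟩
        rw [(involOK_spec invol8 hi hr').2.1]
        exact hr'')
    rw [cnt_look a hi 0] at h4
    exact h4
  · intro r hr a ha h3 h1 hne
    rw [List.mem_singleton] at hr
    rw [hr] at h1
    exact count (by omega) ha h3 h1 hne

end

end Cfsg.Agent.H881.PQ
end

-- part: H660/PQ/RowChev
section
/-!
# S4981: the exceptional Chevalley groups in cross characteristic (helper660)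

`TwoChev D` : the case `|F|² = 1` modulo `p` (helper754). `row_chev_cross_of` : the row from these.
-/

set_option autoImplicit false

open Cfsg Subgroup

namespace Cfsg.Agent.H660.PQ

open Cfsg.Lie Cfsg.Agent.ChevalleyStructure Cfsg.Agent.ChevalleyStructure.Elts
  Cfsg.Agent.ChevalleyStructure.CoxeterGeomTypes Cfsg.Agent.Nodes.RGDChev Cfsg.Agent.H54.PQ Cfsg.Agent.H754.PQ
  Cfsg.Agent.H967.CopMat Cfsg.Agent.H967.CopChev Cfsg.Agent.H967.FaBase Cfsg.Agent.H55.PQ.Red

/-- the case `|F|² = 1` modulo `p` -/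
def TwoChev (D : ChevalleyDatum) : Prop :=
  ∀ (p q : ℕ) [Fact p.Prime] [Fact q.Prime] (F : Type) [Field F] [Fintype F], 7 < p → 3 < q → (p : F) ≠ 0 →
    ¬ q ∣ Nat.card ↥(D.group F) → p ∣ Nat.card ↥(D.group F) →
    ∀ (A Φ : Subgroup (MulAut ↥(D.group F))) (φ : F ≃+* F), φ ≠ 1 → FSit p q (fieldAut (stab_group D F)) A Φ φ →
      InvHyp p A Φ → q ∣ orderOf ((Nat.card (Fx φ) : ℕ) : ZMod p) → ((Nat.card F : ℕ) : ZMod p) ^ 2 = 1 → False

/-- the numerical contradiction for `D` and `q` -/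
def NumOK (D : ChevalleyDatum) (l p q : ℕ) [Fact p.Prime] : Prop :=
  ∀ (a : (Fin l → ℤ) →+ ZMod p) (c : (ZMod p)ˣ) (j : ℕ), a ≠ 0 → q ∣ orderOf c → 1 ≤ j →
      (∀ b, b ≠ 0 → nb D a ((c ^ q ^ j : (ZMod p)ˣ) * b) = nb D a b) →
      (∀ b, b ≠ 0 → (p : ℤ) ∣ (nb D a (c * b) : ℤ) - nb D a b) → 2 ∣ Nat.card (cl (c ^ q ^ j)) →
      4 ≤ Nat.card (cl (c ^ q ^ j)) → False

section

variable {D : ChevalleyDatum} {l : ℕ} {M : CoxeterMatrix (Fin l)}

theorem numOK_of {p q : ℕ} [Fact p.Prime] [Fact q.Prime] (hD : IsType D l M) (hc : Conn (cartanOf D l))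
    (hn : D.nroots < 8 * q) (hqn : ¬ q ∣ D.nroots) (hq2 : q ≠ 2) : NumOK D l p q := by
  intro a c j ha hqc hj hQ hcc _ h4
  refine num_false hD hc ha Fact.out hq2 hqc hj hQ hcc h4 (hn.trans_le ?_) hqn
  nlinarith only [h4]

theorem numOK_e8 {p q : ℕ} [Fact p.Prime] [Fact q.Prime] (h7 : 7 < p) (hq : 17 ≤ q) : NumOK chevE8 8 p q := by
  have hD : IsType chevE8 8 CoxeterMatrix.E₈ := by simp [IsType, typeList]
  intro a c j ha hqc hj hQ hcc h2 h4
  refine num_false_e8 ha ?_ Fact.out hq hqc hj hQ hcc h2 h4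
  rintro h3 ⟨s, hs, hs0⟩ hne
  exact Cfsg.Agent.H881.PQ.e8_par h7 (lin_of hD a) h3 hs hs0 hne

/-- the row of `D.group F` -/
theorem row_group {p q : ℕ} (hD : IsType D l M) (htwo : TwoChev D) {F : Type} [Field F] [Fintype F]
    [IsSimpleGroup ↥(D.group F)] (hnc : ¬ IsMulCommutative ↥(D.group F))
    (hs : Group.IsSolvable (Cfsg.Out ↥(D.group F))) {r n c : ℕ} [Fact r.Prime] [CharP F r] (hn : 1 ≤ n)
    (hF : Fintype.card F = r ^ n) (hpr : p ≠ r) (hc : Nat.card (Cfsg.Out ↥(D.group F)) ∣ c * n)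
    (hcs : ∀ s : ℕ, s.Prime → s ∣ c → s ≤ 3) (h2 : 2 ∣ Nat.card ↥(D.group F)) (h3 : 3 ∣ Nat.card ↥(D.group F))
    (hnum : ∀ [Fact p.Prime] [Fact q.Prime], 7 < p → ¬ q ∣ Nat.card ↥(D.group F) → NumOK D l p q) :
    SFact p q ↥(D.group F) := by
  have hZ : center ↥(D.group F) = ⊥ := by
    refine (Subgroup.Normal.eq_bot_or_eq_top (H := center ↥(D.group F)) inferInstance).resolve_right fun h => ?_
    refine hnc ⟨⟨fun a b => ?_⟩⟩
    have ha : a ∈ center ↥(D.group F) := by rw [h]; exact mem_top a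
    exact (mem_center_iff.1 ha b).symm
  refine sfact_mat (stab_group D F) hZ hs hn hF hpr (fun σ hσ => not_inner hD.inList σ hσ) hc hcs h2 h3 ?_ ?_
  · intro hp hq hpq hq3 hqG φ hφ hord
    have hpF : (p : F) ≠ 0 := by
      rw [Ne, CharP.cast_eq_zero_iff F r]
      intro h
      exact hpr ((Nat.prime_dvd_prime_iff_eq Fact.out hp.out).1 h).symm
    exact Cfsg.Agent.H417.PQ.cent_chev hD.inList hq.out hpq hpF hφ hord
  · intro hp hq hpq h7 hq3 hqG hpG A Φ φ hφ hFS hinv hord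
    have hpF : (p : F) ≠ 0 := by
      rw [Ne, CharP.cast_eq_zero_iff F r]
      intro h
      exact hpr ((Nat.prime_dvd_prime_iff_eq Fact.out hp.out).1 h).symm
    by_cases htw : ((Nat.card F : ℕ) : ZMod p) ^ 2 = 1
    · exact htwo p q F h7 hq3 hpF hqG hpG A Φ φ hφ hFS hinv hord htw
    · refine exc_false hD h7 hpF (stab_group D F) le_rfl hφ hFS hinv hpG (s := Nat.card (Fx φ)) (d := 1)
        (pow_one _).symm (fun h => hq.out.one_lt.ne' (Nat.dvd_one.1 h)) hord ?_ ?_ (hnum h7 hqG)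
      · intro K _ _ _ hsp x
        rw [← card_Fx φ]
        exact rts_frob hsp x
      · rw [← card_Fx φ]
        exact htw

end

theorem nroots_g2 : chevG2.nroots = 12 := by decide +kernel
theorem nroots_f4 : chevF4.nroots = 48 := by decide +kernel
theorem nroots_e6 : chevE6.nroots = 72 := by decide +kernel
theorem nroots_e7 : chevE7.nroots = 126 := by decide +kernel
theorem nroots_e8 : chevE8.nroots = 240 := by decide +kernel

/-- a prime which is not in the list -/
theorem le_of_not_mem {q m : ℕ} (hq : q.Prime) (h : ∀ s < m, s.Prime → q ≠ s) : m ≤ q := by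
  by_contra hcon
  push Not at hcon
  exact h q hcon hq rfl

theorem not_dvd_two_three {q : ℕ} (hq : q.Prime) (hq3 : 3 < q) (a b : ℕ) : ¬ q ∣ 2 ^ a * 3 ^ b := by
  intro h
  rcases hq.dvd_mul.1 h with h | h
  · have := (Nat.prime_dvd_prime_iff_eq hq Nat.prime_two).1 (hq.dvd_of_dvd_pow h); omega
  · have := (Nat.prime_dvd_prime_iff_eq hq Nat.prime_three).1 (hq.dvd_of_dvd_pow h); omega

universe u

variable {p q r : ℕ}

theorem sfact_g2 (htwo : TwoChev chevG2) (hpr : p ≠ r) {F : Type} [Field F] [Fintype F] [CharP F r]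
    (h3 : 3 ≤ Fintype.card F) : SFact p q ↥(chevG2.group F) := by
  obtain ⟨n, hr, hF⟩ := FiniteField.card F r
  have : Fact r.Prime := ⟨hr⟩
  have hsimple : IsSimpleGroup ↥(chevG2.group F) ∧ ¬ IsMulCommutative ↥(chevG2.group F) := by
    refine S1055.result (F := F) ?_
    classical
    by_contra hcon
    push Not at hcon
    have h4 : Fintype.card F ≤ 2 := by
      have h5 : (Finset.univ : Finset F) ⊆ {0, 1} := fun a _ => by
        by_cases h6 : a = 0
        · simp only [h6, _root_.Finset.mem_insert, _root_.Finset.mem_singleton, _root_.zero_ne_one, _root_.or_false]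
        · simp only [hcon a h6, _root_.Finset.mem_insert, _root_.one_ne_zero, _root_.Finset.mem_singleton, _root_.or_true]
      calc Fintype.card F = (Finset.univ : Finset F).card := rfl
        _ ≤ ({0, 1} : Finset F).card := Finset.card_le_card h5
        _ ≤ 2 := Finset.card_le_two
    omega
  have := hsimple.1
  obtain ⟨d, ho⟩ := ord_g2 (K := F)
  have hD : IsType chevG2 2 CoxeterMatrix.G₂ := by simp [IsType, typeList]
  refine row_group (c := 2) hD htwo hsimple.2 (H254.isSolvable_out_of_sch (Schreier.Chev.sch_g2 F)) n.pos hF hpr ?_ ?_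
    (two_dvd_of_ord hD.inList ho (by rw [nroots_g2]; norm_num) (by simp))
    (three_dvd_of_ord hD.inList ho (by rw [nroots_g2]; norm_num) (by simp) (k := 6) (by simp) (by norm_num)) ?_
  · rw [S2121.result r n hF (by rw [← hF]; exact h3)]
    split_ifs
    · exact dvd_rfl
    · exact dvd_mul_left _ _
  · intro s hs h
    exact (Nat.le_of_dvd (by norm_num) h).trans (by norm_num)
  · intro hp hq h7 hqG
    have hq4 : 4 ≤ q := by
      refine le_of_not_mem hq.out fun s hs hsp => ?_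
      have := hsp.two_le
      rintro rfl
      have h6 : q = 2 ∨ q = 3 := by omega
      rcases h6 with rfl | rfl
      · exact hqG (two_dvd_of_ord hD.inList ho (by rw [nroots_g2]; norm_num) (by simp))
      · exact hqG (three_dvd_of_ord hD.inList ho (by rw [nroots_g2]; norm_num) (by simp) (k := 6) (by simp) (by norm_num))
    refine numOK_of hD conn_g2 (by rw [nroots_g2]; omega) ?_ (by omega)
    rw [nroots_g2]
    exact not_dvd_two_three hq.out (by omega) 2 1

/-- small primes -/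
theorem prime_cases {q : ℕ} (hq : q.Prime) (h : q < 17) :
    q = 2 ∨ q = 3 ∨ q = 5 ∨ q = 7 ∨ q = 11 ∨ q = 13 := by
  interval_cases q <;> first | (clear * -; omega) | exact absurd hq (by norm_num)

theorem sfact_f4 (htwo : TwoChev chevF4) (hpr : p ≠ r) {F : Type} [Field F] [Fintype F] [CharP F r] :
    SFact p q ↥(chevF4.group F) := by
  obtain ⟨n, hr, hF⟩ := FiniteField.card F r
  have : Fact r.Prime := ⟨hr⟩
  have hsimple := S1054.result (F := F) chevF4 (by simp)
  have := hsimple.1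
  obtain ⟨d, ho⟩ := ord_f4 (K := F)
  have hD : IsType chevF4 4 CoxeterMatrix.F₄ := by simp [IsType, typeList]
  have hN : 2 ≤ chevF4.nroots := by rw [nroots_f4]; norm_num
  have h2 := two_dvd_of_ord hD.inList ho hN (by simp)
  have h3 := three_dvd_of_ord hD.inList ho hN (by simp) (k := 6) (by simp) (by norm_num)
  refine row_group (c := 2) hD htwo hsimple.2 (H254.isSolvable_out_of_sch (Schreier.Chev.sch_f4 F)) n.pos hF hpr ?_ ?_
    h2 h3 ?_
  · rw [S2122.result r n hF]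
    exact mul_dvd_mul_right (Nat.gcd_dvd_left _ _) _
  · intro s hs h
    exact (Nat.le_of_dvd (by norm_num) h).trans (by norm_num)
  · intro hp hq h7 hqG
    have hq8 : 8 ≤ q := by
      by_contra hcon
      rcases prime_cases hq.out (by omega) with rfl | rfl | rfl | rfl | rfl | rfl
      · exact hqG h2
      · exact hqG h3
      · exact hqG (prime_dvd_of_ord ho hN hq.out (by norm_num) (k := 8) (by simp) (by norm_num))
      · exact hqG (prime_dvd_of_ord ho hN hq.out (by norm_num) (k := 6) (by simp) (by norm_num))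
      · omega
      · omega
    refine numOK_of hD conn_f4 (by rw [nroots_f4]; omega) ?_ (by omega)
    rw [nroots_f4]
    exact not_dvd_two_three hq.out (by omega) 4 1

theorem sfact_e6 (htwo : TwoChev chevE6) (hpr : p ≠ r) {F : Type} [Field F] [Fintype F] [CharP F r] :
    SFact p q ↥(chevE6.group F) := by
  obtain ⟨n, hr, hF⟩ := FiniteField.card F r
  have : Fact r.Prime := ⟨hr⟩
  have hsimple := S1054.result (F := F) chevE6 (by simp)
  have := hsimple.1
  obtain ⟨d, ho⟩ := ord_e6 (K := F)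
  have hD : IsType chevE6 6 CoxeterMatrix.E₆ := by simp [IsType, typeList]
  have hN : 2 ≤ chevE6.nroots := by rw [nroots_e6]; norm_num
  have h2 := two_dvd_of_ord hD.inList ho hN (by simp)
  have h3 := three_dvd_of_ord hD.inList ho hN (by simp) (k := 6) (by simp) (by norm_num)
  refine row_group (c := 2 * Nat.gcd 3 (r ^ (n : ℕ) - 1)) hD htwo hsimple.2
    (H254.isSolvable_out_of_sch (Schreier.Chev.sch_e6 F)) n.pos hF hpr ?_ ?_ h2 h3 ?_
  · rw [S2123.result r n hF]
  · intro s hs h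
    rcases (hs.dvd_mul).1 h with h | h
    · exact (Nat.le_of_dvd (by norm_num) h).trans (by norm_num)
    · exact Nat.le_of_dvd (by norm_num) (h.trans (Nat.gcd_dvd_left _ _))
  · intro hp hq h7 hqG
    have hq8 : 11 ≤ q := by
      by_contra hcon
      rcases prime_cases hq.out (by omega) with rfl | rfl | rfl | rfl | rfl | rfl
      · exact hqG h2
      · exact hqG h3
      · exact hqG (prime_dvd_of_ord ho hN hq.out (by norm_num) (k := 8) (by simp) (by norm_num))
      · exact hqG (prime_dvd_of_ord ho hN hq.out (by norm_num) (k := 6) (by simp) (by norm_num))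
      · omega
      · omega
    refine numOK_of hD conn_e6 (by rw [nroots_e6]; omega) ?_ (by omega)
    rw [nroots_e6]
    exact not_dvd_two_three hq.out (by omega) 3 2

theorem sfact_e7 (htwo : TwoChev chevE7) (hpr : p ≠ r) {F : Type} [Field F] [Fintype F] [CharP F r] :
    SFact p q ↥(chevE7.group F) := by
  obtain ⟨n, hr, hF⟩ := FiniteField.card F r
  have : Fact r.Prime := ⟨hr⟩
  have hsimple := S1054.result (F := F) chevE7 (by simp)
  have := hsimple.1
  obtain ⟨d, ho⟩ := ord_e7 (K := F)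
  have hD : IsType chevE7 7 CoxeterMatrix.E₇ := by simp [IsType, typeList]
  have hN : 2 ≤ chevE7.nroots := by rw [nroots_e7]; norm_num
  have h2 := two_dvd_of_ord hD.inList ho hN (by simp)
  have h3 := three_dvd_of_ord hD.inList ho hN (by simp) (k := 6) (by simp) (by norm_num)
  refine row_group (c := Nat.gcd 2 (r ^ (n : ℕ) - 1)) hD htwo hsimple.2
    (H254.isSolvable_out_of_sch (Schreier.Chev.sch_e7 F)) n.pos hF hpr ?_ ?_ h2 h3 ?_
  · rw [S2124.result r n hF]
  · intro s hs h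
    exact (Nat.le_of_dvd (by norm_num) (h.trans (Nat.gcd_dvd_left _ _))).trans (by norm_num)
  · intro hp hq h7 hqG
    have hq17 : 17 ≤ q := by
      by_contra hcon
      rcases prime_cases hq.out (by omega) with rfl | rfl | rfl | rfl | rfl | rfl
      · exact hqG h2
      · exact hqG h3
      · exact hqG (prime_dvd_of_ord ho hN hq.out (by norm_num) (k := 8) (by simp) (by norm_num))
      · exact hqG (prime_dvd_of_ord ho hN hq.out (by norm_num) (k := 6) (by simp) (by norm_num))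
      · exact hqG (prime_dvd_of_ord ho hN hq.out (by norm_num) (k := 10) (by simp) (by norm_num))
      · exact hqG (prime_dvd_of_ord ho hN hq.out (by norm_num) (k := 12) (by simp) (by norm_num))
    refine numOK_of hD conn_e7 (by rw [nroots_e7]; omega) ?_ (by omega)
    rw [nroots_e7]
    intro h
    have h1 : (126 : ℕ) = (2 ^ 1 * 3 ^ 2) * 7 := by norm_num
    rw [h1] at h
    rcases hq.out.dvd_mul.1 h with h | h
    · exact not_dvd_two_three hq.out (by omega) 1 2 h
    · have := Nat.le_of_dvd (by norm_num) h; omega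

theorem sfact_e8 (htwo : TwoChev chevE8) (hpr : p ≠ r) {F : Type} [Field F] [Fintype F] [CharP F r] :
    SFact p q ↥(chevE8.group F) := by
  obtain ⟨n, hr, hF⟩ := FiniteField.card F r
  have : Fact r.Prime := ⟨hr⟩
  have hsimple := S1054.result (F := F) chevE8 (by simp)
  have := hsimple.1
  obtain ⟨d, ho⟩ := ord_e8 (K := F)
  have hD : IsType chevE8 8 CoxeterMatrix.E₈ := by simp [IsType, typeList]
  have hN : 2 ≤ chevE8.nroots := by rw [nroots_e8]; norm_num
  have h2 := two_dvd_of_ord hD.inList ho hN (by simp)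
  have h3 := three_dvd_of_ord hD.inList ho hN (by simp) (k := 12) (by simp) (by norm_num)
  refine row_group (c := 1) hD htwo hsimple.2
    (H254.isSolvable_out_of_sch (Schreier.Chev.sch_e8 F)) n.pos hF hpr ?_ ?_ h2 h3 ?_
  · rw [S2125.result r n hF, one_mul]
  · intro s hs h
    exact (Nat.le_of_dvd (by norm_num) h).trans (by norm_num)
  · intro hp hq h7 hqG
    have hq17 : 17 ≤ q := by
      by_contra hcon
      rcases prime_cases hq.out (by omega) with rfl | rfl | rfl | rfl | rfl | rfl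
      · exact hqG h2
      · exact hqG h3
      · exact hqG (prime_dvd_of_ord ho hN hq.out (by norm_num) (k := 8) (by simp) (by norm_num))
      · exact hqG (prime_dvd_of_ord ho hN hq.out (by norm_num) (k := 12) (by simp) (by norm_num))
      · exact hqG (prime_dvd_of_ord ho hN hq.out (by norm_num) (k := 20) (by simp) (by norm_num))
      · exact hqG (prime_dvd_of_ord ho hN hq.out (by norm_num) (k := 12) (by simp) (by norm_num))
    exact numOK_e8 h7 hq17

/-- **the exceptional Chevalley groups in cross characteristic** -/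
theorem row_chev_cross_of (hG2 : TwoChev chevG2) (hF4 : TwoChev chevF4) (hE6 : TwoChev chevE6)
    (hE7 : TwoChev chevE7) (hE8 : TwoChev chevE8) (hpr : p ≠ r) {G : Type u} [Group G] [Finite G]
    (hG : IsExceptionalChevChar r G) : SFact p q G := by
  obtain ⟨F, _, _, _, ⟨h3, ⟨e⟩⟩ | ⟨⟨e⟩⟩ | ⟨⟨e⟩⟩ | ⟨⟨e⟩⟩ | ⟨⟨e⟩⟩⟩ := hG
  · exact sfact_congr e (sfact_g2 hG2 hpr h3)
  · exact sfact_congr e (sfact_f4 hF4 hpr)
  · exact sfact_congr e (sfact_e6 hE6 hpr)
  · exact sfact_congr e (sfact_e7 hE7 hpr)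
  · exact sfact_congr e (sfact_e8 hE8 hpr)

end Cfsg.Agent.H660.PQ
end

private theorem dce_e444289b15ce : _root_.True := by
  try have : _root_.True := by simp only [_root_.Cfsg.Agent.H660.PQ.step.eq_1]
  exact _root_.True.intro
end

-- part: H173/PQ/Cent_mg
section
prune_inst 0x11401141042200080005200000003c87d3000180000c000000060a44048020000500012001001004000a000000040008110000200200000000000400000000000888000020000000000008000100010000000000000000000000000000000004004010000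
set_option linter.all false
open scoped Cfsg.Agent.FastGrp

-- part: H173/PQ/Cent
section
/-!
# S4981 [CENT + ARITH] (helper173; task 4176)

`centSyl_of_card`, `factorization_pow_sub_one`, `factorization_pow_add_one`, `lt_of_dvd_order` of
tools/plans/S4981_frame.lean.
-/

set_option autoImplicit false
set_option linter.unusedVariables false

namespace Cfsg.Agent.H173.PQ

open Subgroup Cfsg Cfsg.Agent.H54.PQ

universe u v w

/-- CENT : `G₀ → G` injective, the image is fixed by `f'`, `|G|` and `|G₀|` have the same `p`-part, `π : G → S` surjective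
and compatible: `⟨f⟩` centralises a Sylow `p`-subgroup of `S` -/
theorem centSyl_of_card {p : ℕ} [Fact p.Prime] {S : Type u} [Group S] [Finite S] {G : Type v} [Group G] [Finite G]
    (π : G →* S) (hπ : Function.Surjective π) {G₀ : Type w} [Group G₀] [Finite G₀] (j : G₀ →* G)
    (hj : Function.Injective j) (h : (Nat.card G).factorization p = (Nat.card G₀).factorization p) (f' : MulAut G)
    (f : MulAut S) (hf' : ∀ x, f' (j x) = j x) (hff : ∀ g, π (f' g) = f (π g)) :
    CentSyl p (Subgroup.zpowers f) := by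
  obtain ⟨P, hP⟩ := H461.PQ.centSyl_of_card' j hj h f' hf'
  refine ⟨P.mapSurjective hπ, ?_⟩
  intro g hg x hx
  obtain ⟨y, hy, rfl⟩ := hx
  obtain ⟨k, rfl⟩ := Subgroup.mem_zpowers_iff.1 hg
  have h1 : ∀ n : ℕ, (f ^ n) (π y) = π y := fun n => by
    induction n with
    | zero => rfl
    | succ n ih =>
      have h2 : f' y = y := hP f' (mem_zpowers f') y hy
      rw [pow_succ, MulAut.mul_apply, ← hff, h2, ih]
  rcases k with n | n
  · rw [Int.ofNat_eq_natCast, zpow_natCast]; exact h1 n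
  · rw [zpow_negSucc, MulAut.inv_apply, MulEquiv.symm_apply_eq]
    exact (h1 (n + 1)).symm

/-- ARITH 1 -/
theorem factorization_pow_sub_one {p q : ℕ} (hp : p.Prime) (hq : q.Prime) (hpq : p ≠ q) {q₀ : ℕ} (h1 : 1 < q₀)
    (h0 : ¬ p ∣ q₀) (hd : ¬ q ∣ orderOf (q₀ : ZMod p)) (j i : ℕ) (hi : i ≠ 0) :
    ((q₀ ^ q ^ j) ^ i - 1).factorization p = (q₀ ^ i - 1).factorization p :=
  H461.PQ.factorization_pow_sub_one' hp hq hpq h1 hd j i hi

/-- ARITH 2 -/
theorem factorization_pow_add_one {p q : ℕ} (hp : p.Prime) (hq : q.Prime) (hq2 : q ≠ 2) (hpq : p ≠ q) {q₀ : ℕ}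
    (h1 : 1 < q₀) (h0 : ¬ p ∣ q₀) (hd : ¬ q ∣ orderOf (q₀ : ZMod p)) (j i : ℕ) (hi : i ≠ 0) :
    ((q₀ ^ q ^ j) ^ i + 1).factorization p = (q₀ ^ i + 1).factorization p :=
  H461.PQ.factorization_pow_add_one' hp hq hpq h1 hd j i hi

/-- ARITH 3 -/
theorem lt_of_dvd_order {p q : ℕ} (hp : p.Prime) (hq : q.Prime) {c : ℕ} (hc : ¬ p ∣ c)
    (hd : q ∣ orderOf (c : ZMod p)) : q ∣ p - 1 ∧ q < p := by
  have : Fact p.Prime := ⟨hp⟩
  have hc0 : (c : ZMod p) ≠ 0 := by rwa [Ne, ZMod.natCast_eq_zero_iff]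
  have h1 := hd.trans (ZMod.orderOf_dvd_card_sub_one hc0)
  have h2 := Nat.le_of_dvd (by have := hp.two_le; omega) h1
  exact ⟨h1, by have := hp.two_le; omega⟩

end Cfsg.Agent.H173.PQ
end

-- part: H461/PQ/Arith
section
/-!
# S4981, ORD-T: the `p`-parts of the orders of `²E₆` and `³D₄` over subfields
-/

set_option autoImplicit false

namespace Cfsg.Agent.H461.PQ

/-- the order of `q₀` from the order of `q₀ ^ m` -/
theorem not_dvd_orderOf {p q q₀ m : ℕ} (hq : q.Prime) (hqm : ¬ q ∣ m)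
    (hord : ¬ q ∣ orderOf (((q₀ ^ m : ℕ)) : ZMod p)) : ¬ q ∣ orderOf (q₀ : ZMod p) := by
  intro h
  apply hord
  have h1 : orderOf (q₀ : ZMod p) ∣ m * orderOf (((q₀ ^ m : ℕ)) : ZMod p) := by
    apply orderOf_dvd_of_pow_eq_one
    rw [pow_mul, ← Nat.cast_pow]
    exact pow_orderOf_eq_one _
  exact ((hq.dvd_mul).1 (h.trans h1)).resolve_left hqm

/-- the product of the order of `²E₆` -/
def nE (q : ℕ) : ℕ := q ^ 36 * (q ^ 2 - 1) * (q ^ 5 + 1) * (q ^ 6 - 1) * (q ^ 8 - 1) * (q ^ 9 + 1) * (q ^ 12 - 1)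

theorem sub_ne {q i : ℕ} (hq : 1 < q) (hi : i ≠ 0) : q ^ i - 1 ≠ 0 := by
  have := Nat.one_lt_pow hi hq
  omega

theorem fact_nE {p q : ℕ} (hp : p.Prime) (hq : 1 < q) (h0 : ¬ p ∣ q) :
    (nE q).factorization p = (q ^ 2 - 1).factorization p + (q ^ 5 + 1).factorization p +
      (q ^ 6 - 1).factorization p + (q ^ 8 - 1).factorization p + (q ^ 9 + 1).factorization p +
        (q ^ 12 - 1).factorization p := by
  have e1 : (q ^ 36).factorization p = 0 :=
    Nat.factorization_eq_zero_of_not_dvd fun h => h0 (hp.dvd_of_dvd_pow h)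
  have n0 : q ^ 36 ≠ 0 := by positivity
  have n2 := sub_ne hq (i := 2) (by norm_num)
  have n6 := sub_ne hq (i := 6) (by norm_num)
  have n8 := sub_ne hq (i := 8) (by norm_num)
  have n12 := sub_ne hq (i := 12) (by norm_num)
  have n5 : q ^ 5 + 1 ≠ 0 := by positivity
  have n9 : q ^ 9 + 1 ≠ 0 := by positivity
  unfold nE
  rw [Nat.factorization_mul (by (clear * - hq n2 n6 n8; positivity)) n12, Nat.factorization_mul (by (clear * - hq n2 n6 n8; positivity)) n9,
    Nat.factorization_mul (by positivity) n8, Nat.factorization_mul (by positivity) n6,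
    Nat.factorization_mul (by positivity) n5, Nat.factorization_mul n0 n2]
  simp only [Finsupp.add_apply, e1, zero_add]

theorem three_dvd_iff {a n : ℕ} (hn : Odd n) : 3 ∣ a ^ n + 1 ↔ 3 ∣ a + 1 := by
  constructor
  · intro h
    have h3 : a % 3 = 0 ∨ a % 3 = 1 ∨ a % 3 = 2 := by omega
    rcases h3 with h3 | h3 | h3
    · exfalso
      have h4 : 3 ∣ a ^ n := dvd_pow (Nat.dvd_of_mod_eq_zero h3) (by rintro rfl; exact absurd hn (by decide))
      omega
    · exfalso
      have h4 : a ^ n % 3 = 1 := by rw [Nat.pow_mod, h3]; simp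
      omega
    · omega
  · intro h
    have := Odd.nat_add_dvd_pow_add_pow a 1 hn
    rw [one_pow] at this
    exact h.trans this

theorem gcd_three {a b : ℕ} (h : 3 ∣ a ↔ 3 ∣ b) : Nat.gcd 3 a = Nat.gcd 3 b := by
  by_cases h3 : 3 ∣ a
  · rw [Nat.gcd_eq_left h3, Nat.gcd_eq_left (h.1 h3)]
  · have h1 : Nat.gcd 3 a = 1 := (Nat.prime_three.coprime_iff_not_dvd).2 h3
    have h2 : Nat.gcd 3 b = 1 := (Nat.prime_three.coprime_iff_not_dvd).2 fun h' => h3 (h.2 h')
    rw [h1, h2]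

/-- the `p`-parts of the orders of `²E₆(q₀)` and `²E₆(q₀ ^ n)`, `n` a power of `q` -/
theorem fact_e6 {p q : ℕ} (hp : p.Prime) (hq : q.Prime) (hq3 : 3 < q) (hpq : p ≠ q) {q₀ : ℕ} (h1 : 1 < q₀)
    (h0 : ¬ p ∣ q₀) (hd : ¬ q ∣ orderOf (q₀ : ZMod p)) (k : ℕ) {c c₀ : ℕ}
    (hc : Nat.gcd 3 (q₀ ^ q ^ k + 1) * c = nE (q₀ ^ q ^ k)) (hc₀ : Nat.gcd 3 (q₀ + 1) * c₀ = nE q₀) :
    c.factorization p = c₀.factorization p := by
  have hq2 : q ≠ 2 := by omega
  have hodd : Odd (q ^ k) := (hq.odd_of_ne_two hq2).pow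
  have hQ : 1 < q₀ ^ q ^ k := Nat.one_lt_pow (pow_ne_zero _ hq.ne_zero) h1
  have hQ0 : ¬ p ∣ q₀ ^ q ^ k := fun h => h0 (hp.dvd_of_dvd_pow h)
  have hg : Nat.gcd 3 (q₀ ^ q ^ k + 1) = Nat.gcd 3 (q₀ + 1) := gcd_three (three_dvd_iff hodd)
  have hN : (nE (q₀ ^ q ^ k)).factorization p = (nE q₀).factorization p := by
    rw [fact_nE hp hQ hQ0, fact_nE hp h1 h0]
    have S := fun i (hi : i ≠ 0) => factorization_pow_sub_one' hp hq hpq h1 hd k i hi
    have A := fun i (hi : i ≠ 0) => factorization_pow_add_one' hp hq hpq h1 hd k i hi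
    rw [S 2 (by norm_num), S 6 (by norm_num), S 8 (by norm_num), S 12 (by norm_num), A 5 (by norm_num),
      A 9 (by norm_num)]
  have hne : nE q₀ ≠ 0 := by
    have := sub_ne h1 (i := 2) (by norm_num)
    have := sub_ne h1 (i := 6) (by norm_num)
    have := sub_ne h1 (i := 8) (by norm_num)
    have := sub_ne h1 (i := 12) (by norm_num)
    unfold nE
    positivity
  have hNe : nE (q₀ ^ q ^ k) ≠ 0 := by
    have := sub_ne hQ (i := 2) (by norm_num)
    have := sub_ne hQ (i := 6) (by norm_num)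
    have := sub_ne hQ (i := 8) (by norm_num)
    have := sub_ne hQ (i := 12) (by norm_num)
    unfold nE
    positivity
  rw [hg] at hc
  rw [← hc] at hNe hN
  rw [← hc₀] at hne hN
  rw [Nat.factorization_mul (left_ne_zero_of_mul hNe) (right_ne_zero_of_mul hNe),
    Nat.factorization_mul (left_ne_zero_of_mul hne) (right_ne_zero_of_mul hne)] at hN
  simpa only [_root_.Finsupp.coe_add, _root_.Pi.add_apply, _root_.Nat.add_left_cancel_iff] using hN

/-- the order of `³D₄` -/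
def nD (q : ℕ) : ℕ := q ^ 12 * (q ^ 2 - 1) * (q ^ 6 - 1) * (q ^ 8 + q ^ 4 + 1)

theorem nD_mul {q : ℕ} (hq : 1 < q) : nD q * (q ^ 4 - 1) = q ^ 12 * (q ^ 2 - 1) * (q ^ 6 - 1) * (q ^ 12 - 1) := by
  have h : (q ^ 8 + q ^ 4 + 1) * (q ^ 4 - 1) = q ^ 12 - 1 := by
    have h4 : 1 ≤ q ^ 4 := Nat.one_le_pow _ _ (by omega)
    have h12 : 1 ≤ q ^ 12 := Nat.one_le_pow _ _ (by omega)
    zify [h4, h12]
    ring
  unfold nD
  rw [mul_assoc, h]

theorem fact_nD {p q : ℕ} (hp : p.Prime) (hq : 1 < q) (h0 : ¬ p ∣ q) :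
    (nD q).factorization p + (q ^ 4 - 1).factorization p = (q ^ 2 - 1).factorization p +
      (q ^ 6 - 1).factorization p + (q ^ 12 - 1).factorization p := by
  have e1 : (q ^ 12).factorization p = 0 :=
    Nat.factorization_eq_zero_of_not_dvd fun h => h0 (hp.dvd_of_dvd_pow h)
  have n0 : q ^ 12 ≠ 0 := by positivity
  have n2 := sub_ne hq (i := 2) (by norm_num)
  have n4 := sub_ne hq (i := 4) (by norm_num)
  have n6 := sub_ne hq (i := 6) (by norm_num)
  have n12 := sub_ne hq (i := 12) (by norm_num)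
  have hD : nD q ≠ 0 := by unfold nD; (clear * - hq n2 n6; positivity)
  have h := congrArg (fun n => n.factorization p) (nD_mul hq)
  rw [Nat.factorization_mul hD n4, Nat.factorization_mul (by positivity) n12,
    Nat.factorization_mul (by positivity) n6, Nat.factorization_mul n0 n2] at h
  simpa only [Finsupp.add_apply, e1, zero_add] using h

/-- the `p`-parts of the orders of `³D₄(q₀)` and `³D₄(q₀ ^ n)`, `n` a power of `q` -/
theorem fact_d4 {p q : ℕ} (hp : p.Prime) (hq : q.Prime) (hpq : p ≠ q) {q₀ : ℕ} (h1 : 1 < q₀)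
    (h0 : ¬ p ∣ q₀) (hd : ¬ q ∣ orderOf (q₀ : ZMod p)) (k : ℕ) :
    (nD (q₀ ^ q ^ k)).factorization p = (nD q₀).factorization p := by
  have hQ : 1 < q₀ ^ q ^ k := Nat.one_lt_pow (pow_ne_zero _ hq.ne_zero) h1
  have hQ0 : ¬ p ∣ q₀ ^ q ^ k := fun h => h0 (hp.dvd_of_dvd_pow h)
  have a := fact_nD hp hQ hQ0
  have b := fact_nD hp h1 h0
  have S := fun i (hi : i ≠ 0) => factorization_pow_sub_one' hp hq hpq h1 hd k i hi
  rw [S 2 (by norm_num), S 4 (by norm_num), S 6 (by norm_num), S 12 (by norm_num)] at a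
  omega

end Cfsg.Agent.H461.PQ
end

-- part: H461/PQ/OrdT
section
/-!
# S4981, ORD-T: field automorphisms of `²E₆(q)` and `³D₄(q)` centralising a Sylow `p`-subgroup
-/

set_option autoImplicit false

namespace Cfsg.Agent.H461.PQ

open Subgroup Cfsg Cfsg.Lie Cfsg.Agent.H54.PQ Cfsg.Agent.H967.CopMat Cfsg.Agent.H967.CopRow Cfsg.Agent.H967.CopChev
  Cfsg.Agent.H967.CopTw Cfsg.Agent.H967.CopSz Cfsg.Agent.H967.CopFix Cfsg.Agent.H967.CopD4 Cfsg.Agent.H967.FaTw

/-- the group over the fixed field has the right order: the automorphism centralises a Sylow subgroup -/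
theorem centSyl_of_fixed {p : ℕ} [Fact p.Prime] {ι : Type*} [Fintype ι] [DecidableEq ι] {F : Type*} [Field F]
    [Finite F] {G : Subgroup (GL ι F)} (hG : Stab G) (σ : F ≃+* F) {G₀ : Subgroup (GL ι ↥(Fx σ))}
    (h : G₀.map (Matrix.GeneralLinearGroup.map (Fx σ).subtype) ≤ G)
    (hc : (Nat.card ↥G).factorization p = (Nat.card ↥G₀).factorization p) :
    CentSyl p (Subgroup.zpowers (fieldAut hG σ)) := by
  let f₀ : ↥G₀ →* ↥G :=
    { toFun := fun g => ⟨Matrix.GeneralLinearGroup.map (Fx σ).subtype g.1, h ⟨g.1, g.2, rfl⟩⟩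
      map_one' := Subtype.ext (map_one _)
      map_mul' := fun a b => Subtype.ext (map_mul _ _ _) }
  have hf : Function.Injective f₀ := fun a b hab =>
    Subtype.ext (_root_.Cfsg.Agent.H967.CopMat.map_injective (Fx σ).subtype (congrArg Subtype.val hab))
  exact centSyl_of_card' f₀ hf hc (fieldAut hG σ) fun x => Subtype.ext (map_fixed σ x.1)

/-- the characteristic -/
theorem not_dvd_of_cast {p : ℕ} (hp : p.Prime) {K : Type*} [Field K] {r a : ℕ} [CharP K r] (hr : r.Prime)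
    (hpK : (p : K) ≠ 0) : ¬ p ∣ r ^ a := by
  intro h
  have h1 : p = r := (Nat.prime_dvd_prime_iff_eq hp hr).1 (hp.dvd_of_dvd_pow h)
  subst h1
  exact hpK (CharP.cast_eq_zero K p)

theorem cent_te6 {p q : ℕ} [Fact p.Prime] (hq : q.Prime) (hq3 : 3 < q) (hpq : p ≠ q)
    {K : Type} [Field K] [Fintype K] {q₁ : ℕ} (hq₁ : IsPrimePow q₁) (hK : Fintype.card K = q₁ ^ 2)
    (hpK : (p : K) ≠ 0) {σ : K ≃+* K} (hσ : ∃ k : ℕ, orderOf σ = q ^ k)
    (hord : ¬ q ∣ orderOf ((Nat.card ↥(Fx σ) : ℕ) : ZMod p)) :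
    CentSyl p (Subgroup.zpowers (fieldAut (stab_e6 (K := K) q₁) σ)) := by
  have hp : p.Prime := Fact.out
  obtain ⟨r, a, hr, ha, rfl⟩ := (isPrimePow_nat_iff _).1 hq₁
  obtain ⟨k, hk⟩ := hσ
  have : Fintype ↥(Fx σ) := Fintype.ofFinite _
  have hK' : Fintype.card K = r ^ (2 * a) := by rw [hK, ← pow_mul, mul_comm]
  have hc : CharP K r := charP_of_card hr hK'
  have hno : Odd (orderOf σ) := by rw [hk]; exact (hq.odd_of_ne_two (by omega)).pow
  have hE : r ^ (a * 2) = Nat.card ↥(Fx σ) ^ orderOf σ := by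
    rw [← card_Fx, Nat.card_eq_fintype_card, hK', mul_comm]
  obtain ⟨a₀, j, h0, h1, h2, h3⟩ := exists_exp_two hr (by omega) hno hE
  have h2' : Nat.card ↥(Fx σ) = r ^ (2 * a₀) := by rw [h2, ← pow_mul, mul_comm]
  have hpr : ¬ p ∣ r ^ a₀ := not_dvd_of_cast hp hr hpK
  have hq0 : 1 < r ^ a₀ := Nat.one_lt_pow h0 hr.one_lt
  rw [h2] at hord
  have hd : ¬ q ∣ orderOf ((r ^ a₀ : ℕ) : ZMod p) :=
    not_dvd_orderOf hq (fun h => absurd (Nat.le_of_dvd (by norm_num) h) (by omega)) hord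
  refine centSyl_of_fixed (stab_e6 _) σ (G₀ := twistedE6 ↥(Fx σ) (r ^ a)) (words_e6 (Fx σ).subtype _) ?_
  rw [twistedE6_congr (E := ↥(Fx σ)) (e := r ^ a) (pow_eq h2' h3)]
  have hcard := S1066.result (K := ↥(Fx σ)) (hr.isPrimePow.pow h0) (by rw [← Nat.card_eq_fintype_card, h2])
  have hcard' := S1066.result hq₁ hK
  have hra : r ^ a = (r ^ a₀) ^ q ^ k := by rw [← pow_mul, ← hk, ← h1]
  have hra' : Nat.gcd 3 ((r ^ a₀) ^ q ^ k + 1) * Nat.card ↥(twistedE6 K (r ^ a)) = nE ((r ^ a₀) ^ q ^ k) := by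
    rw [← hra]; exact hcard'
  exact fact_e6 hp hq hq3 hpq hq0 hpr hd k hra' hcard

/-- The orders of the groups `³D₄` over a subfield. -/
theorem card_eq_d4 {E : Type*} [Field E] [Fintype E] {r a₀ n : ℕ} (hn3 : ¬ 3 ∣ n)
    (hk : Nat.card E = (r ^ a₀) ^ 3) :
    Nat.card ↥(twistedD4 E (r ^ (a₀ * n))) = Nat.card ↥(twistedD4 E (r ^ a₀)) := by
  have hk' : Nat.card E = r ^ (3 * a₀) := by rw [hk, ← pow_mul]; congr 1; ring
  have hn3' : n % 3 = 1 ∨ n % 3 = 2 := by omega
  rcases hn3' with h3 | h3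
  · have h4 : a₀ * n = a₀ + (n / 3) * (3 * a₀) := by
      conv_lhs => rw [← Nat.div_add_mod n 3, h3]
      ring
    rw [← twistedD4_congr (E := E) (e := r ^ (a₀ * n)) (pow_eq hk' h4)]
  · refine Nat.dvd_antisymm ?_ (card_dvd_d4 hn3 hk)
    have h4 : a₀ * n = 2 * a₀ + (n / 3) * (3 * a₀) := by
      conv_lhs => rw [← Nat.div_add_mod n 3, h3]
      ring
    have h5 : ∀ t : E, t ^ r ^ (a₀ * n) = t ^ ((r ^ a₀) ^ 2) := fun t => by
      rw [pow_eq hk' h4 t, ← pow_mul, mul_comm a₀ 2]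
    have h7 : ∀ t : E, t ^ (r ^ a₀) ^ 4 = t ^ (r ^ a₀) := fun t => by
      rw [← pow_mul]
      exact pow_eq hk' (by ring : a₀ * 4 = a₀ + 1 * (3 * a₀)) t
    have h8 : ∀ t : E, t ^ ((r ^ (a₀ * n)) ^ 2) = t ^ (r ^ a₀) := fun t => by
      rw [pow_two (r ^ (a₀ * n)), pow_mul, h5, h5, ← pow_mul, ← pow_add]
      exact h7 t
    have h9 : ∀ t : E, t ^ (r ^ (a₀ * n)) = t → t ^ (r ^ a₀) = t := fun t ht => by
      rw [← h8, pow_two, pow_mul, ht, ht]
    have hle := le_comap (fun t => (h8 t).symm) (fun t => (h5 t).symm) h9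
    refine dvd_trans (dvd_of_eq ?_) (Subgroup.card_dvd_of_le hle)
    exact Nat.card_congr
      ((twistedD4 E (r ^ (a₀ * n))).equivMapOfInjective _ (MulAut.conj (symm.P E)).injective).toEquiv

theorem cent_td4 {p q : ℕ} [Fact p.Prime] (hq : q.Prime) (hq3 : 3 < q) (hpq : p ≠ q)
    {K : Type} [Field K] [Fintype K] {q₁ : ℕ} (hq₁ : IsPrimePow q₁) (hK : Fintype.card K = q₁ ^ 3)
    (hpK : (p : K) ≠ 0) {σ : K ≃+* K} (hσ : ∃ k : ℕ, orderOf σ = q ^ k)
    (hord : ¬ q ∣ orderOf ((Nat.card ↥(Fx σ) : ℕ) : ZMod p)) :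
    CentSyl p (Subgroup.zpowers (fieldAut (stab_d4 (K := K) q₁) σ)) := by
  have hp : p.Prime := Fact.out
  obtain ⟨r, a, hr, ha, rfl⟩ := (isPrimePow_nat_iff _).1 hq₁
  obtain ⟨k, hk⟩ := hσ
  have : Fintype ↥(Fx σ) := Fintype.ofFinite _
  have hK' : Fintype.card K = r ^ (3 * a) := by rw [hK, ← pow_mul, mul_comm]
  have hc : CharP K r := charP_of_card hr hK'
  have hn3 : ¬ 3 ∣ orderOf σ := by
    rw [hk]
    intro h
    have := (Nat.prime_dvd_prime_iff_eq Nat.prime_three hq).1 (Nat.prime_three.dvd_of_dvd_pow h)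
    omega
  have hE : r ^ (a * 3) = Nat.card ↥(Fx σ) ^ orderOf σ := by
    rw [← card_Fx, Nat.card_eq_fintype_card, hK', mul_comm]
  obtain ⟨a₀, h0, h1, h2⟩ := exists_exp_three hr (by omega) hn3 hE
  have hpr : ¬ p ∣ r ^ a₀ := not_dvd_of_cast hp hr hpK
  have hq0 : 1 < r ^ a₀ := Nat.one_lt_pow h0 hr.one_lt
  rw [h2] at hord
  have hd : ¬ q ∣ orderOf ((r ^ a₀ : ℕ) : ZMod p) :=
    not_dvd_orderOf hq (fun h => absurd (Nat.le_of_dvd (by norm_num) h) (by omega)) hord
  refine centSyl_of_fixed (stab_d4 _) σ (G₀ := twistedD4 ↥(Fx σ) (r ^ a)) (words_d4 (Fx σ).subtype _) ?_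
  have hcard := S1067.result (K := ↥(Fx σ)) (hr.isPrimePow.pow h0) (by rw [← Nat.card_eq_fintype_card, h2])
  have hcard' := S1067.result hq₁ hK
  have hra : r ^ a = (r ^ a₀) ^ q ^ k := by rw [← pow_mul, ← hk, ← h1]
  have e1 : Nat.card ↥(twistedD4 K (r ^ a)) = nD ((r ^ a₀) ^ q ^ k) := by rw [hcard', ← hra]; rfl
  have e2 : Nat.card ↥(twistedD4 ↥(Fx σ) (r ^ a)) = nD (r ^ a₀) := by
    rw [h1, card_eq_d4 hn3 h2, hcard]; rfl
  rw [e1, e2]
  exact fact_d4 hp hq hpq hq0 hpr hd k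

end Cfsg.Agent.H461.PQ
end

-- part: H660/PQ/RowTw
section
/-!
# S4981: the twisted exceptional groups in cross characteristic (helper660)

`TwoTwE6`, `TwoTwD4`, `TwoTwF4` : the case `u² = 1` modulo `p` (helper754). `row_tw_cross_of`, `row_tf4_cross_of` : the
rows from these.
-/

set_option autoImplicit false

open Cfsg Subgroup

namespace Cfsg.Agent.H660.PQ

open Cfsg.Lie Cfsg.Agent.ChevalleyStructure Cfsg.Agent.ChevalleyStructure.Elts
  Cfsg.Agent.ChevalleyStructure.CoxeterGeomTypes Cfsg.Agent.Nodes.RGDChev Cfsg.Agent.H54.PQ Cfsg.Agent.H754.PQ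
  Cfsg.Agent.H967.CopMat Cfsg.Agent.H967.CopChev Cfsg.Agent.H967.FaBase Cfsg.Agent.H55.PQ.Red
  Cfsg.Agent.H967.CopTw Cfsg.Agent.H967.CopSz Cfsg.Agent.H967.FaTw

open scoped MatrixGroups

universe u

/-- the center of a simple group which is not commutative -/
theorem center_eq_bot {G : Type*} [Group G] [IsSimpleGroup G] (hnc : ¬ IsMulCommutative G) : center G = ⊥ := by
  refine (Subgroup.Normal.eq_bot_or_eq_top (H := center G) inferInstance).resolve_right fun h => ?_
  refine hnc ⟨⟨fun a b => ?_⟩⟩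
  have ha : a ∈ center G := by rw [h]; exact mem_top a
  exact (mem_center_iff.1 ha b).symm

/-- the row of a subgroup of `D.group F` -/
theorem sfact_sub {D : ChevalleyDatum} {l : ℕ} {M : CoxeterMatrix (Fin l)} {p q : ℕ} (hD : IsType D l M)
    {F : Type} [Field F] [Fintype F] {G : Subgroup (GL D.Idx F)} (hG : Stab G) (hle : G ≤ D.group F)
    (hsimple : IsSimpleGroup ↥G ∧ ¬ IsMulCommutative ↥G)
    (hs : Group.IsSolvable (Cfsg.Out ↥G)) {r n c : ℕ} [Fact r.Prime] [CharP F r] (hn : 1 ≤ n)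
    (hF : Fintype.card F = r ^ n) (hpr : p ≠ r) (hinn : ∀ σ : F ≃+* F, σ ≠ 1 → fieldAut hG σ ∉ Cfsg.Inn ↥G)
    (hc : Nat.card (Cfsg.Out ↥G) ∣ c * n)
    (hcs : ∀ s : ℕ, s.Prime → s ∣ c → s ≤ 3) (h2 : 2 ∣ Nat.card ↥G) (h3 : 3 ∣ Nat.card ↥G) (u : ℕ)
    (hui : ∀ (K : Type) [Field K] [Finite K] [Algebra F K],
      (∀ g : ↥G, ((g : GL D.Idx F) : Matrix D.Idx D.Idx F).charpoly.map (algebraMap F K) |>.Splits) → ∀ x : ↥G,
      (rts G.subtype K x).map (· ^ u) = rts G.subtype K x)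
    (hsd : q.Prime → 3 < q → ∀ φ : F ≃+* F, (∃ k : ℕ, orderOf φ = q ^ k) →
      ∃ s d : ℕ, Nat.card (Fx φ) = s ^ d ∧ ¬ q ∣ d ∧ s ^ (orderOf φ) = u)
    (hcent : ∀ [Fact p.Prime] [Fact q.Prime], (p : F) ≠ 0 → p ≠ q → 3 < q → ∀ φ : F ≃+* F,
      (∃ k : ℕ, orderOf φ = q ^ k) → ¬ q ∣ orderOf ((Nat.card (Fx φ) : ℕ) : ZMod p) →
      CentSyl p (zpowers (fieldAut hG φ)))
    (htwo : ∀ [Fact p.Prime] [Fact q.Prime], (p : F) ≠ 0 → 7 < p → 3 < q → ¬ q ∣ Nat.card ↥G → p ∣ Nat.card ↥G →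
      ∀ (A Φ : Subgroup (MulAut ↥G)) (φ : F ≃+* F), φ ≠ 1 → FSit p q (fieldAut hG) A Φ φ →
      InvHyp p A Φ → q ∣ orderOf ((Nat.card (Fx φ) : ℕ) : ZMod p) → ((u : ℕ) : ZMod p) ^ 2 = 1 → False)
    (hnum : ∀ [Fact p.Prime] [Fact q.Prime], 7 < p → ¬ q ∣ Nat.card ↥G → NumOK D l p q) :
    SFact p q ↥G := by
  have := hsimple.1
  refine sfact_mat hG (center_eq_bot hsimple.2) hs hn hF hpr hinn hc hcs h2 h3 ?_ ?_
  · intro hp hq hpq hq3 hqG φ hφ hord
    have hpF : (p : F) ≠ 0 := by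
      rw [Ne, CharP.cast_eq_zero_iff F r]
      intro h
      exact hpr ((Nat.prime_dvd_prime_iff_eq Fact.out hp.out).1 h).symm
    exact hcent hpF hpq hq3 φ hφ hord
  · intro hp hq hpq h7 hq3 hqG hpG A Φ φ hφ hFS hinv hord
    have hpF : (p : F) ≠ 0 := by
      rw [Ne, CharP.cast_eq_zero_iff F r]
      intro h
      exact hpr ((Nat.prime_dvd_prime_iff_eq Fact.out hp.out).1 h).symm
    by_cases htw : ((u : ℕ) : ZMod p) ^ 2 = 1
    · exact htwo hpF h7 hq3 hqG hpG A Φ φ hφ hFS hinv hord htw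
    · obtain ⟨s, d, hs1, hd, hsu⟩ := hsd hq.out hq3 φ hFS.φ
      refine exc_false hD h7 hpF hG hle hφ hFS hinv hpG hs1 hd hord ?_ ?_ (hnum h7 hqG)
      · rw [hsu]
        exact hui
      · rw [hsu]
        exact htw

/-! ### eigenvalues in the twisted groups -/

/-- the eigenvalues of an element `x = P x^(q₁) P⁻¹` are closed under the `q₁`-th power -/
theorem rts_twist {ι : Type} [Fintype ι] [DecidableEq ι] {F : Type} [Field F] [Finite F] {G : Subgroup (GL ι F)}
    {K : Type} [Field K] [Finite K] [Algebra F K]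
    (hsp : ∀ g : ↥G, (((g : GL ι F) : Matrix ι ι F).charpoly.map (algebraMap F K)).Splits) {q₁ : ℕ}
    (hq₁ : IsPrimePow q₁) {n : ℕ} (hF : Nat.card F = q₁ ^ n) {P : GL ι F} {σ : F →+* F}
    (hσ : ∀ x, σ x = x ^ q₁) (x : ↥G)
    (h : (x : GL ι F) = P * Matrix.GeneralLinearGroup.map σ (x : GL ι F) * P⁻¹) :
    (rts G.subtype K x).map (· ^ q₁) = rts G.subtype K x := by
  classical
  have := Fintype.ofFinite F
  obtain ⟨r, a, hr, ha, hq₁'⟩ := (isPrimePow_nat_iff _).1 hq₁
  have hrp : Fact r.Prime := ⟨hr⟩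
  have hcard : Fintype.card F = r ^ (a * n) := by rw [← Nat.card_eq_fintype_card, hF, ← hq₁', pow_mul]
  have hc : CharP F r := charP_of_card hr hcard
  have hσb : Function.Bijective σ := ⟨σ.injective, Finite.surjective_of_injective σ.injective⟩
  let τ : F ≃+* F := RingEquiv.ofBijective σ hσb
  have hτ : (τ : F →+* F) = σ := RingHom.ext fun x => rfl
  have h1 := rts_semi (ρ := G.subtype) (K := K) hsp (r := r) (σ := τ) (n := a)
    (fun x => by rw [hq₁']; exact hσ x) (s := P) (y := x) (y' := x) (by rw [hτ]; exact h)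
  rw [hq₁'] at h1
  exact h1.symm

theorem nroots_d4 : chevD4.nroots = 24 := by decide +kernel

/-- the case `u² = 1` modulo `p`, `²E₆` -/
def TwoTwE6 : Prop :=
  ∀ (p q : ℕ) [Fact p.Prime] [Fact q.Prime] (F : Type) [Field F] [Fintype F] (q₁ : ℕ), IsPrimePow q₁ →
    Fintype.card F = q₁ ^ 2 → (p : F) ≠ 0 → 7 < p → 3 < q →
    ¬ q ∣ Nat.card ↥(twistedE6 F q₁) → p ∣ Nat.card ↥(twistedE6 F q₁) →
    ∀ (A Φ : Subgroup (MulAut ↥(twistedE6 F q₁))) (φ : F ≃+* F), φ ≠ 1 →
      FSit p q (fieldAut (stab_e6 (K := F) q₁)) A Φ φ →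
      InvHyp p A Φ → q ∣ orderOf ((Nat.card (Fx φ) : ℕ) : ZMod p) → ((q₁ : ℕ) : ZMod p) ^ 2 = 1 → False

/-- the case `u² = 1` modulo `p`, `³D₄` -/
def TwoTwD4 : Prop :=
  ∀ (p q : ℕ) [Fact p.Prime] [Fact q.Prime] (F : Type) [Field F] [Fintype F] (q₁ : ℕ), IsPrimePow q₁ →
    Fintype.card F = q₁ ^ 3 → (p : F) ≠ 0 → 7 < p → 3 < q →
    ¬ q ∣ Nat.card ↥(twistedD4 F q₁) → p ∣ Nat.card ↥(twistedD4 F q₁) →
    ∀ (A Φ : Subgroup (MulAut ↥(twistedD4 F q₁))) (φ : F ≃+* F), φ ≠ 1 →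
      FSit p q (fieldAut (stab_d4 (K := F) q₁)) A Φ φ →
      InvHyp p A Φ → q ∣ orderOf ((Nat.card (Fx φ) : ℕ) : ZMod p) → ((q₁ : ℕ) : ZMod p) ^ 2 = 1 → False

/-- the case `u² = 1` modulo `p`, `²F₄` -/
def TwoTwF4 : Prop :=
  ∀ (p q : ℕ) [Fact p.Prime] [Fact q.Prime] (F : Type) [Field F] [Fintype F] (m : ℕ), 1 ≤ m →
    Fintype.card F = 2 ^ (2 * m + 1) → (p : F) ≠ 0 → 7 < p → 3 < q →
    ¬ q ∣ Nat.card ↥(twistedF4 F (2 ^ m)) → p ∣ Nat.card ↥(twistedF4 F (2 ^ m)) →
    ∀ (A Φ : Subgroup (MulAut ↥(twistedF4 F (2 ^ m)))) (φ : F ≃+* F), φ ≠ 1 →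
      FSit p q (fieldAut (stab_f4 (K := F) (2 ^ m))) A Φ φ →
      InvHyp p A Φ → q ∣ orderOf ((Nat.card (Fx φ) : ℕ) : ZMod p) → ((Nat.card F : ℕ) : ZMod p) ^ 2 = 1 → False

variable {p q r : ℕ}

theorem sfact_2e6 (htwo : TwoTwE6) (hpr : p ≠ r) {F : Type} [Field F] [Fintype F] [CharP F r] {q₁ : ℕ}
    (hq₁ : IsPrimePow q₁) (hF : Fintype.card F = q₁ ^ 2) : SFact p q ↥(twistedE6 F q₁) := by
  have hr : r.Prime := CharP.char_is_prime F r
  have : Fact r.Prime := ⟨hr⟩
  obtain ⟨r', a, hr', ha, hqa⟩ := (isPrimePow_nat_iff _).1 hq₁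
  have hF' : Fintype.card F = r' ^ (2 * a) := by rw [hF, ← hqa, ← pow_mul, mul_comm]
  have hrr : r' = r := CharP.eq F (charP_of_card hr' hF') ‹CharP F r›
  subst hrr
  subst hqa
  have hsimple := S1070.result hq₁ hF
  have hsch := Cfsg.Agent.Schreier.TwESix.sch_of_iso2E6 (G := ↥(twistedE6 F (r' ^ a)))
    ⟨F, inferInstance, inferInstance, r' ^ a, hq₁, hF, ⟨MulEquiv.refl _⟩⟩
  have hD : IsType chevE6 6 CoxeterMatrix.E₆ := by simp [IsType, typeList]
  have hcard := S1066.result (K := F) hq₁ hF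
  have hq0 : 0 < r' ^ a := pow_pos hr.pos _
  set u := r' ^ a with hudef
  have key : ∃ M, Nat.card ↥(twistedE6 F u) = (u ^ 36 * (u ^ 12 - 1)) * M := by
    by_cases h3 : 3 ∣ u + 1
    · rw [Nat.gcd_eq_left h3] at hcard
      have h5 : 3 ∣ u ^ 5 + 1 := by
        have h6 : u + 1 ∣ u ^ 5 + 1 := by
          have := Odd.nat_add_dvd_pow_add_pow u 1 (n := 5) (by decide)
          rwa [one_pow] at this
        exact h3.trans h6
      obtain ⟨b, hb⟩ := h5
      rw [hb] at hcard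
      refine ⟨(u ^ 2 - 1) * b * (u ^ 6 - 1) * (u ^ 8 - 1) * (u ^ 9 + 1), ?_⟩
      refine Nat.eq_of_mul_eq_mul_left (show 0 < 3 by norm_num) ?_
      rw [hcard]
      ring
    · have h4 : Nat.gcd 3 (u + 1) = 1 := by
        rcases (Nat.dvd_prime Nat.prime_three).1 (Nat.gcd_dvd_left 3 (u + 1)) with h | h
        · exact h
        · exact absurd (h ▸ Nat.gcd_dvd_right 3 (u + 1)) h3
      rw [h4, one_mul] at hcard
      exact ⟨(u ^ 2 - 1) * (u ^ 5 + 1) * (u ^ 6 - 1) * (u ^ 8 - 1) * (u ^ 9 + 1), by rw [hcard]; ring⟩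
  obtain ⟨N, hN⟩ := key
  have hdvd : ∀ s : ℕ, s.Prime → (s - 1) ∣ 12 → s ∣ Nat.card ↥(twistedE6 F u) := by
    intro s hs hs12
    rw [hN]
    exact (Cfsg.Agent.H967.FaChev.prime_dvd_of hs hq0 hs12 (by norm_num)).mul_right _
  refine sfact_sub hD (stab_e6 _) (Cfsg.Agent.H701.Chev.genSubgroup_le hD.inList _) hsimple
    (H254.isSolvable_out_of_sch hsch) (c := Nat.gcd 3 (u + 1)) (by omega) hF' hpr (not_inner_e6 hq₁ hF) ?_ ?_
    (hdvd 2 Nat.prime_two (by norm_num)) (hdvd 3 Nat.prime_three (by norm_num)) u ?_ ?_ ?_ ?_ ?_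
  · rw [S2130.result r' a hF' ha]
    exact dvd_of_eq (by ring)
  · intro s hs h
    exact Nat.le_of_dvd (by norm_num) (h.trans (Nat.gcd_dvd_left _ _))
  · intro K _ _ _ hsp x
    obtain ⟨σ, hσ, -⟩ := Cfsg.Agent.ChevalleyStructure.TwE6Basic.exists_frob hq₁ hF
    have h1 := E6Fixed.twisted_le_fix hF hσ x.2
    exact rts_twist hsp hq₁ (n := 2) (by rw [Nat.card_eq_fintype_card, hF]) hσ x h1.symm
  · intro hq hq3 φ hφ
    obtain ⟨k, hk⟩ := hφ
    have hno : Odd (orderOf φ) := by rw [hk]; exact (hq.odd_of_ne_two (by omega)).pow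
    have hE : r' ^ (a * 2) = Nat.card ↥(Fx φ) ^ orderOf φ := by
      rw [← card_Fx, Nat.card_eq_fintype_card, hF', mul_comm]
    obtain ⟨a₀, j, h0, h1, h2, h3⟩ := exists_exp_two hr (by omega) hno hE
    refine ⟨r' ^ a₀, 2, h2, fun h => ?_, ?_⟩
    · have := Nat.le_of_dvd (by norm_num) h; omega
    · rw [← pow_mul, ← h1]
  · intro hp hq hpF hpq hq3 φ hφ hord
    exact Cfsg.Agent.H461.PQ.cent_te6 hq.out hq3 hpq hq₁ hF hpF hφ hord
  · intro hp hq hpF h7 hq3 hqG hpG A Φ φ hφ hFS hinv hord htw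
    exact htwo p q F u hq₁ hF hpF h7 hq3 hqG hpG A Φ φ hφ hFS hinv hord htw
  · intro hp hq h7 hqG
    have hq11 : 11 ≤ q := by
      by_contra hcon
      rcases prime_cases hq.out (by omega) with rfl | rfl | rfl | rfl | rfl | rfl
      · exact hqG (hdvd _ hq.out (by norm_num))
      · exact hqG (hdvd _ hq.out (by norm_num))
      · exact hqG (hdvd _ hq.out (by norm_num))
      · exact hqG (hdvd _ hq.out (by norm_num))
      · omega
      · omega
    refine numOK_of hD conn_e6 (by rw [nroots_e6]; omega) ?_ (by omega)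
    rw [nroots_e6]
    exact not_dvd_two_three hq.out (by omega) 3 2

theorem sfact_3d4 (htwo : TwoTwD4) (hpr : p ≠ r) {F : Type} [Field F] [Fintype F] [CharP F r] {q₁ : ℕ}
    (hq₁ : IsPrimePow q₁) (hF : Fintype.card F = q₁ ^ 3) : SFact p q ↥(twistedD4 F q₁) := by
  have hr : r.Prime := CharP.char_is_prime F r
  have : Fact r.Prime := ⟨hr⟩
  obtain ⟨r', a, hr', ha, hqa⟩ := (isPrimePow_nat_iff _).1 hq₁
  have hF' : Fintype.card F = r' ^ (3 * a) := by rw [hF, ← hqa, ← pow_mul, mul_comm]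
  have hrr : r' = r := CharP.eq F (charP_of_card hr' hF') ‹CharP F r›
  subst hrr
  subst hqa
  have hsimple := S1071.result hq₁ hF
  have hD : IsType chevD4 4 coxeterD4 := by simp [IsType, typeList]
  have hcard := S1067.result (K := F) hq₁ hF
  have hq0 : 0 < r' ^ a := pow_pos hr.pos _
  set u := r' ^ a with hudef
  have hdvd : ∀ s : ℕ, s.Prime → (s - 1) ∣ 2 → s ∣ Nat.card ↥(twistedD4 F u) := by
    intro s hs hs12
    rw [hcard]
    exact ((Cfsg.Agent.H967.FaChev.prime_dvd_of hs hq0 hs12 (by norm_num)).mul_right _).mul_right _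
  refine sfact_sub hD (stab_d4 _) (Cfsg.Agent.H701.Chev.genSubgroup_le hD.inList _) hsimple
    (H254.isSolvable_out_of_sch (Cfsg.Agent.Schreier.TwDFour.sch hq₁ hF)) (c := 1) (by omega) hF' hpr
    (not_inner_d4 hq₁ hF) ?_ ?_
    (hdvd 2 Nat.prime_two (by norm_num)) (hdvd 3 Nat.prime_three (by norm_num)) u ?_ ?_ ?_ ?_ ?_
  · rw [S2129.result r' a hF' ha, one_mul]
  · intro s hs h
    exact (Nat.le_of_dvd (by norm_num) h).trans (by norm_num)
  · intro K _ _ _ hsp x
    obtain ⟨σ, hσ⟩ := D4Fixed.exists_frob hq₁ hF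
    have h1 := D4Fixed.twisted_le_fix hF hσ x.2
    exact rts_twist hsp hq₁ (n := 3) (by rw [Nat.card_eq_fintype_card, hF]) hσ x h1.symm
  · intro hq hq3 φ hφ
    obtain ⟨k, hk⟩ := hφ
    have hn3 : ¬ 3 ∣ orderOf φ := by
      rw [hk]
      intro h
      have := (Nat.prime_dvd_prime_iff_eq Nat.prime_three hq).1 (Nat.prime_three.dvd_of_dvd_pow h)
      omega
    have hE : r' ^ (a * 3) = Nat.card ↥(Fx φ) ^ orderOf φ := by
      rw [← card_Fx, Nat.card_eq_fintype_card, hF', mul_comm]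
    obtain ⟨a₀, h0, h1, h2⟩ := exists_exp_three hr (by omega) hn3 hE
    refine ⟨r' ^ a₀, 3, h2, fun h => ?_, ?_⟩
    · have := Nat.le_of_dvd (by norm_num) h; omega
    · rw [← pow_mul, ← h1]
  · intro hp hq hpF hpq hq3 φ hφ hord
    exact Cfsg.Agent.H461.PQ.cent_td4 hq.out hq3 hpq hq₁ hF hpF hφ hord
  · intro hp hq hpF h7 hq3 hqG hpG A Φ φ hφ hFS hinv hord htw
    exact htwo p q F u hq₁ hF hpF h7 hq3 hqG hpG A Φ φ hφ hFS hinv hord htw
  · intro hp hq h7 hqG
    have hq5 : 5 ≤ q := by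
      by_contra hcon
      rcases prime_cases hq.out (by omega) with rfl | rfl | rfl | rfl | rfl | rfl
      · exact hqG (hdvd _ hq.out (by norm_num))
      · exact hqG (hdvd _ hq.out (by norm_num))
      all_goals omega
    refine numOK_of hD conn_d4 (by rw [nroots_d4]; omega) ?_ (by omega)
    rw [nroots_d4]
    exact not_dvd_two_three hq.out (by omega) 3 1

/-- **`²E₆(q)` and `³D₄(q)` in cross characteristic** -/
theorem row_tw_cross_of (h1 : TwoTwE6) (h2 : TwoTwD4) (hpr : p ≠ r) {G : Type u} [Group G] [Finite G]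
    (hG : IsTwistedE6D4Char r G) : SFact p q G := by
  obtain ⟨F, _, _, _, q₁, hq₁, ⟨hF, ⟨e⟩⟩ | ⟨hF, ⟨e⟩⟩⟩ := hG
  · exact sfact_congr e (sfact_2e6 h1 hpr hq₁ hF)
  · exact sfact_congr e (sfact_3d4 h2 hpr hq₁ hF)

/-- the statement ORD-F -/
def CentTwF4 : Prop :=
  ∀ (p q : ℕ) [Fact p.Prime], q.Prime → 3 < q → p ≠ 2 → p ≠ q → ∀ (K : Type) [Field K] [Fintype K] (m : ℕ),
    Fintype.card K = 2 ^ (2 * m + 1) → ∀ σ : K ≃+* K, (∃ k : ℕ, orderOf σ = q ^ k) →
    ¬ q ∣ orderOf ((Nat.card ↥(Fx σ) : ℕ) : ZMod p) →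
    CentSyl p (Subgroup.zpowers (fieldAut (stab_f4 (K := K) (2 ^ m)) σ))

theorem sfact_2f4 (htwo : TwoTwF4) (hcent : CentTwF4) (hp2 : p ≠ 2) {F : Type} [Field F] [Fintype F] {m : ℕ}
    (hm : 1 ≤ m) (hF : Fintype.card F = 2 ^ (2 * m + 1)) : SFact p q ↥(twistedF4 F (2 ^ m)) := by
  have := two_prime
  have hc : CharP F 2 := charP_of_card Nat.prime_two hF
  have h : ∀ ψ : MulAut ↥(twistedF4 F (2 ^ m)), ∃ (g : ↥(twistedF4 F (2 ^ m))) (σ : F ≃+* F),
      ψ = MulAut.conj g * fieldAut (stab_f4 _) σ := fun ψ => by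
    obtain ⟨g, σ, h⟩ := Cfsg.Agent.H71.FldAut.twF4_aut hm hF ψ
    exact ⟨g, σ, h⟩
  have hD : IsType chevF4 4 CoxeterMatrix.F₄ := by simp [IsType, typeList]
  have hcard := S1068.result (K := F) hF
  set Q := 2 ^ (2 * m + 1) with hQ
  have h2 : 2 ∣ Nat.card ↥(twistedF4 F (2 ^ m)) := by
    rw [hcard]
    exact ((((dvd_pow_self 2 (by omega)).trans (dvd_pow_self Q (by norm_num))).mul_right _).mul_right _).mul_right _
      |>.mul_right _
  have h35 : ∀ s : ℕ, s.Prime → s ≠ 2 → (s - 1) ∣ 4 → s ∣ Nat.card ↥(twistedF4 F (2 ^ m)) := by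
    intro s hs hs2 hs4
    rw [hcard]
    have h5 : s ∣ Q ^ 4 - 1 := by
      rcases Cfsg.Agent.H967.FaChev.pow_dvd_of hs (q := Q) (k := 4) (by positivity) hs4 with h | h
      · exact absurd ((Nat.prime_dvd_prime_iff_eq hs Nat.prime_two).1 (hs.dvd_of_dvd_pow h)) hs2
      · exact h
    exact (h5.mul_left _).mul_right _
  have h3 := h35 3 Nat.prime_three (by norm_num) (by norm_num)
  refine sfact_sub hD (stab_f4 _) (Cfsg.Agent.H701.Chev.genSubgroup_le hD.inList _) (S1072.result hm hF)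
    (solvable_of_conj_field (stab_f4 _) h) (c := 1) (by omega) hF hp2
    (not_inner_of_conj_field (stab_f4 _) (by omega) hF (S2128.result hm hF) h) ?_ ?_ h2 h3 (Nat.card F) ?_ ?_ ?_ ?_ ?_
  · rw [S2128.result hm hF, one_mul]
  · intro s hs h
    exact (Nat.le_of_dvd (by norm_num) h).trans (by norm_num)
  · intro K _ _ _ hsp x
    exact rts_frob hsp x
  · intro hq hq3 φ hφ
    exact ⟨Nat.card (Fx φ), 1, (pow_one _).symm, fun h => hq.one_lt.ne' (Nat.dvd_one.1 h), (card_Fx φ).symm⟩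
  · intro hp hq hpF hpq hq3 φ hφ hord
    exact hcent p q hq.out hq3 hp2 hpq F m hF φ hφ hord
  · intro hp hq hpF h7 hq3 hqG hpG A Φ φ hφ hFS hinv hord htw
    exact htwo p q F m hm hF hpF h7 hq3 hqG hpG A Φ φ hφ hFS hinv hord htw
  · intro hp hq h7 hqG
    have hq7 : 7 ≤ q := by
      by_contra hcon
      rcases prime_cases hq.out (by omega) with rfl | rfl | rfl | rfl | rfl | rfl
      · exact hqG h2
      · exact hqG h3
      · exact hqG (h35 5 Nat.prime_five (by norm_num) (by norm_num))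
      all_goals omega
    refine numOK_of hD conn_f4 (by rw [nroots_f4]; omega) ?_ (by omega)
    rw [nroots_f4]
    exact not_dvd_two_three hq.out (by omega) 4 1

/-- **`²F₄(q)` in cross characteristic** -/
theorem row_tf4_cross_of (htwo : TwoTwF4) (hcent : CentTwF4) (hp2 : p ≠ 2) {G : Type u} [Group G] [Finite G]
    (hG : Lie.Iso2F4 G) : SFact p q G := by
  obtain ⟨F, _, _, m, hm, hF, ⟨e⟩⟩ := hG
  exact sfact_congr e (sfact_2f4 htwo hcent hp2 hm hF)

end Cfsg.Agent.H660.PQ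
end

-- part: H754/PQ/Expo
section
/-!
# S4981: the exponent of a Sylow `p`-subgroup in cross characteristic (helper754)

`expo` : a `p`-element `x` over the field `F` satisfies `x ^ (|F| ^ m - 1) = 1` for some `m` prime to `p`.
-/

set_option autoImplicit false

open Polynomial Cfsg Subgroup

open scoped MatrixGroups

namespace Cfsg.Agent.H754.PQ

open Cfsg.Agent.H54.PQ Cfsg.Agent.H967.CopMat

universe u v w

section

variable {p : ℕ} [hp : Fact p.Prime] {F : Type w} [Field F] [Finite F] {ι : Type} [Fintype ι] [DecidableEq ι]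
  {K : Type w} [Field K] [Finite K] [Algebra F K] {GG : Subgroup (GL ι K)}

theorem expo (hGG : Stab GG) (T : Sylow p ↥GG)
    (hT : ∀ t ∈ T, ∀ i j, i ≠ j → ((t : GL ι K) : Matrix ι ι K) i j = 0) {x : GL ι F}
    (hxG : Matrix.GeneralLinearGroup.map (algebraMap F K) x ∈ GG) (hx : ∃ j : ℕ, x ^ p ^ j = 1) :
    ∃ m : ℕ, ¬ p ∣ m ∧ x ^ (Nat.card F ^ m - 1) = 1 := by
  classical
  have := Fintype.ofFinite F
  obtain ⟨r, hr⟩ := CharP.exists F
  have hrp : Fact r.Prime := ⟨CharP.char_is_prime F r⟩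
  have hK : CharP K r := charP_of_injective_algebraMap (algebraMap F K).injective r
  obtain ⟨n, _, hn⟩ := FiniteField.card F r
  rw [← Nat.card_eq_fintype_card] at hn
  set y : ↥GG := ⟨_, hxG⟩ with hy
  obtain ⟨j, hj⟩ := hx
  have hyj : y ^ p ^ j = 1 := by
    refine Subtype.ext ?_
    show (Matrix.GeneralLinearGroup.map (algebraMap F K) x) ^ p ^ j = 1
    rw [← map_pow, hj, map_one]
  have hcomm := diag_comm hT
  obtain ⟨g, hg⟩ := exists_conj_mem T ⟨j, hyj⟩
  set t : ↥GG := g * y * g⁻¹ with ht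
  set fr : MulAut ↥GG := fieldAut hGG (frobN K r n) with hfr
  have hfy : fr y = y := by
    refine ext_mat fun i j => ?_
    rw [hfr, fieldAut_apply, frobN_apply, ← hn]
    show (algebraMap F K ((x : Matrix ι ι F) i j)) ^ Nat.card F = algebraMap F K ((x : Matrix ι ι F) i j)
    rw [← map_pow, Nat.card_eq_fintype_card, FiniteField.pow_card]
  have hft : fr t = t ^ Nat.card F := by rw [hn]; exact fieldAut_diag hGG hT n t hg
  have hht : (fr g * g⁻¹) * t * (fr g * g⁻¹)⁻¹ = t ^ Nat.card F := by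
    rw [← hft, ht, map_mul, map_mul, map_inv, hfy]
    group
  obtain ⟨c, hc, hct⟩ := burnside T hcomm (A₀ := zpowers t) ((zpowers_le).2 hg) (h := fr g * g⁻¹) (by
    intro z hz
    obtain ⟨i, rfl⟩ := mem_zpowers_iff.1 hz
    rw [← conj_zpow, hht]
    exact zpow_mem (pow_mem (mem_zpowers t) _) i)
  obtain ⟨m, hm, hcm⟩ := exists_pow_centralizes T hcomm hc
  have hct' : c * t * c⁻¹ = t ^ Nat.card F := by rw [hct t (mem_zpowers t), hht]
  have hiter : ∀ i : ℕ, c ^ i * t * (c ^ i)⁻¹ = t ^ Nat.card F ^ i := by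
    intro i
    induction i with
    | zero => simp
    | succ i ih =>
      have e1 : c ^ (i + 1) * t * (c ^ (i + 1))⁻¹ = c * (c ^ i * t * (c ^ i)⁻¹) * c⁻¹ := by
        rw [pow_succ']; group
      rw [e1, ih, ← conj_pow, hct', ← pow_mul, pow_succ']
  have htm : t ^ Nat.card F ^ m = t := by rw [← hiter m, hcm t hg]
  refine ⟨m, hm, ?_⟩
  have h1 : t ^ (Nat.card F ^ m - 1) = 1 := by
    have h2 : 1 ≤ Nat.card F ^ m := Nat.one_le_pow _ _ Nat.card_pos
    have h3 : t ^ (Nat.card F ^ m - 1) * t = t := by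
      rw [← pow_succ, Nat.sub_add_cancel h2, htm]
    exact mul_eq_right.1 h3
  have h2 : y ^ (Nat.card F ^ m - 1) = 1 := by
    rw [ht, conj_pow] at h1
    exact conj_eq_one_iff.1 h1
  have h3 : Matrix.GeneralLinearGroup.map (algebraMap F K) (x ^ (Nat.card F ^ m - 1)) = 1 := by
    rw [map_pow]
    exact congrArg Subtype.val h2
  exact Cfsg.Agent.H967.CopMat.map_injective (algebraMap F K) (by rw [h3, map_one])

end

end Cfsg.Agent.H754.PQ
end

-- part: H754/PQ/SLTwo
section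
/-!
# S4981: elements of `SL₂` (helper754)

* `exists_conj` (from helper788, `H788/NB/Norm.lean`) : `g ∈ SL₂(K)` of odd prime order `p`, `K ∋` primitive `p`-th root of
  unity: `g` is conjugate to `diag (c, c⁻¹)`;
* `exists_elt` : an element of `SL₂(F)` of order `(Q² - 1)_p`.
-/

set_option autoImplicit false

namespace Cfsg.Agent.H754.PQ.SLTwo

open Cfsg.Agent.ChevalleyStructure.SL2Hom (up lo mem_closure_SL2)
open Cfsg.Agent.Nodes.RGDFoldSL (wS hS coe_wS coe_hS map_hS)


open Matrix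

variable {K : Type*} [Field K]

/-- `diag(c, c⁻¹)` -/
def dg (c : Kˣ) : _root_.Matrix.SpecialLinearGroup (Fin 2) K :=
  ⟨!![(c : K), 0; 0, ((c⁻¹ : Kˣ) : K)], by simp [Matrix.det_fin_two]⟩

theorem coe_dg (c : Kˣ) : ((dg c : _root_.Matrix.SpecialLinearGroup (Fin 2) K) : Matrix (Fin 2) (Fin 2) K) =
    !![(c : K), 0; 0, ((c⁻¹ : Kˣ) : K)] := rfl

theorem exists_root {n : Type*} [Fintype n] [DecidableEq n] [Nonempty n] {p : ℕ} (hp : 0 < p) {ζ : K}
    (hζ : IsPrimitiveRoot ζ p) {g : Matrix n n K} (hg : g ^ p = 1) : ∃ c : K, c ^ p = 1 ∧ (g - c • 1).det = 0 := by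
  let φ : Polynomial K →* K := (Matrix.detMonoidHom (n := n) (R := K)).comp (Polynomial.aeval g).toRingHom.toMonoidHom
  have h1 : φ (Polynomial.X ^ p - 1) = 0 := by
    show ((Polynomial.aeval g) (Polynomial.X ^ p - 1 : Polynomial K)).det = 0
    rw [map_sub, map_pow, Polynomial.aeval_X, map_one, hg, sub_self]
    exact Matrix.det_zero
  rw [Polynomial.X_pow_sub_one_eq_prod hp hζ, map_prod, Finset.prod_eq_zero_iff] at h1
  obtain ⟨c, hc, h2⟩ := h1
  refine ⟨c, (Polynomial.mem_nthRootsFinset hp _).1 hc, ?_⟩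
  have h3 : ((Polynomial.aeval g) (Polynomial.X - Polynomial.C c : Polynomial K)).det = 0 := h2
  rw [map_sub, Polynomial.aeval_X, Polynomial.aeval_C, Algebra.algebraMap_eq_smul_one] at h3
  exact h3

/-- a matrix of determinant one with given first column -/
theorem exists_col {v : Fin 2 → K} (hv : v ≠ 0) :
    ∃ k : _root_.Matrix.SpecialLinearGroup (Fin 2) K, ∀ i, (k : Matrix (Fin 2) (Fin 2) K) i 0 = v i := by
  by_cases h0 : v 0 = 0
  · have h1 : v 1 ≠ 0 := by
      intro h1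
      apply hv
      funext i
      fin_cases i
      · exact h0
      · exact h1
    refine ⟨⟨!![v 0, -(v 1)⁻¹; v 1, 0], by simp [Matrix.det_fin_two, h1]⟩, fun i => ?_⟩
    (revert i; simp only [_root_.Fin.forall_fin_succ, Fin.isValue, _root_.Matrix.of_apply, _root_.Matrix.cons_val', _root_.Matrix.cons_val_zero, _root_.Matrix.cons_val_fin_one, _root_.Matrix.cons_val_succ, _root_.Fin.succ_zero_eq_one, _root_.IsEmpty.forall_iff, _root_.and_self])
  · refine ⟨⟨!![v 0, 0; v 1, (v 0)⁻¹], by simp [Matrix.det_fin_two, h0]⟩, fun i => ?_⟩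
    fin_cases i <;> simp

theorem pow_upper (s : K) (n : ℕ) : (!![(1 : K), s; 0, 1]) ^ n = !![(1 : K), n * s; 0, 1] := by
  induction n with
  | zero =>
    rw [pow_zero]
    ext i j
    (revert i j; simp only [_root_.Fin.forall_fin_succ, _root_.Nat.cast_zero, _root_.MulZeroClass.zero_mul, _root_.Matrix.of_apply, _root_.Matrix.cons_val', _root_.Matrix.cons_val_fin_one, Fin.isValue, _root_.Matrix.cons_val_zero, _root_.Matrix.cons_val_succ, _root_.IsEmpty.forall_iff, _root_.and_true, _root_.Matrix.one_apply_eq, Nat.reduceAdd, _root_.Fin.succ_zero_eq_one, _root_.ne_eq, _root_.zero_ne_one, _root_.not_false_eq_true, _root_.Matrix.one_apply_ne, _root_.and_self, _root_.Fin.succ_ne_zero, _root_.true_and])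
  | succ n ih =>
    rw [pow_succ, ih]
    ext i j
    (revert i j; simp only [Matrix.mul_apply, Fin.sum_univ_two, _root_.Fin.forall_fin_succ, _root_.Matrix.of_apply, _root_.Matrix.cons_val', _root_.Matrix.cons_val_fin_one, Fin.isValue, _root_.Matrix.cons_val_zero, _root_.Matrix.cons_val_one, _root_.Nat.cast_add, _root_.Nat.cast_one, _root_.mul_one, _root_.MulZeroClass.mul_zero, _root_.add_zero, _root_.Matrix.cons_val_succ, _root_.forall_const, _root_.one_mul, _root_.MulZeroClass.zero_mul, _root_.zero_add, _root_.implies_true, _root_.and_true, _root_.true_and]) <;> (repeat' with_reducible apply And.intro)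
    ring

theorem natCast_ne_zero {p : ℕ} (hp : p.Prime) {ζ : K} (hζ : IsPrimitiveRoot ζ p) : (p : K) ≠ 0 := by
  intro h0
  obtain ⟨r, hr⟩ := CharP.exists K
  have h1 : r ∣ p := (CharP.cast_eq_zero_iff K r p).1 h0
  rcases (Nat.dvd_prime hp).1 h1 with rfl | rfl
  · exact absurd rfl (CharP.char_ne_one K 1)
  · have : Fact r.Prime := ⟨hp⟩
    have h2 : (ζ - 1) ^ r = 0 := by
      rw [sub_pow_char, hζ.pow_eq_one, one_pow, sub_self]
    have h3 : ζ = 1 := sub_eq_zero.1 (pow_eq_zero_iff hp.ne_zero |>.1 h2)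
    exact hζ.ne_one hp.one_lt h3

/-- **Elements of odd prime order are diagonalizable.** -/
theorem exists_conj {p : ℕ} (hp : p.Prime) (hp2 : p ≠ 2) {ζ : K} (hζ : IsPrimitiveRoot ζ p)
    {g : _root_.Matrix.SpecialLinearGroup (Fin 2) K} (hg : g ^ p = 1) (hg1 : g ≠ 1) :
    ∃ (k : _root_.Matrix.SpecialLinearGroup (Fin 2) K) (c : Kˣ), c ^ p = 1 ∧ c ≠ 1 ∧ k * g * k⁻¹ = dg c := by
  have hodd : Odd p := hp.odd_of_ne_two hp2
  have hpK := natCast_ne_zero hp hζ
  have hgm : (g : Matrix (Fin 2) (Fin 2) K) ^ p = 1 := by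
    rw [← Matrix.SpecialLinearGroup.coe_pow, hg, Matrix.SpecialLinearGroup.coe_one]
  obtain ⟨c, hc, hdet⟩ := exists_root hp.pos hζ hgm
  have hc0 : c ≠ 0 := by
    rintro rfl
    rw [zero_pow hp.ne_zero] at hc
    exact zero_ne_one hc
  obtain ⟨v, hv, hgv⟩ := Matrix.exists_mulVec_eq_zero_iff.2 hdet
  have hgv' : (g : Matrix (Fin 2) (Fin 2) K) *ᵥ v = c • v := by
    rw [Matrix.sub_mulVec, Matrix.smul_mulVec, Matrix.one_mulVec, sub_eq_zero] at hgv
    exact hgv
  obtain ⟨k, hk⟩ := exists_col hv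
  -- `k⁻¹ g k` is upper triangular
  set m := k⁻¹ * g * k with hm
  have hkm : k * m = g * k := by rw [hm]; group
  have hcol : ∀ i, (k : Matrix (Fin 2) (Fin 2) K) i 0 * (m : Matrix (Fin 2) (Fin 2) K) 0 0 +
      (k : Matrix (Fin 2) (Fin 2) K) i 1 * (m : Matrix (Fin 2) (Fin 2) K) 1 0 = c * v i := by
    intro i
    have h3 := congrFun (congrFun (congrArg (fun z : _root_.Matrix.SpecialLinearGroup (Fin 2) K => (z : Matrix (Fin 2) (Fin 2) K)) hkm)
      i) 0
    simp only [Matrix.SpecialLinearGroup.coe_mul, Matrix.mul_apply, Fin.sum_univ_two] at h3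
    rw [h3, hk 0, hk 1]
    have h4 := congrFun hgv' i
    rw [Matrix.mulVec, dotProduct, Fin.sum_univ_two] at h4
    simpa only [_root_.Fin.isValue, _root_.Pi.smul_apply, _root_.smul_eq_mul] using h4
  have hdk : (k : Matrix (Fin 2) (Fin 2) K) 0 0 * (k : Matrix (Fin 2) (Fin 2) K) 1 1 -
      (k : Matrix (Fin 2) (Fin 2) K) 0 1 * (k : Matrix (Fin 2) (Fin 2) K) 1 0 = 1 := by
    rw [← Matrix.det_fin_two]; exact k.2
  have e0 := hcol 0
  have e1 := hcol 1
  rw [← hk 0] at e0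
  rw [← hk 1] at e1
  set k00 := (k : Matrix (Fin 2) (Fin 2) K) 0 0
  set k01 := (k : Matrix (Fin 2) (Fin 2) K) 0 1
  set k10 := (k : Matrix (Fin 2) (Fin 2) K) 1 0
  set k11 := (k : Matrix (Fin 2) (Fin 2) K) 1 1
  have m10 : (m : Matrix (Fin 2) (Fin 2) K) 1 0 = 0 := by
    linear_combination k00 * e1 - k10 * e0 - (m : Matrix (Fin 2) (Fin 2) K) 1 0 * hdk
  have m00 : (m : Matrix (Fin 2) (Fin 2) K) 0 0 = c := by
    linear_combination k11 * e0 - k01 * e1 - ((m : Matrix (Fin 2) (Fin 2) K) 0 0 - c) * hdk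
  have hdm : (m : Matrix (Fin 2) (Fin 2) K) 0 0 * (m : Matrix (Fin 2) (Fin 2) K) 1 1 -
      (m : Matrix (Fin 2) (Fin 2) K) 0 1 * (m : Matrix (Fin 2) (Fin 2) K) 1 0 = 1 := by
    rw [← Matrix.det_fin_two]; exact m.2
  have m11 : (m : Matrix (Fin 2) (Fin 2) K) 1 1 = c⁻¹ := by
    rw [m10, m00, mul_zero, sub_zero] at hdm
    exact eq_inv_of_mul_eq_one_right hdm
  set s := (m : Matrix (Fin 2) (Fin 2) K) 0 1 with hs
  have hmat : (m : Matrix (Fin 2) (Fin 2) K) = !![c, s; 0, c⁻¹] := by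
    ext i j
    fin_cases i <;> fin_cases j
    · exact m00
    · rfl
    · exact m10
    · exact m11
  have hmp : m ^ p = 1 := by
    have h3 : m = k⁻¹ * g * k⁻¹⁻¹ := by rw [hm, inv_inv]
    rw [h3, conj_pow, hg, mul_one, mul_inv_cancel]
  have hc2 : c ^ 2 = 1 → c = 1 := by
    intro h3
    obtain ⟨j, hj⟩ := hodd
    rw [hj, pow_succ, pow_mul, h3, one_pow, one_mul] at hc
    exact hc
  have hc1 : c ≠ 1 := by
    intro h3
    have h4 : !![(1 : K), s; 0, 1] ^ p = 1 := by
      have h5 := congrArg (fun z : _root_.Matrix.SpecialLinearGroup (Fin 2) K => (z : Matrix (Fin 2) (Fin 2) K)) hmp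
      simp only [Matrix.SpecialLinearGroup.coe_pow, Matrix.SpecialLinearGroup.coe_one, hmat, h3, inv_one] at h5
      exact h5
    rw [pow_upper] at h4
    have h5 := congrFun (congrFun h4 0) 1
    have h6 : (p : K) * s = 0 := by simpa only [_root_.mul_eq_zero, _root_.Fin.isValue, _root_.Matrix.of_apply, _root_.Matrix.cons_val', _root_.Matrix.cons_val_one, _root_.Matrix.cons_val_fin_one, _root_.Matrix.cons_val_zero, _root_.ne_eq, _root_.zero_ne_one, _root_.not_false_eq_true, _root_.Matrix.one_apply_ne] using h5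
    have h7 : s = 0 := (mul_eq_zero.1 h6).resolve_left hpK
    have h8 : m = 1 := by
      apply Subtype.ext
      show (m : Matrix (Fin 2) (Fin 2) K) = 1
      rw [hmat, h7, h3]
      ext i j
      (revert i j; simp only [_root_.Fin.forall_fin_succ, _root_.inv_one, _root_.Matrix.of_apply, _root_.Matrix.cons_val', _root_.Matrix.cons_val_fin_one, Fin.isValue, _root_.Matrix.cons_val_zero, _root_.Matrix.cons_val_succ, _root_.IsEmpty.forall_iff, _root_.and_true, _root_.Matrix.one_apply_eq, Nat.reduceAdd, _root_.Fin.succ_zero_eq_one, _root_.ne_eq, _root_.zero_ne_one, _root_.not_false_eq_true, _root_.Matrix.one_apply_ne, _root_.and_self, _root_.Fin.succ_ne_zero, _root_.true_and])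
    apply hg1
    have h9 : g = k * m * k⁻¹ := by rw [hm]; group
    rw [h9, h8]; group
  have hcc : c⁻¹ - c ≠ 0 := by
    intro h3
    apply hc1
    apply hc2
    rw [sub_eq_zero] at h3
    rw [pow_two]
    nth_rewrite 1 [← h3]
    exact inv_mul_cancel₀ hc0
  set t : K := -s / (c⁻¹ - c) with ht
  refine ⟨up t * k⁻¹, Units.mk0 c hc0, ?_, ?_, ?_⟩
  · apply Units.ext
    rw [Units.val_pow_eq_pow_val, Units.val_mk0, hc, Units.val_one]
  · intro h3
    exact hc1 (by rw [← Units.val_mk0 hc0, h3, Units.val_one])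
  have h3 : up t * k⁻¹ * g * (up t * k⁻¹)⁻¹ = up t * m * (up t)⁻¹ := by rw [hm]; group
  rw [h3, mul_inv_eq_iff_eq_mul]
  clear_value m
  apply Subtype.ext
  have h4 : t * (c⁻¹ - c) = -s := by rw [ht]; exact div_mul_cancel₀ _ hcc
  have h5 : ((up t * m : _root_.Matrix.SpecialLinearGroup (Fin 2) K) : Matrix (Fin 2) (Fin 2) K) =
      !![(1 : K), t; 0, 1] * !![c, s; 0, c⁻¹] := by
    rw [Matrix.SpecialLinearGroup.coe_mul, hmat]; rfl
  have h6 : ((dg (Units.mk0 c hc0) * up t : _root_.Matrix.SpecialLinearGroup (Fin 2) K) : Matrix (Fin 2) (Fin 2) K) =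
      !![c, 0; 0, c⁻¹] * !![1, t; 0, 1] := by
    rw [Matrix.SpecialLinearGroup.coe_mul, coe_dg]; rfl
  refine h5.trans (Eq.trans ?_ h6.symm)
  ext i j
  fin_cases i <;> fin_cases j
  · simp [Matrix.mul_apply, Fin.sum_univ_two]
  · simp only [Matrix.mul_apply, Fin.sum_univ_two]
    simp only [_root_.Fin.zero_eta, _root_.Fin.isValue, _root_.Matrix.of_apply, _root_.Matrix.cons_val', _root_.Matrix.cons_val_zero, _root_.Matrix.cons_val_fin_one, _root_.Fin.mk_one, _root_.Matrix.cons_val_one, _root_.one_mul, _root_.mul_one, _root_.add_zero]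
    linear_combination h4
  · simp [Matrix.mul_apply, Fin.sum_univ_two]
  · simp [Matrix.mul_apply, Fin.sum_univ_two]


theorem dg_eq {K : Type*} [Field K] (c : Kˣ) : dg c = hS (c : K) := by
  apply Subtype.ext
  rw [coe_hS c.ne_zero, ← Units.val_inv_eq_inv_val]
  rfl

/-- an element of order `(Q² - 1)_p` -/
theorem exists_elt {p : ℕ} [hp : Fact p.Prime] (hp2 : p ≠ 2) {k : Type*} [Field k] [Fintype k]
    (h : p ∣ Fintype.card k ^ 2 - 1) : ∃ M : _root_.Matrix.SpecialLinearGroup (Fin 2) k,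
      orderOf M = p ^ (Fintype.card k ^ 2 - 1).factorization p := by
  classical
  set Q := Fintype.card k with hQ
  have hQ1 : 1 < Q := Fintype.one_lt_card
  have hfac : Q ^ 2 - 1 = (Q - 1) * (Q + 1) := by
    have := Nat.sq_sub_sq Q 1
    rw [one_pow] at this
    rw [this, mul_comm]
  -- an element whose order `n` has the same `p`-part
  have key : ∀ (g : _root_.Matrix.SpecialLinearGroup (Fin 2) k) (n : ℕ), orderOf g = n → n ≠ 0 →
      (Q ^ 2 - 1).factorization p = n.factorization p →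
      ∃ M : _root_.Matrix.SpecialLinearGroup (Fin 2) k, orderOf M = p ^ (Q ^ 2 - 1).factorization p := by
    intro g n hg hn hf
    refine ⟨g ^ (n / p ^ n.factorization p), ?_⟩
    have h1 : n / p ^ n.factorization p ∣ n := Nat.div_dvd_of_dvd (Nat.ordProj_dvd _ _)
    have h3 : n / p ^ n.factorization p ≠ 0 := (Nat.ordCompl_pos p hn).ne'
    rw [orderOf_pow_of_dvd h3 (by rw [hg]; exact h1), hg, hf]
    exact Nat.div_div_self (Nat.ordProj_dvd _ _) hn
  have hfm : (Q ^ 2 - 1).factorization p = (Q - 1).factorization p + (Q + 1).factorization p := by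
    rw [hfac, Nat.factorization_mul (by omega) (by omega)]
    rfl
  rw [hfac] at h
  rcases (Nat.Prime.dvd_mul hp.out).1 h with h1 | h1
  · -- split
    have h2 : ¬ p ∣ Q + 1 := by
      intro h2
      have h3 : p ∣ 2 := by
        have h4 := (Nat.dvd_sub h2 h1)
        have h5 : Q + 1 - (Q - 1) = 2 := by omega
        rwa [h5] at h4
      exact hp2 ((Nat.prime_dvd_prime_iff_eq hp.out Nat.prime_two).1 h3)
    obtain ⟨u, hu⟩ := IsCyclic.exists_generator (α := kˣ)
    have ho : orderOf u = Q - 1 := by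
      rw [orderOf_eq_card_of_forall_mem_zpowers hu, Nat.card_units, Nat.card_eq_fintype_card]
    have hinj : orderOf (dg u) = orderOf u := by
      have hpow : ∀ n : ℕ, (dg u) ^ n = dg (u ^ n) := by
        intro n
        apply Subtype.ext
        rw [Matrix.SpecialLinearGroup.coe_pow, coe_dg, coe_dg]
        induction n with
        | zero =>
          rw [pow_zero, pow_zero]
          ext i j
          (revert i j; simp only [_root_.Fin.forall_fin_succ, _root_.Units.val_one, _root_.inv_one, _root_.Matrix.of_apply, _root_.Matrix.cons_val', _root_.Matrix.cons_val_fin_one, Fin.isValue, _root_.Matrix.cons_val_zero, _root_.Matrix.cons_val_succ, _root_.IsEmpty.forall_iff, _root_.and_true, _root_.Matrix.one_apply_eq, Nat.reduceAdd, _root_.Fin.succ_zero_eq_one, _root_.ne_eq, _root_.zero_ne_one, _root_.not_false_eq_true, _root_.Matrix.one_apply_ne, _root_.and_self, _root_.Fin.succ_ne_zero, _root_.true_and])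
        | succ n ih =>
          rw [pow_succ, ih]
          ext i j
          (revert i j; simp only [Matrix.mul_apply, Fin.sum_univ_two, pow_succ, mul_comm, _root_.Fin.forall_fin_succ, _root_.Units.val_pow_eq_pow_val, _root_.Units.val_inv_eq_inv_val, _root_.Matrix.of_apply, _root_.Matrix.cons_val', _root_.Matrix.cons_val_fin_one, Fin.isValue, _root_.Matrix.cons_val_zero, _root_.Matrix.cons_val_one, _root_.Units.val_mul, _root_.mul_inv_rev, _root_.MulZeroClass.zero_mul, _root_.add_zero, _root_.Matrix.cons_val_succ, _root_.zero_add, _root_.forall_const, _root_.MulZeroClass.mul_zero, _root_.and_self, _root_.implies_true])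
      have hiff : ∀ n : ℕ, (dg u) ^ n = 1 ↔ u ^ n = 1 := by
        intro n
        rw [hpow]
        constructor
        · intro h3
          have h4 := congrFun (congrFun (congrArg Subtype.val h3) 0) 0
          apply Units.ext
          simpa only [dg, _root_.Units.val_pow_eq_pow_val, _root_.Units.val_one, _root_.Units.val_inv_eq_inv_val, _root_.Fin.isValue, _root_.Matrix.of_apply, _root_.Matrix.cons_val', _root_.Matrix.cons_val_zero, _root_.Matrix.cons_val_fin_one, _root_.Matrix.SpecialLinearGroup.coe_one, _root_.Matrix.one_apply_eq] using h4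
        · intro h3
          rw [h3]
          apply Subtype.ext
          ext i j
          (revert i j; simp only [dg, _root_.Fin.forall_fin_succ, _root_.Units.val_one, _root_.inv_one, _root_.Matrix.of_apply, _root_.Matrix.cons_val', _root_.Matrix.cons_val_fin_one, _root_.Matrix.SpecialLinearGroup.coe_one, Fin.isValue, _root_.Matrix.cons_val_zero, _root_.Matrix.cons_val_succ, _root_.IsEmpty.forall_iff, _root_.and_true, _root_.Matrix.one_apply_eq, Nat.reduceAdd, _root_.Fin.succ_zero_eq_one, _root_.ne_eq, _root_.zero_ne_one, _root_.not_false_eq_true, _root_.Matrix.one_apply_ne, _root_.and_self, _root_.Fin.succ_ne_zero, _root_.true_and])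
      apply Nat.dvd_antisymm
      · exact orderOf_dvd_of_pow_eq_one ((hiff _).2 (pow_orderOf_eq_one u))
      · exact orderOf_dvd_of_pow_eq_one ((hiff _).1 (pow_orderOf_eq_one (dg u)))
    refine key (dg u) (Q - 1) (hinj.trans ho) (by omega) ?_
    rw [hfm, Nat.factorization_eq_zero_of_not_dvd h2, add_zero]
  · -- nonsplit
    have h2 : ¬ p ∣ Q - 1 := by
      intro h2
      have h3 : p ∣ 2 := by
        have h4 := (Nat.dvd_sub h1 h2)
        have h5 : Q + 1 - (Q - 1) = 2 := by omega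
        rwa [h5] at h4
      exact hp2 ((Nat.prime_dvd_prime_iff_eq hp.out Nat.prime_two).1 h3)
    obtain ⟨a, _, _, ha, _⟩ := Cfsg.Agent.ClassicalGeometry.NonsplitTorus.exists_torus (F := k)
    refine key a (Q + 1) ha (by omega) ?_
    rw [hfm, Nat.factorization_eq_zero_of_not_dvd h2, zero_add]

end Cfsg.Agent.H754.PQ.SLTwo
end

-- part: H754/PQ/Bound
section
/-!
# S4981: a bound for multiplicities invariant under a power map (helper754)

`exists_e` : a power map of order `q` on the `p`-th roots of unity preserving the multiplicities modulo `p` (from the proof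
of `Cfsg.Agent.H55.PQ.cnt_dvd`); `bound` : `2 q N ≤ |R|`.
-/

set_option autoImplicit false

namespace Cfsg.Agent.H754.PQ

universe w

theorem exists_e {p q : ℕ} [hp : Fact p.Prime] (hq : q.Prime) {K : Type w} [Field K] [DecidableEq K] {R : Multiset K}
    (hR : ∀ μ ∈ R, μ ^ p = 1) {c : ℕ} (hc0 : ¬ p ∣ c) (hqc : q ∣ orderOf (c : ZMod p))
    (hm : ∀ μ : K, (p : ℤ) ∣ (R.count μ : ℤ) - ((R.map (· ^ c)).count μ : ℤ)) :
    ∃ e : ℕ, (∀ μ : K, μ ^ p = 1 → μ ^ e ^ q = μ) ∧ (∀ μ : K, μ ^ p = 1 → μ ≠ 1 → μ ^ e ≠ μ) ∧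
      (∀ μ : K, μ ^ p = 1 → μ ≠ 1 → μ ^ e ≠ 1) ∧
      ∀ μ : K, μ ^ p = 1 → (p : ℤ) ∣ (R.count (μ ^ e) : ℤ) - (R.count μ : ℤ) := by
  classical
  have hcop : Nat.Coprime c p := (Nat.coprime_comm.1 ((Nat.Prime.coprime_iff_not_dvd hp.out).2 hc0))
  -- the `c`-th power is injective on the `p`-th roots of unity
  have hinj : ∀ x y : K, x ^ p = 1 → y ^ p = 1 → x ^ c = y ^ c → x = y := by
    intro x y hx hy hxy
    have hy0 : y ≠ 0 := by
      rintro rfl
      rw [zero_pow hp.out.ne_zero] at hy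
      exact zero_ne_one hy
    have h1 : (x / y) ^ c = 1 := by rw [div_pow, hxy, div_self (pow_ne_zero _ hy0)]
    have h2 : (x / y) ^ p = 1 := by rw [div_pow, hx, hy, div_one]
    have h3 : orderOf (x / y) ∣ 1 := by
      rw [← hcop]
      exact Nat.dvd_gcd (orderOf_dvd_of_pow_eq_one h1) (orderOf_dvd_of_pow_eq_one h2)
    have h4 : x / y = 1 := orderOf_eq_one_iff.1 (Nat.dvd_one.1 h3)
    rw [div_eq_one_iff_eq hy0] at h4
    exact h4
  have hcount : ∀ μ : K, μ ^ p = 1 → (R.map (· ^ c)).count (μ ^ c) = R.count μ := by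
    intro μ hμ
    rw [Multiset.count_map, Multiset.count_eq_card_filter_eq]
    congr 1
    refine Multiset.filter_congr fun x hx => ?_
    constructor
    · intro h
      exact hinj _ _ hμ (hR x hx) h
    · intro h
      rw [h]
  have hstep : ∀ μ : K, μ ^ p = 1 → (p : ℤ) ∣ (R.count (μ ^ c) : ℤ) - (R.count μ : ℤ) := by
    intro μ hμ
    have h1 := hm (μ ^ c)
    rwa [hcount μ hμ] at h1
  have hpow : ∀ (n : ℕ) (μ : K), μ ^ p = 1 → (p : ℤ) ∣ (R.count (μ ^ c ^ n) : ℤ) - (R.count μ : ℤ) := by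
    intro n
    induction n with
    | zero =>
      intro μ _
      rw [pow_zero, pow_one, sub_self]
      exact dvd_zero _
    | succ n ih =>
      intro μ hμ
      have h1 := ih μ hμ
      have h2 := hstep (μ ^ c ^ n) (by rw [← pow_mul, mul_comm, pow_mul, hμ, one_pow])
      rw [← pow_mul, ← pow_succ] at h2
      have h3 := dvd_add h2 h1
      rwa [sub_add_sub_cancel] at h3
  set d := orderOf (c : ZMod p) with hd
  have hc0' : (c : ZMod p) ≠ 0 := by
    rw [Ne, ZMod.natCast_eq_zero_iff]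
    exact hc0
  have hd0 : 0 < d := by
    rw [hd, orderOf_pos_iff]
    exact isOfFinOrder_iff_pow_eq_one.2 ⟨p - 1, Nat.sub_pos_of_lt hp.out.one_lt, ZMod.pow_card_sub_one_eq_one hc0'⟩
  set e := c ^ (d / q) with he
  -- `e ^ q = 1` modulo `p`
  have heq : ∀ μ : K, μ ^ p = 1 → μ ^ e ^ q = μ := by
    intro μ hμ
    have h1 : e ^ q = c ^ d := by rw [he, ← pow_mul, Nat.div_mul_cancel hqc]
    have h2 : c ^ d ≡ 1 [MOD p] := by
      rw [← ZMod.natCast_eq_natCast_iff, Nat.cast_pow, hd, pow_orderOf_eq_one, Nat.cast_one]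
    have h3 : c ^ d ≡ 1 [MOD orderOf μ] := h2.of_dvd (orderOf_dvd_of_pow_eq_one hμ)
    rw [h1]
    have h4 := (pow_eq_pow_iff_modEq (x := Units.mk0 μ (by
      rintro rfl
      rw [zero_pow hp.out.ne_zero] at hμ
      exact zero_ne_one hμ)) (n := c ^ d) (m := 1)).2 (by
        rw [← orderOf_units, Units.val_mk0]
        exact h3)
    have h5 := congrArg Units.val h4
    simpa using h5
  have hne : ∀ μ : K, μ ^ p = 1 → μ ≠ 1 → μ ^ e ≠ μ := by
    intro μ hμ hμ1 h
    have hμ0 : μ ≠ 0 := by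
      rintro rfl
      rw [zero_pow hp.out.ne_zero] at hμ
      exact zero_ne_one hμ
    have ho : orderOf (Units.mk0 μ hμ0) = p := by
      apply orderOf_eq_prime
      · apply Units.ext
        rw [Units.val_pow_eq_pow_val, Units.val_mk0, hμ, Units.val_one]
      · intro h1
        exact hμ1 (by simpa using congrArg Units.val h1)
    have h1 : (Units.mk0 μ hμ0) ^ e = (Units.mk0 μ hμ0) ^ 1 := by
      apply Units.ext
      rw [Units.val_pow_eq_pow_val, Units.val_mk0, h, pow_one, Units.val_mk0]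
    rw [pow_eq_pow_iff_modEq, ho, ← ZMod.natCast_eq_natCast_iff, he, Nat.cast_pow, Nat.cast_one] at h1
    have h2 : d ∣ d / q := orderOf_dvd_of_pow_eq_one h1
    have h3 : d / q < d := Nat.div_lt_self hd0 hq.one_lt
    have h4 : 0 < d / q := Nat.div_pos (Nat.le_of_dvd hd0 hqc) hq.pos
    exact absurd (Nat.le_of_dvd h4 h2) (not_le.2 h3)
  have hone : ∀ μ : K, μ ^ p = 1 → μ ≠ 1 → μ ^ e ≠ 1 := by
    intro μ hμ hμ1 h
    have h1 := heq μ hμ
    have h2 : e ^ q = e * e ^ (q - 1) := by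
      rw [← pow_succ', Nat.sub_add_cancel hq.one_le]
    rw [h2, pow_mul, h, one_pow] at h1
    exact hμ1 h1.symm
  exact ⟨e, heq, hne, hone, fun μ hμ => hpow (d / q) μ hμ⟩

/-- **the bound** -/
theorem bound {p q : ℕ} [hp : Fact p.Prime] (hp2 : p ≠ 2) (hq : q.Prime) (hq2 : q ≠ 2) {K : Type w} [Field K]
    [DecidableEq K] {R : Multiset K} (hR : ∀ μ ∈ R, μ ^ p = 1) {c : ℕ} (hc0 : ¬ p ∣ c) (hqc : q ∣ orderOf (c : ZMod p))
    (hm : ∀ μ : K, (p : ℤ) ∣ (R.count μ : ℤ) - ((R.map (· ^ c)).count μ : ℤ))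
    (hsym : ∀ μ : K, R.count μ⁻¹ = R.count μ) {ν : K} (hν : ν ≠ 1) (h0 : R.count ν ≠ 0) (hlt : R.count ν < p) :
    2 * q * R.count ν ≤ Multiset.card R := by
  classical
  obtain ⟨e, heq, hne, hone, hpe⟩ := exists_e hq hR hc0 hqc hm
  set N := R.count ν with hN
  set s := R.toFinset.filter (fun μ => μ ≠ 1 ∧ (p : ℤ) ∣ (R.count μ : ℤ) - (N : ℤ)) with hs
  have hcnt : ∀ μ : K, (p : ℤ) ∣ (R.count μ : ℤ) - (N : ℤ) → N ≤ R.count μ := by
    intro μ h
    by_contra hlt'
    rw [not_le] at hlt'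
    have h1 : (p : ℤ) ∣ (N : ℤ) - (R.count μ : ℤ) := by
      rw [← neg_sub]
      exact (dvd_neg).2 h
    have h2 : ((N : ℤ) - (R.count μ : ℤ)) = ((N - R.count μ : ℕ) : ℤ) := by
      rw [Nat.cast_sub hlt'.le]
    rw [h2] at h1
    have h3 : p ∣ N - R.count μ := by exact_mod_cast h1
    have h4 := Nat.le_of_dvd (Nat.sub_pos_of_lt hlt') h3
    omega
  have hmem : ∀ μ : K, μ ∈ s ↔ μ ≠ 1 ∧ (p : ℤ) ∣ (R.count μ : ℤ) - (N : ℤ) := by
    intro μ
    rw [hs, Finset.mem_filter, Multiset.mem_toFinset]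
    constructor
    · exact fun h => h.2
    · intro h
      refine ⟨?_, h⟩
      have h1 := hcnt μ h.2
      exact Multiset.count_pos.1 (lt_of_lt_of_le (Nat.pos_of_ne_zero h0) h1)
  have hsR : ∀ μ ∈ s, μ ^ p = 1 := by
    intro μ hμ
    rw [hs, Finset.mem_filter, Multiset.mem_toFinset] at hμ
    exact hR μ hμ.1
  have hit : ∀ (n : ℕ) (μ : K), (fun x : K => x ^ e)^[n] μ = μ ^ e ^ n := by
    intro n
    induction n with
    | zero => intro μ; simp
    | succ n ih =>
      intro μ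
      rw [Function.iterate_succ_apply', ih, ← pow_mul, ← pow_succ]
  have h1 : q ∣ s.card := by
    refine Cfsg.Agent.H55.PQ.dvd_card_of_stable hq s (fun x => x ^ e) ?_ ?_ ?_
    · intro μ hμ
      have h2 := hsR μ hμ
      rw [hmem] at hμ ⊢
      refine ⟨hone μ h2 hμ.1, ?_⟩
      have h3 := dvd_add (hpe μ h2) hμ.2
      rwa [sub_add_sub_cancel] at h3
    · intro μ hμ
      rw [hit]
      exact heq μ (hsR μ hμ)
    · intro μ hμ
      exact hne μ (hsR μ hμ) ((hmem μ).1 hμ).1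
  have h2 : 2 ∣ s.card := by
    refine Cfsg.Agent.H55.PQ.dvd_card_of_stable Nat.prime_two s (fun x => x⁻¹) ?_ ?_ ?_
    · intro μ hμ
      rw [hmem] at hμ ⊢
      refine ⟨fun h => hμ.1 (inv_eq_one.1 h), ?_⟩
      rw [hsym]
      exact hμ.2
    · intro μ _
      show (μ⁻¹)⁻¹ = μ
      exact inv_inv μ
    · intro μ hμ h
      have h3 := hsR μ hμ
      have h4 : μ ^ 2 = 1 := by
        have h5 : μ ≠ 0 := by
          rintro rfl
          rw [zero_pow hp.out.ne_zero] at h3
          exact zero_ne_one h3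
        have h6 : μ⁻¹ = μ := h
        rw [pow_two]
        nth_rewrite 1 [← h6]
        exact inv_mul_cancel₀ h5
      have h5 : μ ^ Nat.gcd 2 p = 1 := pow_gcd_eq_one.2 ⟨h4, h3⟩
      rw [(Nat.coprime_primes Nat.prime_two hp.out).2 hp2.symm, pow_one] at h5
      exact ((hmem μ).1 hμ).1 h5
  have h3 : 2 * q ∣ s.card := (Nat.Coprime.mul_dvd_of_dvd_of_dvd ((Nat.coprime_primes Nat.prime_two hq).2 hq2.symm) h2 h1)
  have h4 : ν ∈ s := by
    rw [hmem]
    exact ⟨hν, by rw [sub_self]; exact dvd_zero _⟩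
  have h5 : 2 * q ≤ s.card := Nat.le_of_dvd (Finset.card_pos.2 ⟨ν, h4⟩) h3
  calc 2 * q * N ≤ s.card * N := Nat.mul_le_mul_right N h5
    _ = ∑ _μ ∈ s, N := by rw [Finset.sum_const, smul_eq_mul]
    _ ≤ ∑ μ ∈ s, R.count μ := Finset.sum_le_sum fun μ hμ => hcnt μ ((hmem μ).1 hμ).2
    _ ≤ ∑ μ ∈ R.toFinset, R.count μ := Finset.sum_le_sum_of_subset (Finset.filter_subset _ _)
    _ = Multiset.card R := Multiset.toFinset_sum_count_eq R

end Cfsg.Agent.H754.PQ
end

-- part: H754/PQ/Two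
section
/-!
# S4981: the exceptional groups, `p ∣ Q² - 1` (helper754)

* `exc_data` : the multiplicities for an element `x` of order `(Q² - 1)_p` of a subgroup `G` of a Chevalley group;
* `psi` : the eigenvalues of the elements of a root `SL₂`;
* `two_long` : a long root `SL₂(Q)`: contradiction.
-/

set_option autoImplicit false

open Polynomial Cfsg Subgroup

open scoped MatrixGroups

namespace Cfsg.Agent.H754.PQ

open Cfsg.Lie Cfsg.Agent.ChevalleyStructure Cfsg.Agent.ChevalleyStructure.Elts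
open Cfsg.Agent.H54.PQ Cfsg.Agent.H967.CopMat
open Cfsg.Agent.Nodes.RGDFoldSL (wS hS coe_wS coe_hS map_hS psi psi_up psi_lo psi_hS psi_wS psi_mem map_up map_lo)
open Cfsg.Agent.ChevalleyStructure.SL2Hom (up lo mem_closure_SL2)

universe u v w

/-! ### arithmetic -/

theorem le_fac {p Q j N : ℕ} [hp : Fact p.Prime] (hp2 : p ≠ 2) (hQ : 1 < Q) (hpQ : p ∣ Q ^ 2 - 1) (hN : ¬ p ∣ N)
    (hN0 : N ≠ 0) (h : p ^ j ∣ Q ^ N - 1) : j ≤ (Q ^ 2 - 1).factorization p := by
  have hQ2 : 1 < Q ^ 2 := Nat.one_lt_pow (by norm_num) hQ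
  have h1 : p ^ j ∣ (Q ^ 2) ^ N - 1 := by
    refine h.trans ?_
    rw [← pow_mul, mul_comm 2 N, pow_mul]
    have := Nat.sub_dvd_pow_sub_pow (Q ^ N) 1 2
    rwa [one_pow] at this
  have hpnQ : ¬ p ∣ Q ^ 2 := by
    intro h2
    have h3 := Nat.dvd_sub h2 hpQ
    rw [Nat.sub_sub_self hQ2.le] at h3
    exact hp.out.one_lt.ne' (Nat.dvd_one.1 h3)
  have h2 := padicValNat.pow_sub_pow (hp.out.odd_of_ne_two hp2) hQ2 hpQ hpnQ hN0
  rw [one_pow, padicValNat.eq_zero_of_not_dvd hN, add_zero] at h2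
  rw [Nat.factorization_def _ hp.out, ← h2]
  have h3 : (Q ^ 2) ^ N - 1 ≠ 0 := by
    have := Nat.one_lt_pow hN0 hQ2
    omega
  exact (padicValNat_dvd_iff_le h3).1 h1

/-! ### the data for an element of maximal order -/

theorem exc_data {p q : ℕ} [hp : Fact p.Prime] [hq : Fact q.Prime] {S : Type u} [Group S] [Finite S] {D : ChevalleyDatum}
    (hD : InList D) {F : Type v} [Field F] [Finite F] {Ψ : (F ≃+* F) →* MulAut S} {A Φ : Subgroup (MulAut S)}
    {φ : F ≃+* F} (hpF : (p : F) ≠ 0) (hF : FSit p q Ψ A Φ φ) (hinv : InvHyp p A Φ) {G : Subgroup (GL D.Idx F)}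
    (hle : G ≤ D.group F) (hG : Stab G) (π : ↥G →* S) (hπ : Function.Surjective π)
    (hker : ∀ z ∈ π.ker, z ∈ center ↥G) (hkp : ¬ p ∣ Nat.card π.ker)
    (hΨ : ∀ (σ : F ≃+* F) (g : ↥G), π (fieldAut hG σ g) = Ψ σ (π g)) (hp7 : 7 < p) {Q e : ℕ} (hQ1 : 1 < Q)
    (hQ : Nat.card F = Q ^ e) (he : ¬ p ∣ e) (hpQ : p ∣ Q ^ 2 - 1) {x : ↥G}
    (hx : orderOf x = p ^ (Q ^ 2 - 1).factorization p) :
    ∃ (K : Type v) (_ : Field K) (_ : Fintype K) (_ : DecidableEq K) (_ : Algebra F K) (k : ℕ),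
      (∃ ζ : K, IsPrimitiveRoot ζ p) ∧
      (x ^ k) ^ p = 1 ∧ x ^ k ≠ 1 ∧
      (∀ g : ↥G, (((g : GL D.Idx F) : Matrix D.Idx D.Idx F).charpoly.map (algebraMap F K)).Splits) ∧
      ∃ j : ℕ, ¬ q ∣ j ∧ ∀ μ : K, (p : ℤ) ∣ ((rts G.subtype K (x ^ k)).count μ : ℤ) -
        (((rts G.subtype K (x ^ k)).map (· ^ Nat.card (Fx φ) ^ j)).count μ : ℤ) := by
  classical
  have hp2 : p ≠ 2 := by omega
  have hQ21 : 1 < Q ^ 2 := Nat.one_lt_pow (by norm_num) hQ1
  have hfac : 1 ≤ (Q ^ 2 - 1).factorization p := by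
    have h1 : p ^ 1 ∣ Q ^ 2 - 1 := by rwa [pow_one]
    exact (Nat.Prime.pow_dvd_iff_le_factorization hp.out (by omega)).1 h1
  have := Fintype.ofFinite ↥G
  obtain ⟨K, _, _, _, hs, hK⟩ := exists_big_field hp.out hpF (∏ g : ↥G, ((g : GL D.Idx F) : Matrix D.Idx D.Idx F).charpoly)
    (Finset.prod_ne_zero_iff.2 fun g _ => (Matrix.charpoly_monic _).ne_zero)
  have hsp : ∀ g : ↥G, (((g : GL D.Idx F) : Matrix D.Idx D.Idx F).charpoly.map (algebraMap F K)).Splits := by
    intro g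
    rw [Polynomial.map_prod] at hs
    refine hs.of_dvd ?_ (Finset.dvd_prod_of_mem _ (Finset.mem_univ g))
    exact Finset.prod_ne_zero_iff.2 fun g _ => ((Matrix.charpoly_monic _).map _).ne_zero
  obtain ⟨T, _, hT⟩ := Cfsg.Agent.H660.PQ.exists_torus_sylow hD K hp7 hK
  have hstab : Stab (D.group K) := by
    intro σ g hg
    have h1 : (D.group K).map (Matrix.GeneralLinearGroup.map (σ : K →+* K)) ≤ D.group K := by
      unfold ChevalleyDatum.group
      rw [MonoidHom.map_closure]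
      refine Subgroup.closure_mono ?_
      rintro _ ⟨g, ⟨r, t, h⟩, rfl⟩
      refine ⟨r, σ t, ?_⟩
      show (g : Matrix D.Idx D.Idx K).map (σ : K →+* K) = _
      rw [h]
      exact Cfsg.Agent.ChevStructure.FieldMap.xMat_map D (σ : K →+* K) r t
    exact h1 ⟨g, hg, rfl⟩
  have hmap : ∀ g ∈ G, Matrix.GeneralLinearGroup.map (algebraMap F K) g ∈ D.group K := by
    intro g hg
    have h1 : (D.group F).map (Matrix.GeneralLinearGroup.map (algebraMap F K)) ≤ D.group K := by
      unfold ChevalleyDatum.group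
      rw [MonoidHom.map_closure]
      refine Subgroup.closure_mono ?_
      rintro _ ⟨g, ⟨r, t, h⟩, rfl⟩
      refine ⟨r, algebraMap F K t, ?_⟩
      show (g : Matrix D.Idx D.Idx F).map (algebraMap F K) = _
      rw [h]
      exact Cfsg.Agent.ChevStructure.FieldMap.xMat_map D (algebraMap F K) r t
    exact h1 ⟨g, hle hg, rfl⟩
  have hpG : p ∣ Nat.card ↥G := by
    refine dvd_trans ?_ (_root_.orderOf_dvd_natCard x)
    rw [hx]
    exact dvd_pow_self p (by omega)
  obtain ⟨k, b, hb1, hk, hkk, hkx, ⟨y, hy⟩, hmax⟩ := exists_k p ↥G hpG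
  -- the maximal order
  have hb : (Q ^ 2 - 1).factorization p = b := by
    refine le_antisymm (hmax x _ hx) ?_
    obtain ⟨m, hm, hym⟩ := expo hstab T hT (x := (y : GL D.Idx F)) (hmap _ y.2)
      ⟨b, by
        have h1 : y ^ p ^ b = 1 := by rw [← hy, pow_orderOf_eq_one]
        exact congrArg Subtype.val h1⟩
    have hm0 : m ≠ 0 := by rintro rfl; exact hm (dvd_zero p)
    have he0 : e ≠ 0 := by rintro rfl; exact he (dvd_zero p)
    have h2 : y ^ (Nat.card F ^ m - 1) = 1 := Subtype.ext hym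
    have h3 : p ^ b ∣ Q ^ (e * m) - 1 := by
      rw [← hy, pow_mul, ← hQ]
      exact orderOf_dvd_of_pow_eq_one h2
    refine le_fac hp2 hQ1 hpQ (fun h4 => ?_) (Nat.mul_ne_zero he0 hm0) h3
    rcases (Nat.Prime.dvd_mul hp.out).1 h4 with h5 | h5
    · exact he h5
    · exact hm h5
  have hkk' : ∀ z ∈ π.ker, z ^ k = 1 := by
    intro z hz
    refine hkk z fun h => hkp (h.trans ?_)
    have h1 := _root_.orderOf_dvd_natCard (⟨z, hz⟩ : π.ker)
    rwa [Subgroup.orderOf_mk] at h1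
  obtain ⟨j, hj, hm⟩ := row_mult hp2 hpF hF hinv hG π hπ hker hkp hΨ (K := K) (fun g hg => hsp ⟨g, hg⟩) hstab hmap hT hk
    hkk' (x := x) ⟨b, by rw [← hb, ← hx, pow_orderOf_eq_one]⟩
  refine ⟨K, inferInstance, inferInstance, inferInstance, inferInstance, k, ?_, hk x, hkx x (hx.trans (by rw [hb])), hsp,
    j, hj, hm⟩
  · obtain ⟨u, hu⟩ := IsCyclic.exists_ofOrder_eq_natCard (α := Kˣ)
    rw [Nat.card_units, Nat.card_eq_fintype_card] at hu
    obtain ⟨c, hc⟩ := hK
    have hc0 : c ≠ 0 := by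
      rintro rfl
      have h1 : 1 < Fintype.card K := Fintype.one_lt_card
      omega
    refine ⟨((u ^ c : Kˣ) : K), ?_⟩
    have h1 : orderOf (u ^ c) = p := by
      rw [orderOf_pow_of_dvd hc0 (by rw [hu, hc]; exact dvd_mul_left _ _), hu, hc]
      exact Nat.mul_div_cancel _ (Nat.pos_of_ne_zero hc0)
    have h2 : IsPrimitiveRoot (u ^ c) p := by
      rw [← h1]
      exact IsPrimitiveRoot.orderOf _
    exact IsPrimitiveRoot.coe_units_iff.2 h2


/-! ### homomorphisms from `SL₂` with given weights -/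

/-- the elements of order `p` are conjugate over `K` to diagonal matrices with entries `c ^ E i` -/
def HasWt (p : ℕ) {k₀ : Type w} [Field k₀] {F : Type v} [Field F] {ι : Type} [Fintype ι] [DecidableEq ι]
    (κ : Matrix.SpecialLinearGroup (Fin 2) k₀ →* GL ι F) (E : ι → ℤ) : Prop :=
  ∀ (K : Type v) [Field K] [Finite K] [Algebra F K] (ζ : K), IsPrimitiveRoot ζ p →
    ∀ N : Matrix.SpecialLinearGroup (Fin 2) k₀, N ^ p = 1 → N ≠ 1 → ∃ (c : K) (g : GL ι K), c ^ p = 1 ∧ c ≠ 1 ∧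
      ((g * Matrix.GeneralLinearGroup.map (algebraMap F K) (κ N) * g⁻¹ : GL ι K) : Matrix ι ι K) =
        Matrix.diagonal (fun i => c ^ E i)

theorem exists_prim {p : ℕ} (hp : p.Prime) {F : Type v} [Field F] [Finite F] (hpF : (p : F) ≠ 0) :
    ∃ (K : Type v) (_ : Field K) (_ : Fintype K) (_ : Algebra F K) (ζ : K), IsPrimitiveRoot ζ p := by
  obtain ⟨K, _, _, _, _, hK⟩ := exists_big_field hp hpF (X : F[X]) X_ne_zero
  refine ⟨K, inferInstance, inferInstance, inferInstance, ?_⟩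
  obtain ⟨u, hu⟩ := IsCyclic.exists_ofOrder_eq_natCard (α := Kˣ)
  rw [Nat.card_units, Nat.card_eq_fintype_card] at hu
  obtain ⟨c, hc⟩ := hK
  have hc0 : c ≠ 0 := by
    rintro rfl
    have h1 : 1 < Fintype.card K := Fintype.one_lt_card
    omega
  refine ⟨((u ^ c : Kˣ) : K), ?_⟩
  have h1 : orderOf (u ^ c) = p := by
    rw [orderOf_pow_of_dvd hc0 (by rw [hu, hc]; exact dvd_mul_left _ _), hu, hc]
    exact Nat.mul_div_cancel _ (Nat.pos_of_ne_zero hc0)
  have h2 : IsPrimitiveRoot (u ^ c) p := by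
    rw [← h1]
    exact IsPrimitiveRoot.orderOf _
  exact IsPrimitiveRoot.coe_units_iff.2 h2

theorem prim_of_pow {p : ℕ} (hp : p.Prime) {K : Type*} [Field K] {c : K} (h : c ^ p = 1) (h1 : c ≠ 1) :
    IsPrimitiveRoot c p := by
  have := Fact.mk hp
  rw [← orderOf_eq_prime h h1]
  exact IsPrimitiveRoot.orderOf c

/-- the order is preserved -/
theorem orderOf_kappa {p : ℕ} [hp : Fact p.Prime] {k₀ : Type w} [Field k₀] [Finite k₀] {F : Type v} [Field F]
    [Finite F] (hpF : (p : F) ≠ 0) {ι : Type} [Fintype ι] [DecidableEq ι]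
    {κ : Matrix.SpecialLinearGroup (Fin 2) k₀ →* GL ι F} {E : ι → ℤ} (hκ : HasWt p κ E) (hE : ∃ i, ¬ (p : ℤ) ∣ E i)
    {M : Matrix.SpecialLinearGroup (Fin 2) k₀} {v : ℕ} (hv : 1 ≤ v) (hM : orderOf M = p ^ v) :
    orderOf (κ M) = p ^ v := by
  obtain ⟨K, _, _, _, ζ, hζ⟩ := exists_prim hp.out hpF
  have h1 : (κ M) ^ p ^ ((v - 1) + 1) = 1 := by
    rw [Nat.sub_add_cancel hv, ← map_pow, ← hM, pow_orderOf_eq_one, map_one]
  have h2 : ¬ (κ M) ^ p ^ (v - 1) = 1 := by
    intro h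
    set N := M ^ p ^ (v - 1) with hN
    have hN1 : N ≠ 1 := by
      intro h3
      have h4 : p ^ v ∣ p ^ (v - 1) := by
        rw [← hM]
        exact orderOf_dvd_of_pow_eq_one h3
      have h5 := (Nat.pow_dvd_pow_iff_le_right hp.out.one_lt).1 h4
      omega
    have hNp : N ^ p = 1 := by
      rw [hN, ← pow_mul, ← pow_succ, Nat.sub_add_cancel hv, ← hM, pow_orderOf_eq_one]
    obtain ⟨c, g, hc, hc1, hg⟩ := hκ K ζ hζ N hNp hN1
    have h3 : κ N = 1 := by rw [hN, map_pow]; exact h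
    rw [h3, map_one, mul_one, mul_inv_cancel] at hg
    obtain ⟨i, hi⟩ := hE
    have h4 := congrFun (congrFun hg i) i
    rw [Units.val_one, Matrix.one_apply_eq, Matrix.diagonal_apply_eq] at h4
    exact hi (((prim_of_pow hp.out hc hc1).zpow_eq_one_iff_dvd _).1 h4.symm)
  have h3 := orderOf_eq_prime_pow h2 h1
  rwa [Nat.sub_add_cancel hv] at h3

/-- the eigenvalues -/
theorem rts_of_conj {F : Type v} [Field F] {ι : Type} [Fintype ι] [DecidableEq ι] {S' : Type w} [Group S']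
    {ρ : S' →* GL ι F} {K : Type v} [Field K] [Algebra F K] {y : S'} {g : GL ι K} {d : ι → K}
    (h : ((g * Matrix.GeneralLinearGroup.map (algebraMap F K) (ρ y) * g⁻¹ : GL ι K) : Matrix ι ι K) =
      Matrix.diagonal d) : rts ρ K y = (Finset.univ.val : Multiset ι).map d := by
  have e1 : (Matrix.GeneralLinearGroup.map (algebraMap F K) (ρ y) : Matrix ι ι K) =
      (ρ y : Matrix ι ι F).map (algebraMap F K) := rfl
  rw [Units.val_mul, Units.val_mul, Matrix.coe_units_inv, e1] at h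
  have h1 := congrArg Matrix.charpoly h
  rw [Matrix.charpoly_units_conj, Matrix.charpoly_diagonal, Matrix.charpoly_map] at h1
  rw [rts, h1]
  have h2 : ∏ i, (X - C (d i)) = (((Finset.univ.val : Multiset ι).map d).map (fun a => X - C a)).prod := by
    rw [Multiset.map_map]
    rfl
  rw [h2, Polynomial.roots_multiset_prod_X_sub_C]

theorem count_map_zpow {p : ℕ} [hp : Fact p.Prime] {K : Type v} [Field K] [DecidableEq K] {ι : Type} [Fintype ι]
    {E : ι → ℤ} {c : K} (hc : IsPrimitiveRoot c p) (a : ℤ) :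
    ((Finset.univ.val : Multiset ι).map (fun i => c ^ E i)).count (c ^ a) =
      (Finset.univ.filter fun i => (p : ℤ) ∣ E i - a).card := by
  classical
  have hc0 : c ≠ 0 := hc.ne_zero hp.out.ne_zero
  rw [Multiset.count_map]
  have h1 : Multiset.filter (fun i => c ^ a = c ^ E i) (Finset.univ.val : Multiset ι) =
      (Finset.univ.filter fun i => (p : ℤ) ∣ E i - a).val := by
    rw [Finset.filter_val]
    refine Multiset.filter_congr fun i _ => ?_
    rw [← hc.zpow_eq_one_iff_dvd, zpow_sub₀ hc0, div_eq_one_iff_eq (zpow_ne_zero _ hc0), eq_comm]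
  rw [h1]
  rfl

/-! ### the contradictions -/

section final

variable {p q : ℕ} [hp : Fact p.Prime] [hq : Fact q.Prime] {S : Type u} [Group S] [Finite S] {D : ChevalleyDatum}
    (hD : InList D) {F : Type v} [Field F] [Finite F] {Ψ : (F ≃+* F) →* MulAut S} {A Φ : Subgroup (MulAut S)}
    {φ : F ≃+* F} (hpF : (p : F) ≠ 0) (hF : FSit p q Ψ A Φ φ) (hinv : InvHyp p A Φ) {G : Subgroup (GL D.Idx F)}
    (hle : G ≤ D.group F) (hG : Stab G) (π : ↥G →* S) (hπ : Function.Surjective π)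
    (hker : ∀ z ∈ π.ker, z ∈ center ↥G) (hkp : ¬ p ∣ Nat.card π.ker)
    (hΨ : ∀ (σ : F ≃+* F) (g : ↥G), π (fieldAut hG σ g) = Ψ σ (π g)) (hp7 : 7 < p)
    (hqφ : q ∣ orderOf (Nat.card (Fx φ) : ZMod p)) {Q e : ℕ}
    (hQ : Nat.card F = Q ^ e) (he : ¬ p ∣ e) (hpQ : p ∣ Q ^ 2 - 1) {k₀ : Type w} [Field k₀] [Fintype k₀]
    (hk₀ : Fintype.card k₀ = Q) {κ : Matrix.SpecialLinearGroup (Fin 2) k₀ →* GL D.Idx F} (hκ : ∀ g, κ g ∈ G)
    {E : D.Idx → ℤ} (hE : HasWt p κ E) (hE1 : ∃ i, ¬ (p : ℤ) ∣ E i)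

include hD hpF hF hinv hle hG hπ hker hkp hΨ hp7 hqφ hQ he hpQ hk₀ hκ hE hE1

/-- all the data -/
theorem two_data : ∃ (K : Type v) (_ : Field K) (_ : DecidableEq K) (c : K) (n : ℕ), IsPrimitiveRoot c p ∧ ¬ p ∣ n ∧
    q ∣ orderOf (n : ZMod p) ∧ ∀ μ : K, (p : ℤ) ∣
      ((((Finset.univ.val : Multiset D.Idx).map (fun i => c ^ E i)).count μ : ℕ) : ℤ) -
      (((((Finset.univ.val : Multiset D.Idx).map (fun i => c ^ E i)).map (· ^ n)).count μ : ℕ) : ℤ) := by
  classical
  have hp2 : p ≠ 2 := by omega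
  have hQ1 : 1 < Q := by rw [← hk₀]; exact Fintype.one_lt_card
  have hQ21 : 1 < Q ^ 2 := Nat.one_lt_pow (by norm_num) hQ1
  have hfac : 1 ≤ (Q ^ 2 - 1).factorization p := by
    have h1 : p ^ 1 ∣ Q ^ 2 - 1 := by rwa [pow_one]
    exact (Nat.Prime.pow_dvd_iff_le_factorization hp.out (by omega)).1 h1
  obtain ⟨M, hM⟩ := SLTwo.exists_elt hp2 (k := k₀) (by rw [hk₀]; exact hpQ)
  rw [hk₀] at hM
  set x : ↥G := ⟨κ M, hκ M⟩ with hx
  have hox : orderOf x = p ^ (Q ^ 2 - 1).factorization p := by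
    have h1 : orderOf x = orderOf (κ M) := (Subgroup.orderOf_coe x).symm
    rw [h1]
    exact orderOf_kappa hpF hE hE1 hfac hM
  obtain ⟨K, _, _, _, _, k, ⟨ζ, hζ⟩, hxp, hx1, _, j, hj, hm⟩ := exc_data hD hpF hF hinv hle hG π hπ hker hkp hΨ hp7 hQ1 hQ he
    hpQ hox
  -- `M ^ k` has order `p`
  have hMk1 : M ^ k ≠ 1 := by
    intro h
    apply hx1
    apply Subtype.ext
    show (κ M) ^ k = 1
    rw [← map_pow, h, map_one]
  have hMkp : (M ^ k) ^ p = 1 := by
    have h1 : (κ M) ^ (k * p) = 1 := by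
      have := congrArg Subtype.val hxp
      rw [pow_mul]
      exact this
    have h2 := orderOf_dvd_of_pow_eq_one h1
    rw [orderOf_kappa hpF hE hE1 hfac hM, ← hM] at h2
    rw [← pow_mul]
    exact orderOf_dvd_iff_pow_eq_one.1 h2
  obtain ⟨c, g, hc, hc1, hg⟩ := hE K ζ hζ (M ^ k) hMkp hMk1
  have hcp := prim_of_pow hp.out hc hc1
  have hrts : rts G.subtype K (x ^ k) = (Finset.univ.val : Multiset D.Idx).map (fun i => c ^ E i) := by
    refine rts_of_conj (g := g) ?_
    rw [← hg]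
    congr 4
    show ((x ^ k : ↥G) : GL D.Idx F) = κ (M ^ k)
    rw [map_pow]
    rfl
  rw [hrts] at hm
  obtain ⟨r, hr⟩ := CharP.exists F
  have hrp : Fact r.Prime := ⟨CharP.char_is_prime F r⟩
  have hpr : p ≠ r := by
    rintro rfl
    exact hpF (CharP.cast_eq_zero F p)
  have := Fintype.ofFinite (Fx φ)
  have hr0 : CharP (Fx φ) r := (algebraMap (Fx φ) F).charP (algebraMap (Fx φ) F).injective r
  obtain ⟨a, _, ha⟩ := FiniteField.card (Fx φ) r
  refine ⟨K, inferInstance, inferInstance, c, Nat.card (Fx φ) ^ j, hcp, ?_, ?_, hm⟩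
  · rw [Nat.card_eq_fintype_card, ha, ← pow_mul]
    intro h
    exact hpr ((Nat.prime_dvd_prime_iff_eq hp.out Fact.out).1 (hp.out.dvd_of_dvd_pow h))
  · rw [Nat.cast_pow]
    exact dvd_orderOf_pow hq.out hj hqφ

/-- **few weights** : weights `0, ±1, ±2`, the weight `2` occurs once -/
theorem two_few (h5 : 5 ≤ q) (hE2 : ∀ i, -2 ≤ E i ∧ E i ≤ 2) (hE3 : (Finset.univ.filter fun i => E i = 2).card = 1) :
    False := by
  classical
  obtain ⟨K, _, _, c, n, hc, hn, hqn, hm⟩ := two_data hD hpF hF hinv hle hG π hπ hker hkp hΨ hp7 hqφ hQ he hpQ hk₀ hκ hE hE1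
  set R := (Finset.univ.val : Multiset D.Idx).map (fun i => c ^ E i) with hR
  have hc0 : c ≠ 0 := hc.ne_zero hp.out.ne_zero
  have hRp : ∀ μ ∈ R, μ ^ p = 1 := by
    intro μ hμ
    rw [hR, Multiset.mem_map] at hμ
    obtain ⟨i, _, rfl⟩ := hμ
    rw [← zpow_natCast, ← zpow_mul, mul_comm, zpow_mul, zpow_natCast, hc.pow_eq_one, one_zpow]
  have h1 := (Cfsg.Agent.H55.PQ.cnt_dvd hq.out hRp hn hqn hm).1
  set Z : Set K := {μ : K | μ ≠ 1 ∧ ¬ p ∣ R.count μ} with hZ
  have hsub : Z ⊆ (({c, c ^ 2, c⁻¹, (c ^ 2)⁻¹} : Finset K) : Set K) := by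
    intro μ hμ
    have h2 : μ ∈ R := by
      by_contra h3
      apply hμ.2
      rw [Multiset.count_eq_zero_of_notMem h3]
      exact dvd_zero _
    rw [hR, Multiset.mem_map] at h2
    obtain ⟨i, _, hi⟩ := h2
    have hi : c ^ E i = μ := hi
    have h3 : E i ≠ 0 := by
      intro h4
      rw [h4, zpow_zero] at hi
      exact hμ.1 hi.symm
    obtain ⟨h4, h5⟩ := hE2 i
    have h6 : E i = 1 ∨ E i = 2 ∨ E i = -1 ∨ E i = -2 := by omega
    rw [Finset.mem_coe, Finset.mem_insert, Finset.mem_insert, Finset.mem_insert, Finset.mem_singleton, ← hi]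
    rcases h6 with h6 | h6 | h6 | h6 <;> rw [h6]
    · left; rw [zpow_one]
    · right; left; exact zpow_ofNat c 2
    · right; right; left; rw [zpow_neg, zpow_one]
    · right; right; right; rw [zpow_neg]; congr 1; exact zpow_ofNat c 2
  have hcard : Z.ncard ≤ 4 := by
    have h2 := Set.ncard_le_ncard hsub (Finset.finite_toSet _)
    rw [Set.ncard_coe_finset] at h2
    exact h2.trans Finset.card_le_four
  have hmem : c ^ (2 : ℤ) ∈ Z := by
    refine ⟨?_, ?_⟩
    · intro h2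
      have h3 := (hc.zpow_eq_one_iff_dvd 2).1 h2
      have h4 := Int.le_of_dvd (by norm_num) h3
      omega
    · rw [hR, count_map_zpow hc]
      have h2 : (Finset.univ.filter fun i => (p : ℤ) ∣ E i - 2) = Finset.univ.filter fun i => E i = 2 := by
        ext i
        rw [Finset.mem_filter, Finset.mem_filter]
        refine and_congr_right fun _ => ⟨fun h3 => ?_, fun h3 => by rw [h3, sub_self]; exact dvd_zero _⟩
        obtain ⟨h4, h5⟩ := hE2 i
        have h6 : (p : ℤ) ∣ 2 - E i := by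
          rw [← neg_sub]
          exact (dvd_neg).2 h3
        by_contra h7
        have h8 := Int.le_of_dvd (by omega) h6
        omega
      rw [h2, hE3]
      exact fun h3 => hp.out.one_lt.ne' (Nat.dvd_one.1 h3)
  have hpos : 0 < Z.ncard := (Set.ncard_pos ((Finset.finite_toSet _).subset hsub)).2 ⟨_, hmem⟩
  have := Nat.le_of_dvd hpos h1
  omega

/-- **many weights** : the value `a` occurs at least `N` and less than `p` times, the weights are symmetric,
`|R| < 2 q N` -/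
theorem two_many (hq2 : q ≠ 2) {a : ℤ} (ha : ¬ (p : ℤ) ∣ a) {N : ℕ} (hN0 : N ≠ 0)
    (hN : N ≤ (Finset.univ.filter fun i => (p : ℤ) ∣ E i - a).card)
    (hNp : (Finset.univ.filter fun i => (p : ℤ) ∣ E i - a).card < p)
    (hsym : ∀ b : ℤ, (Finset.univ.filter fun i => (p : ℤ) ∣ E i - b).card =
      (Finset.univ.filter fun i => (p : ℤ) ∣ E i + b).card)
    (hlt : Fintype.card D.Idx < 2 * q * N) : False := by
  classical
  obtain ⟨K, _, _, c, n, hc, hn, hqn, hm⟩ := two_data hD hpF hF hinv hle hG π hπ hker hkp hΨ hp7 hqφ hQ he hpQ hk₀ hκ hE hE1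
  set R := (Finset.univ.val : Multiset D.Idx).map (fun i => c ^ E i) with hR
  have hc0 : c ≠ 0 := hc.ne_zero hp.out.ne_zero
  have hRp : ∀ μ ∈ R, μ ^ p = 1 := by
    intro μ hμ
    rw [hR, Multiset.mem_map] at hμ
    obtain ⟨i, _, rfl⟩ := hμ
    rw [← zpow_natCast, ← zpow_mul, mul_comm, zpow_mul, zpow_natCast, hc.pow_eq_one, one_zpow]
  have hcnt : ∀ b : ℤ, R.count (c ^ b) = (Finset.univ.filter fun i => (p : ℤ) ∣ E i - b).card := fun b => by
    rw [hR]
    exact count_map_zpow hc b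
  have hs : ∀ μ : K, R.count μ⁻¹ = R.count μ := by
    have key : ∀ b : ℤ, R.count (c ^ b)⁻¹ = R.count (c ^ b) := by
      intro b
      rw [← zpow_neg, hcnt, hcnt, hsym b]
      congr 1
      ext i
      rw [Finset.mem_filter, Finset.mem_filter, sub_neg_eq_add]
    intro μ
    by_cases h1 : μ ∈ R
    · rw [hR, Multiset.mem_map] at h1
      obtain ⟨i, _, rfl⟩ := h1
      exact key (E i)
    · by_cases h2 : μ⁻¹ ∈ R
      · rw [hR, Multiset.mem_map] at h2
        obtain ⟨i, _, h3⟩ := h2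
        have h3 : c ^ E i = μ⁻¹ := h3
        have h4 := key (E i)
        rw [h3, inv_inv] at h4
        exact h4.symm
      · rw [Multiset.count_eq_zero_of_notMem h1, Multiset.count_eq_zero_of_notMem h2]
  have h1 : c ^ a ≠ 1 := fun h => ha ((hc.zpow_eq_one_iff_dvd a).1 h)
  have h2 := bound (by omega) hq.out hq2 hRp hn hqn hm hs h1 (by rw [hcnt]; omega) (by rw [hcnt]; exact hNp)
  rw [hcnt] at h2
  have h3 : Multiset.card R = Fintype.card D.Idx := by
    rw [hR, Multiset.card_map]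
    rfl
  rw [h3] at h2
  have h4 : 2 * q * N ≤ 2 * q * (Finset.univ.filter fun i => (p : ℤ) ∣ E i - a).card := Nat.mul_le_mul_left _ hN
  omega

end final

end Cfsg.Agent.H754.PQ
end

-- part: H754/PQ/Wt
section
/-!
# S4981: the weights of the root `SL₂` (helper754)

* `glmap_psi`, `hasWt_psi` : the root `SL₂`;
* `two_long` : the case of a long root `SL₂(Q)`;
* `kap`, `two_tf4` : the groups `²F₄(Q)`.
-/

set_option autoImplicit false

open Polynomial Cfsg Subgroup

open scoped MatrixGroups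

namespace Cfsg.Agent.H754.PQ

open Cfsg.Lie Cfsg.Agent.ChevalleyStructure Cfsg.Agent.ChevalleyStructure.Elts
open Cfsg.Agent.H54.PQ Cfsg.Agent.H967.CopMat
open Cfsg.Agent.Nodes.RGDFoldSL (wS hS coe_wS coe_hS map_hS psi psi_up psi_lo psi_hS psi_wS psi_mem map_up map_lo)
open Cfsg.Agent.ChevalleyStructure.SL2Hom (up lo mem_closure_SL2)

universe u v w

theorem glmap_xG {D : ChevalleyDatum} (hD : InList D) {F : Type v} [Field F] {K : Type w} [Field K] (f : F →+* K) (r : ℕ)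
    (t : F) : Matrix.GeneralLinearGroup.map f (xG hD r t) = xG hD r (f t) :=
  Units.ext (Cfsg.Agent.ChevStructure.FieldMap.x_map D f r t)

theorem glmap_psi {D : ChevalleyDatum} (hD : InList D) {F : Type v} [Field F] {K : Type w} [Field K] (f : F →+* K)
    {r : ℕ} (hr : r < D.nroots) (M : Matrix.SpecialLinearGroup (Fin 2) F) :
    Matrix.GeneralLinearGroup.map f (psi hD F r M) = psi hD K r (Matrix.SpecialLinearGroup.map f M) := by
  have h := mem_closure_SL2 M
  induction h using closure_induction with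
  | mem x hx =>
    rcases hx with ⟨t, rfl⟩ | ⟨t, rfl⟩
    · rw [psi_up hD hr, map_up, psi_up hD hr, glmap_xG]
    · rw [psi_lo hD hr, map_lo, psi_lo hD hr, glmap_xG]
  | one => rw [map_one, map_one, map_one, map_one]
  | mul x y _ _ hx hy => rw [map_mul, map_mul, hx, hy, map_mul, map_mul]
  | inv x _ hx => rw [map_inv, map_inv, hx, map_inv, map_inv]

theorem slmap_injective {F : Type v} [Field F] {K : Type w} [Field K] (f : F →+* K) :
    Function.Injective (Matrix.SpecialLinearGroup.map (n := Fin 2) f) := by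
  intro x y hxy
  apply Subtype.ext
  ext a b
  apply f.injective
  exact congrFun (congrFun (congrArg Subtype.val hxy) a) b

/-- the weights of the root `r` -/
def wt (D : ChevalleyDatum) (r : ℕ) : D.Idx → ℤ := Sum.elim (fun _ => 0) (fun s => HMatDiagAll.expo D r s.val)

theorem coe_psi_dg {D : ChevalleyDatum} (hD : InList D) {K : Type v} [Field K] {r : ℕ} (hr : r < D.nroots) (c : Kˣ) :
    ((psi hD K r (SLTwo.dg c) : GL D.Idx K) : Matrix D.Idx D.Idx K) = Matrix.diagonal (fun i => (c : K) ^ wt D r i) := by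
  rw [SLTwo.dg_eq, psi_hS hD hr, coe_hG, HMatDiagAll.hMat_eq_diagonal hD hr c.ne_zero]
  congr 1
  funext i
  rcases i with i | i
  · show (1 : K) = (c : K) ^ (0 : ℤ)
    rw [zpow_zero]
  · rfl

theorem hasWt_psi {p : ℕ} (hp : p.Prime) (hp2 : p ≠ 2) {D : ChevalleyDatum} (hD : InList D) {F : Type v} [Field F]
    {k₀ : Type w} [Field k₀] (f : k₀ →+* F) {r : ℕ} (hr : r < D.nroots) :
    HasWt p ((psi hD F r).comp (Matrix.SpecialLinearGroup.map f)) (wt D r) := by
  intro K _ _ _ ζ hζ N hN hN1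
  obtain ⟨k, c, hc, hc1, h⟩ := SLTwo.exists_conj hp hp2 hζ
    (g := Matrix.SpecialLinearGroup.map (algebraMap F K) (Matrix.SpecialLinearGroup.map f N))
    (by rw [← map_pow, ← map_pow, hN, map_one, map_one])
    (fun h => hN1 (slmap_injective f (slmap_injective (algebraMap F K) (by rw [h, map_one, map_one]))))
  refine ⟨(c : K), psi hD K r k, ?_, ?_, ?_⟩
  · rw [← Units.val_pow_eq_pow_val, hc, Units.val_one]
  · intro h1
    exact hc1 (Units.ext (h1.trans Units.val_one.symm))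
  · rw [← coe_psi_dg hD hr, ← h]
    rw [MonoidHom.comp_apply, glmap_psi hD _ hr, map_mul, map_mul, map_inv]

/-! ### long roots -/

/-- `r` is a long root: the weights are `0, ±1, ±2`, the weight `2` occurs once -/
structure LongOK (D : ChevalleyDatum) (r : ℕ) : Prop where
  lt : r < D.nroots
  le : ∀ s < D.nroots, -2 ≤ HMatDiagAll.expo D r s ∧ HMatDiagAll.expo D r s ≤ 2
  uniq : ∀ s < D.nroots, HMatDiagAll.expo D r s = 2 → s = r

theorem expo_self (D : ChevalleyDatum) (r : ℕ) : HMatDiagAll.expo D r r = 2 := by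
  rw [HMatDiagAll.expo, if_pos rfl]

section final

variable {p q : ℕ} [hp : Fact p.Prime] [hq : Fact q.Prime] {S : Type u} [Group S] [Finite S] {D : ChevalleyDatum}
    (hD : InList D) {F : Type v} [Field F] [Finite F] {Ψ : (F ≃+* F) →* MulAut S} {A Φ : Subgroup (MulAut S)}
    {φ : F ≃+* F} (hpF : (p : F) ≠ 0) (hF : FSit p q Ψ A Φ φ) (hinv : InvHyp p A Φ) {G : Subgroup (GL D.Idx F)}
    (hle : G ≤ D.group F) (hG : Stab G) (π : ↥G →* S) (hπ : Function.Surjective π)
    (hker : ∀ z ∈ π.ker, z ∈ center ↥G) (hkp : ¬ p ∣ Nat.card π.ker)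
    (hΨ : ∀ (σ : F ≃+* F) (g : ↥G), π (fieldAut hG σ g) = Ψ σ (π g)) (hp7 : 7 < p)
    (hqφ : q ∣ orderOf (Nat.card (Fx φ) : ZMod p)) {Q e : ℕ}
    (hQ : Nat.card F = Q ^ e) (he : ¬ p ∣ e) (hpQ : p ∣ Q ^ 2 - 1) {k₀ : Type w} [Field k₀] [Fintype k₀]
    (hk₀ : Fintype.card k₀ = Q)

include hD hpF hF hinv hle hG hπ hker hkp hΨ hp7 hqφ hQ he hpQ hk₀

/-- **`p ∣ Q² - 1`, `G` contains a long root `SL₂(Q)`: contradiction** -/
theorem two_long (h5 : 5 ≤ q) (f : k₀ →+* F) {r : ℕ} (hr : LongOK D r) (hup : ∀ t, xG hD r (f t) ∈ G)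
    (hlo : ∀ t, xG hD (D.neg r) (f t) ∈ G) : False := by
  classical
  have hmem : ∀ g : Matrix.SpecialLinearGroup (Fin 2) k₀,
      ((psi hD F r).comp (Matrix.SpecialLinearGroup.map f)) g ∈ G := by
    intro g
    have h := mem_closure_SL2 g
    induction h using closure_induction with
    | mem x hx =>
      rcases hx with ⟨t, rfl⟩ | ⟨t, rfl⟩
      · rw [MonoidHom.comp_apply, map_up, psi_up hD hr.lt]; exact hup t
      · rw [MonoidHom.comp_apply, map_lo, psi_lo hD hr.lt]; exact hlo t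
    | one => rw [map_one]; exact G.one_mem
    | mul x y _ _ hx hy => rw [map_mul]; exact G.mul_mem hx hy
    | inv x _ hx => rw [map_inv]; exact G.inv_mem hx
  refine two_few hD hpF hF hinv hle hG π hπ hker hkp hΨ hp7 hqφ hQ he hpQ hk₀ hmem
    (hasWt_psi hp.out (by omega) hD f hr.lt) ⟨Sum.inr ⟨r, hr.lt⟩, ?_⟩ h5 ?_ ?_
  · show ¬ (p : ℤ) ∣ HMatDiagAll.expo D r r
    rw [expo_self]
    intro h
    have := Int.le_of_dvd (by norm_num) h
    omega
  · rintro (i | i)
    · exact ⟨by show (-2 : ℤ) ≤ 0; norm_num, by show (0 : ℤ) ≤ 2; norm_num⟩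
    · exact hr.le i.1 i.2
  · rw [Finset.card_eq_one]
    refine ⟨Sum.inr ⟨r, hr.lt⟩, ?_⟩
    ext i
    rw [Finset.mem_filter, Finset.mem_singleton]
    constructor
    · rintro ⟨_, h⟩
      rcases i with i | i
      · exact absurd (show (0 : ℤ) = 2 from h) (by norm_num)
      · have h1 := hr.uniq i.1 i.2 h
        exact congrArg Sum.inr (Fin.ext h1)
    · rintro rfl
      exact ⟨Finset.mem_univ _, expo_self D r⟩

end final

end Cfsg.Agent.H754.PQ
end

-- part: H754/PQ/TwoRows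
section
/-!
# S4981: the exceptional groups, `p ∣ Q² - 1`: the families (helper754)

* `two_chev` : `G₂, F₄, E₆, E₇, E₈` (and `D₄`);
* `two_twE6`, `two_twD4` : `²E₆(Q)`, `³D₄(Q)`;
* `two_twF4` : `²F₄(Q)`.
-/

set_option autoImplicit false

open Polynomial Cfsg Subgroup

open scoped MatrixGroups

namespace Cfsg.Agent.H754.PQ

open Cfsg.Lie Cfsg.Agent.ChevalleyStructure Cfsg.Agent.ChevalleyStructure.Elts
open Cfsg.Agent.H54.PQ Cfsg.Agent.H967.CopMat
open Cfsg.Agent.Nodes.RGDFoldSL (wS hS coe_wS coe_hS map_hS psi psi_up psi_lo psi_hS psi_wS psi_mem map_up map_lo)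
open Cfsg.Agent.ChevalleyStructure.SL2Hom (up lo mem_closure_SL2)

universe u v w

theorem longOK_G2 : LongOK chevG2 0 := ⟨by decide +kernel, by decide +kernel, by decide +kernel⟩
theorem longOK_D4 : LongOK chevD4 14 := ⟨by decide +kernel, by decide +kernel, by decide +kernel⟩
theorem longOK_F4 : LongOK chevF4 24 := ⟨by decide +kernel, by decide +kernel, by decide +kernel⟩
theorem longOK_E6 : LongOK chevE6 39 := ⟨by decide +kernel, by decide +kernel, by decide +kernel⟩
theorem longOK_E7 : LongOK chevE7 63 := ⟨by decide +kernel, by decide +kernel, by decide +kernel⟩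
theorem longOK_E8 : LongOK chevE8 120 := ⟨by decide +kernel, by decide +kernel, by (delta Cfsg.Agent.ChevalleyStructure.HMatDiagAll.expo; set_option synthInstance.maxSize 100000 in exact Cfsg.Agent.Lib.Refl.of (by decide +kernel))⟩


/-- a subfield with `q` elements (from helper343, `H343/WitExc.lean`) -/
theorem exists_subfield (F : Type v) [Field F] [Fintype F] {q m : ℕ} (hq : IsPrimePow q) (hm : m ≠ 0)
    (hF : Fintype.card F = q ^ m) :
    ∃ (k : Type) (_ : Field k) (_ : Fintype k) (ι : k →+* F), Fintype.card k = q ∧ ∀ x, (ι x) ^ q = ι x := by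
  classical
  obtain ⟨p, n, hp, hn, rfl⟩ := (isPrimePow_nat_iff _).mp hq
  have : Fact p.Prime := ⟨hp⟩
  have hF' : Fintype.card F = p ^ (n * m) := by rw [hF, ← pow_mul]
  have hchar : CharP F p := by
    obtain ⟨r, hr⟩ := CharP.exists F
    obtain ⟨l, hrp, hl⟩ := FiniteField.card F r
    have h1 : p ∣ r ^ (l : ℕ) := by
      rw [← hl, hF']
      exact dvd_pow_self _ (Nat.mul_ne_zero hn.ne' hm)
    have h2 : p = r := (Nat.prime_dvd_prime_iff_eq hp hrp).mp (hp.dvd_of_dvd_pow h1)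
    subst h2
    exact hr
  let _ : Algebra (ZMod p) F := ZMod.algebra F p
  have h1 : Module.finrank (ZMod p) (GaloisField p n) = n := GaloisField.finrank p hn.ne'
  have h2 : Module.finrank (ZMod p) F = n * m := by
    have h3 : Fintype.card F = p ^ Module.finrank (ZMod p) F := by
      have := Module.card_eq_pow_finrank (K := ZMod p) (V := F)
      rwa [ZMod.card] at this
    exact Nat.pow_right_injective hp.two_le (h3.symm.trans hF')
  obtain ⟨f⟩ := FiniteField.nonempty_algHom_of_finrank_dvd (F := ZMod p) (K := GaloisField p n) (L := F)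
    (by rw [h1, h2]; exact dvd_mul_right _ _)
  let _ : Fintype (GaloisField p n) := Fintype.ofFinite _
  have hc : Fintype.card (GaloisField p n) = p ^ n := by
    rw [← Nat.card_eq_fintype_card]; exact GaloisField.card p n hn.ne'
  refine ⟨GaloisField p n, inferInstance, inferInstance, f.toRingHom, hc, fun x => ?_⟩
  rw [← map_pow, ← hc, FiniteField.pow_card]

theorem xG_mem_gen {D : ChevalleyDatum} (hD : InList D) {F : Type v} [Field F] {W : Set (List (ℕ × F))} {r : ℕ} {t : F}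
    (h : [(r, t)] ∈ W) : xG hD r t ∈ D.genSubgroup F W := by
  refine subset_closure ⟨[(r, t)], h, ?_⟩
  rw [wordMat_cons, wordMat_nil, mul_one]
  exact (eq_xG_iff hD _ r t).1 rfl

theorem wordG_mem_gen {D : ChevalleyDatum} (hD : InList D) {F : Type v} [Field F] {W : Set (List (ℕ × F))}
    {w : List (ℕ × F)} (h : w ∈ W) : wordG hD w ∈ D.genSubgroup F W :=
  subset_closure ⟨w, h, coe_wordG hD w⟩

theorem gen_le_group {D : ChevalleyDatum} (hD : InList D) {F : Type v} [Field F] (W : Set (List (ℕ × F))) :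
    D.genSubgroup F W ≤ D.group F := by
  refine (closure_le _).2 ?_
  rintro g ⟨w, _, hw⟩
  rw [(eq_wordG_iff hD g w).2 hw]
  exact wordG_mem_group hD w

theorem inD4 : InList chevD4 := by simp [InList]
theorem inF4 : InList chevF4 := by simp [InList]
theorem inE6 : InList chevE6 := by simp [InList]

theorem not_dvd_small {p e : ℕ} (hp7 : 7 < p) (he0 : e ≠ 0) (he : e ≤ 3) : ¬ p ∣ e := by
  intro h
  have := Nat.le_of_dvd (Nat.pos_of_ne_zero he0) h
  omega

section rows

variable {p q : ℕ} [hp : Fact p.Prime] [hq : Fact q.Prime] {S : Type u} [Group S] [Finite S]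
    {F : Type v} [Field F] [Finite F] {Ψ : (F ≃+* F) →* MulAut S} {A Φ : Subgroup (MulAut S)} {φ : F ≃+* F}

/-- **Chevalley groups**, `p ∣ |F|² - 1` -/
theorem two_chev {D : ChevalleyDatum} (hD : InList D) (hL : ∃ r, LongOK D r) (hpF : (p : F) ≠ 0)
    (hF : FSit p q Ψ A Φ φ) (hinv : InvHyp p A Φ) (hG : Stab (D.group F)) (π : ↥(D.group F) →* S)
    (hπ : Function.Surjective π) (hker : ∀ z ∈ π.ker, z ∈ center ↥(D.group F)) (hkp : ¬ p ∣ Nat.card π.ker)
    (hΨ : ∀ (σ : F ≃+* F) (g : ↥(D.group F)), π (fieldAut hG σ g) = Ψ σ (π g)) (hp7 : 7 < p) (h5 : 5 ≤ q)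
    (hqφ : q ∣ orderOf (Nat.card (Fx φ) : ZMod p)) (hpQ : p ∣ Nat.card F ^ 2 - 1) : False := by
  have := Fintype.ofFinite F
  obtain ⟨r, hr⟩ := hL
  exact two_long hD hpF hF hinv le_rfl hG π hπ hker hkp hΨ hp7 hqφ (Q := Nat.card F) (e := 1) (pow_one _).symm
    (not_dvd_small hp7 one_ne_zero (by norm_num)) hpQ (k₀ := F) (Nat.card_eq_fintype_card).symm h5 (RingHom.id F) hr
    (fun t => xG_mem_group hD _ _) (fun t => xG_mem_group hD _ _)

/-- **`²E₆(Q)`**, `p ∣ Q² - 1` -/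
theorem two_twE6 {Q : ℕ} (hQ : IsPrimePow Q) (hcF : Nat.card F = Q ^ 2) (hpF : (p : F) ≠ 0)
    (hF : FSit p q Ψ A Φ φ) (hinv : InvHyp p A Φ) (hG : Stab (twistedE6 F Q)) (π : ↥(twistedE6 F Q) →* S)
    (hπ : Function.Surjective π) (hker : ∀ z ∈ π.ker, z ∈ center ↥(twistedE6 F Q)) (hkp : ¬ p ∣ Nat.card π.ker)
    (hΨ : ∀ (σ : F ≃+* F) (g : ↥(twistedE6 F Q)), π (fieldAut hG σ g) = Ψ σ (π g)) (hp7 : 7 < p) (h5 : 5 ≤ q)
    (hqφ : q ∣ orderOf (Nat.card (Fx φ) : ZMod p)) (hpQ : p ∣ Q ^ 2 - 1) : False := by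
  have := Fintype.ofFinite F
  obtain ⟨k, _, _, f, hk, hf⟩ := exists_subfield F hQ two_ne_zero (by rw [← Nat.card_eq_fintype_card, hcF])
  refine two_long inE6 hpF hF hinv (gen_le_group inE6 _) hG π hπ hker hkp hΨ hp7 hqφ (Q := Q) (e := 2) hcF
    (not_dvd_small hp7 two_ne_zero (by norm_num)) hpQ hk h5 f longOK_E6 (fun t => xG_mem_gen inE6 ?_)
    (fun t => xG_mem_gen inE6 ?_)
  · exact Or.inl ⟨f t, hf t, 39, by simp [e6p4], rfl⟩
  · have h1 : chevE6.neg 39 = 32 := by decide +kernel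
    rw [h1]
    exact Or.inl ⟨f t, hf t, 32, by simp [e6m4], rfl⟩

/-- **`³D₄(Q)`**, `p ∣ Q² - 1` -/
theorem two_twD4 {Q : ℕ} (hQ : IsPrimePow Q) (hcF : Nat.card F = Q ^ 3) (hpF : (p : F) ≠ 0)
    (hF : FSit p q Ψ A Φ φ) (hinv : InvHyp p A Φ) (hG : Stab (twistedD4 F Q)) (π : ↥(twistedD4 F Q) →* S)
    (hπ : Function.Surjective π) (hker : ∀ z ∈ π.ker, z ∈ center ↥(twistedD4 F Q)) (hkp : ¬ p ∣ Nat.card π.ker)
    (hΨ : ∀ (σ : F ≃+* F) (g : ↥(twistedD4 F Q)), π (fieldAut hG σ g) = Ψ σ (π g)) (hp7 : 7 < p) (h5 : 5 ≤ q)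
    (hqφ : q ∣ orderOf (Nat.card (Fx φ) : ZMod p)) (hpQ : p ∣ Q ^ 2 - 1) : False := by
  have := Fintype.ofFinite F
  obtain ⟨k, _, _, f, hk, hf⟩ := exists_subfield F hQ three_ne_zero (by rw [← Nat.card_eq_fintype_card, hcF])
  refine two_long inD4 hpF hF hinv (gen_le_group inD4 _) hG π hπ hker hkp hΨ hp7 hqφ (Q := Q) (e := 3) hcF
    (not_dvd_small hp7 three_ne_zero le_rfl) hpQ hk h5 f longOK_D4 (fun t => xG_mem_gen inD4 ?_)
    (fun t => xG_mem_gen inD4 ?_)
  · exact Or.inl ⟨f t, hf t, 14, by simp [d4p2], rfl⟩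
  · have h1 : chevD4.neg 14 = 9 := by decide +kernel
    rw [h1]
    exact Or.inl ⟨f t, hf t, 9, by simp [d4m2], rfl⟩

end rows

/-! ### `²F₄(Q)` -/

theorem comm_terms {D : ChevalleyDatum} (hD : InList D) {F : Type v} [Field F] {r s : ℕ} (hr : r < D.nroots)
    (hs : s < D.nroots) (hrs : s ≠ r) (hneg : s ≠ D.neg r) (h : D.commTerms r s = []) (t u : F) :
    xG hD r t * xG hD s u = xG hD s u * xG hD r t := by
  apply Units.ext
  have h1 := Cfsg.Agent.S1025.result (F := F) D hD r s hr hs hrs hneg t u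
  rw [ChevalleyDatum.commWord, h, List.map_nil, wordMat_nil, mul_one] at h1
  exact h1.symm

theorem comm_psi {D : ChevalleyDatum} (hD : InList D) {F : Type v} [Field F] {r s : ℕ} (hr : r < D.nroots)
    (hs : s < D.nroots) (h : ∀ r' ∈ [r, D.neg r], ∀ s' ∈ [s, D.neg s], r' < D.nroots ∧ s' < D.nroots ∧
      s' ≠ r' ∧ s' ≠ D.neg r' ∧ D.commTerms r' s' = []) (a b : Matrix.SpecialLinearGroup (Fin 2) F) :
    psi hD F r a * psi hD F s b = psi hD F s b * psi hD F r a := by
  have hg : ∀ r' ∈ [r, D.neg r], ∀ s' ∈ [s, D.neg s], ∀ t u : F,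
      xG hD r' t * xG hD s' u = xG hD s' u * xG hD r' t := by
    intro r' hr' s' hs' t u
    obtain ⟨h1, h2, h3, h4, h5⟩ := h r' hr' s' hs'
    exact comm_terms hD h1 h2 h3 h4 h5 t u
  have ha := mem_closure_SL2 a
  induction ha using closure_induction with
  | mem x hx =>
    have hb := mem_closure_SL2 b
    induction hb using closure_induction with
    | mem y hy =>
      rcases hx with ⟨t, rfl⟩ | ⟨t, rfl⟩ <;> rcases hy with ⟨u, rfl⟩ | ⟨u, rfl⟩
      · rw [psi_up hD hr, psi_up hD hs]; exact hg _ (by simp) _ (by simp) t u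
      · rw [psi_up hD hr, psi_lo hD hs]; exact hg _ (by simp) _ (by simp) t u
      · rw [psi_lo hD hr, psi_up hD hs]; exact hg _ (by simp) _ (by simp) t u
      · rw [psi_lo hD hr, psi_lo hD hs]; exact hg _ (by simp) _ (by simp) t u
    | one => rw [map_one, mul_one, one_mul]
    | mul y z _ _ hy hz => rw [map_mul, ← mul_assoc, hy, mul_assoc, hz, mul_assoc]
    | inv y _ hy =>
      rw [map_inv, eq_inv_mul_iff_mul_eq, ← mul_assoc, ← hy, mul_assoc, mul_inv_cancel, mul_one]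
  | one => rw [map_one, mul_one, one_mul]
  | mul y z _ _ hy hz => rw [map_mul, mul_assoc, hz, ← mul_assoc, hy, mul_assoc]
  | inv y _ hy =>
    rw [map_inv, inv_mul_eq_iff_eq_mul, ← mul_assoc, hy, mul_assoc, mul_inv_cancel, mul_one]


theorem comm_F4 {F : Type v} [Field F] (a b : Matrix.SpecialLinearGroup (Fin 2) F) :
    psi inF4 F 33 a * psi inF4 F 24 b = psi inF4 F 24 b * psi inF4 F 33 a :=
  comm_psi inF4 (by decide +kernel) (by decide +kernel) (by decide +kernel) a b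

/-- the root `SL₂` of type `A₁ × A₁` of `²F₄` -/
noncomputable def kap (F : Type v) [Field F] (θ : F →+* F) :
    Matrix.SpecialLinearGroup (Fin 2) F →* GL chevF4.Idx F where
  toFun M := psi inF4 F 33 (Matrix.SpecialLinearGroup.map θ M) * psi inF4 F 24 M
  map_one' := by rw [map_one, map_one, map_one, one_mul]
  map_mul' a b := by
    rw [map_mul, map_mul, map_mul, mul_assoc, ← mul_assoc (psi inF4 F 33 (Matrix.SpecialLinearGroup.map θ b)), comm_F4,
      mul_assoc, ← mul_assoc, ← mul_assoc]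

theorem kap_apply {F : Type v} [Field F] (θ : F →+* F) (M : Matrix.SpecialLinearGroup (Fin 2) F) :
    kap F θ M = psi inF4 F 33 (Matrix.SpecialLinearGroup.map θ M) * psi inF4 F 24 M := rfl

/-- the weights -/
def wt2 (e : ℕ) : chevF4.Idx → ℤ :=
  Sum.elim (fun _ => 0) (fun s => e * HMatDiagAll.expo chevF4 33 s.val + HMatDiagAll.expo chevF4 24 s.val)

theorem kap_dg {K : Type v} [Field K] {θ : K →+* K} {e : ℕ} (hθ : ∀ x, θ x = x ^ e) (c : Kˣ) :
    ((kap K θ (SLTwo.dg c) : GL chevF4.Idx K) : Matrix chevF4.Idx chevF4.Idx K) =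
      Matrix.diagonal (fun i => (c : K) ^ wt2 e i) := by
  have h1 : Matrix.SpecialLinearGroup.map θ (SLTwo.dg c) = SLTwo.dg (c ^ e) := by
    rw [SLTwo.dg_eq, SLTwo.dg_eq, map_hS, hθ, Units.val_pow_eq_pow_val]
  rw [kap_apply, h1, Units.val_mul, coe_psi_dg inF4 (by decide +kernel), coe_psi_dg inF4 (by decide +kernel),
    Matrix.diagonal_mul_diagonal]
  congr 1
  funext i
  rw [Units.val_pow_eq_pow_val, ← zpow_natCast, ← zpow_mul, ← zpow_add₀ c.ne_zero]
  congr 1
  rcases i with i | i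
  · show (e : ℤ) * 0 + 0 = 0
    norm_num
  · rfl

theorem hasWt_kap {p : ℕ} (hp : p.Prime) (hp2 : p ≠ 2) {F : Type v} [Field F] [Finite F] [CharP F 2] {m : ℕ} :
    HasWt p (kap F (iterateFrobenius F 2 m)) (wt2 (2 ^ m)) := by
  intro K _ _ _ ζ hζ N hN hN1
  have hK : CharP K 2 := charP_of_injective_algebraMap (algebraMap F K).injective 2
  obtain ⟨k, c, hc, hc1, h⟩ := SLTwo.exists_conj hp hp2 hζ
    (g := Matrix.SpecialLinearGroup.map (algebraMap F K) N)
    (by rw [← map_pow, hN, map_one])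
    (fun h => hN1 (slmap_injective (algebraMap F K) (by rw [h, map_one])))
  have h1 : Matrix.GeneralLinearGroup.map (algebraMap F K) (kap F (iterateFrobenius F 2 m) N) =
      kap K (iterateFrobenius K 2 m) (Matrix.SpecialLinearGroup.map (algebraMap F K) N) := by
    rw [kap_apply, kap_apply, map_mul, glmap_psi inF4 _ (by decide +kernel), glmap_psi inF4 _ (by decide +kernel)]
    congr 2
    apply Subtype.ext
    ext i j
    show algebraMap F K (iterateFrobenius F 2 m ((N : Matrix (Fin 2) (Fin 2) F) i j)) =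
      iterateFrobenius K 2 m (algebraMap F K ((N : Matrix (Fin 2) (Fin 2) F) i j))
    rw [iterateFrobenius_def, iterateFrobenius_def, map_pow]
  refine ⟨(c : K), kap K (iterateFrobenius K 2 m) k, ?_, ?_, ?_⟩
  · rw [← Units.val_pow_eq_pow_val, hc, Units.val_one]
  · intro h1
    exact hc1 (Units.ext (h1.trans Units.val_one.symm))
  · rw [h1, ← map_inv, ← map_mul, ← map_mul, h]
    exact kap_dg (fun x => iterateFrobenius_def 2 m x) c

/-- the negative -/
def ng : chevF4.Idx → chevF4.Idx := Sum.elim Sum.inl fun s => Sum.inr ⟨chevF4.neg s.val % chevF4.nroots, Nat.mod_lt _ (by decide +kernel)⟩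

theorem ng_facts : ∀ s : Fin chevF4.nroots, chevF4.neg s.val < chevF4.nroots ∧ chevF4.neg (chevF4.neg s.val) = s.val ∧
    HMatDiagAll.expo chevF4 33 (chevF4.neg s.val) = - HMatDiagAll.expo chevF4 33 s.val ∧
    HMatDiagAll.expo chevF4 24 (chevF4.neg s.val) = - HMatDiagAll.expo chevF4 24 s.val := by decide +kernel

theorem ng_ng (i : chevF4.Idx) : ng (ng i) = i := by
  rcases i with i | i
  · rfl
  · obtain ⟨h1, h2, _⟩ := ng_facts i
    apply congrArg Sum.inr
    apply Fin.ext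
    show chevF4.neg (chevF4.neg i.val % chevF4.nroots) % chevF4.nroots = i.val
    rw [Nat.mod_eq_of_lt h1, h2]
    exact Nat.mod_eq_of_lt i.2

theorem wt2_ng (e : ℕ) (i : chevF4.Idx) : wt2 e (ng i) = - wt2 e i := by
  rcases i with i | i
  · rfl
  · obtain ⟨h1, _, h3, h4⟩ := ng_facts i
    show (e : ℤ) * HMatDiagAll.expo chevF4 33 (chevF4.neg i.val % chevF4.nroots) +
      HMatDiagAll.expo chevF4 24 (chevF4.neg i.val % chevF4.nroots) =
        - ((e : ℤ) * HMatDiagAll.expo chevF4 33 i.val + HMatDiagAll.expo chevF4 24 i.val)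
    rw [Nat.mod_eq_of_lt h1, h3, h4]
    ring

theorem card_six : (Finset.univ.filter fun s : Fin chevF4.nroots => HMatDiagAll.expo chevF4 33 s.val = 0 ∧
    HMatDiagAll.expo chevF4 24 s.val = 1).card = 6 := by decide +kernel

theorem card_four : (Finset.univ.filter fun s : Fin chevF4.nroots => HMatDiagAll.expo chevF4 33 s.val = 0 ∧
    HMatDiagAll.expo chevF4 24 s.val = 0).card = 4 := by decide +kernel


theorem sub_dvd_symm {p : ℕ} (e : ℕ) (b : ℤ) :
    (Finset.univ.filter fun i : chevF4.Idx => (p : ℤ) ∣ wt2 e i - b).card =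
      (Finset.univ.filter fun i : chevF4.Idx => (p : ℤ) ∣ wt2 e i + b).card := by
  refine Finset.card_bij' (fun i _ => ng i) (fun i _ => ng i) ?_ ?_ (fun i _ => ng_ng i) (fun i _ => ng_ng i)
  · intro i hi
    rw [Finset.mem_filter] at hi ⊢
    refine ⟨Finset.mem_univ _, ?_⟩
    have h1 : wt2 e (ng i) + b = -(wt2 e i - b) := by rw [wt2_ng]; ring
    rw [h1]
    exact (dvd_neg).2 hi.2
  · intro i hi
    rw [Finset.mem_filter] at hi ⊢
    refine ⟨Finset.mem_univ _, ?_⟩
    have h1 : wt2 e (ng i) - b = -(wt2 e i + b) := by rw [wt2_ng]; ring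
    rw [h1]
    exact (dvd_neg).2 hi.2

theorem six_le {p : ℕ} (e : ℕ) : 6 ≤ (Finset.univ.filter fun i : chevF4.Idx => (p : ℤ) ∣ wt2 e i - 1).card := by
  rw [← card_six, ← Finset.card_map (Function.Embedding.inr (α := Fin chevF4.rank) (β := Fin chevF4.nroots))]
  refine Finset.card_le_card ?_
  intro i hi
  rw [Finset.mem_map] at hi
  obtain ⟨s, hs, rfl⟩ := hi
  rw [Finset.mem_filter] at hs ⊢
  refine ⟨Finset.mem_univ _, ?_⟩
  have h1 : wt2 e (Sum.inr s) = 1 := by
    show (e : ℤ) * HMatDiagAll.expo chevF4 33 s.val + HMatDiagAll.expo chevF4 24 s.val = 1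
    rw [hs.2.1, hs.2.2]
    norm_num
  show (p : ℤ) ∣ wt2 e (Sum.inr s) - 1
  rw [h1, sub_self]
  exact dvd_zero _

theorem le_22 {p : ℕ} (hp2 : 2 < p) (e : ℕ) :
    (Finset.univ.filter fun i : chevF4.Idx => (p : ℤ) ∣ wt2 e i - 1).card ≤ 22 := by
  set Z1 := Finset.univ.filter fun i : chevF4.Idx => (p : ℤ) ∣ wt2 e i - 1 with hZ1
  set Z2 := Finset.univ.filter fun i : chevF4.Idx => (p : ℤ) ∣ wt2 e i + 1 with hZ2
  set Z0 := Finset.univ.filter fun i : chevF4.Idx => wt2 e i = 0 with hZ0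
  have h12 : Z1.card = Z2.card := sub_dvd_symm e 1
  have h0 : 8 ≤ Z0.card := by
    have h1 : ((Finset.univ : Finset (Fin chevF4.rank)).map (Function.Embedding.inl (β := Fin chevF4.nroots)) ∪
        (Finset.univ.filter fun s : Fin chevF4.nroots => HMatDiagAll.expo chevF4 33 s.val = 0 ∧
          HMatDiagAll.expo chevF4 24 s.val = 0).map (Function.Embedding.inr (α := Fin chevF4.rank))) ⊆ Z0 := by
      intro i hi
      rw [Finset.mem_union, Finset.mem_map, Finset.mem_map] at hi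
      rw [hZ0, Finset.mem_filter]
      refine ⟨Finset.mem_univ _, ?_⟩
      rcases hi with ⟨s, _, rfl⟩ | ⟨s, hs, rfl⟩
      · rfl
      · rw [Finset.mem_filter] at hs
        show (e : ℤ) * HMatDiagAll.expo chevF4 33 s.val + HMatDiagAll.expo chevF4 24 s.val = 0
        rw [hs.2.1, hs.2.2]
        norm_num
    have h2 := Finset.card_le_card h1
    rw [Finset.card_union_of_disjoint, Finset.card_map, Finset.card_map, card_four, Finset.card_univ, Fintype.card_fin]
      at h2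
    · exact h2
    · rw [Finset.disjoint_left]
      intro i hi hi'
      rw [Finset.mem_map] at hi hi'
      obtain ⟨a, _, rfl⟩ := hi
      obtain ⟨b, _, hb⟩ := hi'
      exact absurd hb (by simp)
  have hd12 : Disjoint Z1 Z2 := by
    rw [Finset.disjoint_left]
    intro i h1 h2
    rw [hZ1, Finset.mem_filter] at h1
    rw [hZ2, Finset.mem_filter] at h2
    have h3 := dvd_sub h2.2 h1.2
    have h4 : wt2 e i + 1 - (wt2 e i - 1) = 2 := by ring
    rw [h4] at h3
    have := Int.le_of_dvd (by norm_num) h3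
    omega
  have hd0 : Disjoint (Z1 ∪ Z2) Z0 := by
    rw [Finset.disjoint_left]
    intro i h1 h2
    rw [hZ0, Finset.mem_filter] at h2
    rw [Finset.mem_union, hZ1, hZ2, Finset.mem_filter, Finset.mem_filter, h2.2] at h1
    have h3 : (p : ℤ) ∣ 1 := by
      rcases h1 with h1 | h1
      · have h4 := h1.2
        rw [zero_sub] at h4
        exact (dvd_neg).1 h4
      · have h4 := h1.2
        rwa [zero_add] at h4
    have := Int.le_of_dvd (by norm_num) h3
    omega
  have h3 := Finset.card_le_univ ((Z1 ∪ Z2) ∪ Z0)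
  rw [Finset.card_union_of_disjoint hd0, Finset.card_union_of_disjoint hd12] at h3
  have h4 : Fintype.card chevF4.Idx = 52 := by
    rw [Fintype.card_sum, Fintype.card_fin, Fintype.card_fin]
    rfl
  omega

theorem prime_ge {p q : ℕ} (hp : p.Prime) (hp7 : 7 < p) (hq : q.Prime) (h7 : 7 ≤ q) (h : q ∣ p - 1) : 22 < p := by
  by_contra h1
  have h2 : p ≤ 22 := by omega
  have h3 : q ≤ p - 1 := Nat.le_of_dvd (by omega) h
  interval_cases p <;> first | (exact absurd hp (by decide)) | skip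
  all_goals
    interval_cases q <;> first | (exact absurd hq (by decide)) | (exact absurd h (by decide))

section rowF

variable {p q : ℕ} [hp : Fact p.Prime] [hq : Fact q.Prime] {S : Type u} [Group S] [Finite S]
    {F : Type v} [Field F] [Finite F] {Ψ : (F ≃+* F) →* MulAut S} {A Φ : Subgroup (MulAut S)} {φ : F ≃+* F}

/-- **`²F₄(Q)`**, `p ∣ Q² - 1`, `Q = |F| = 2 ^ (2 m + 1)` -/
theorem two_twF4 {m : ℕ} (hcF : Nat.card F = 2 ^ (2 * m + 1)) (hpF : (p : F) ≠ 0)
    (hF : FSit p q Ψ A Φ φ) (hinv : InvHyp p A Φ) (hG : Stab (twistedF4 F (2 ^ m))) (π : ↥(twistedF4 F (2 ^ m)) →* S)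
    (hπ : Function.Surjective π) (hker : ∀ z ∈ π.ker, z ∈ center ↥(twistedF4 F (2 ^ m))) (hkp : ¬ p ∣ Nat.card π.ker)
    (hΨ : ∀ (σ : F ≃+* F) (g : ↥(twistedF4 F (2 ^ m))), π (fieldAut hG σ g) = Ψ σ (π g)) (hp7 : 7 < p) (h7 : 7 ≤ q)
    (hqφ : q ∣ orderOf (Nat.card (Fx φ) : ZMod p)) (hpQ : p ∣ Nat.card F ^ 2 - 1) : False := by
  have := Fintype.ofFinite F
  obtain ⟨r, hr⟩ := CharP.exists F
  have hrp : Fact r.Prime := ⟨CharP.char_is_prime F r⟩
  obtain ⟨n, hrn, hn⟩ := FiniteField.card F r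
  have hr2 : r = 2 := by
    have h1 : r ∣ 2 ^ (2 * m + 1) := by
      rw [← hcF, Nat.card_eq_fintype_card, hn]
      exact dvd_pow_self r n.pos.ne'
    exact (Nat.prime_dvd_prime_iff_eq hrp.out Nat.prime_two).1 (hrp.out.dvd_of_dvd_pow h1)
  subst hr2
  have hq23 : 22 < p := by
    refine prime_ge hp.out hp7 hq.out h7 (hqφ.trans (ZMod.orderOf_dvd_card_sub_one ?_))
    rw [Ne, ZMod.natCast_eq_zero_iff]
    have hr0 : CharP (Fx φ) 2 := (algebraMap (Fx φ) F).charP (algebraMap (Fx φ) F).injective 2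
    have := Fintype.ofFinite (Fx φ)
    obtain ⟨a, _, ha⟩ := FiniteField.card (Fx φ) 2
    rw [Nat.card_eq_fintype_card, ha]
    intro h
    have := Nat.le_of_dvd (by norm_num) (hp.out.dvd_of_dvd_pow h)
    omega
  set θ := iterateFrobenius F 2 m with hθ
  have hmem : ∀ g, kap F θ g ∈ twistedF4 F (2 ^ m) := by
    intro g
    have h := mem_closure_SL2 g
    induction h using closure_induction with
    | mem x hx =>
      rcases hx with ⟨t, rfl⟩ | ⟨t, rfl⟩
      · rw [kap_apply, map_up, psi_up inF4 (by decide +kernel), psi_up inF4 (by decide +kernel), iterateFrobenius_def]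
        have h1 : xG inF4 33 (t ^ 2 ^ m) * xG inF4 24 t = wordG inF4 [(33, t ^ 2 ^ m), (24, t)] := by
          rw [wordG_cons, wordG_cons, wordG_nil, mul_one]
        rw [h1]
        exact wordG_mem_gen inF4 (Or.inl ⟨t, Or.inl rfl⟩)
      · rw [kap_apply, map_lo, psi_lo inF4 (by decide +kernel), psi_lo inF4 (by decide +kernel), iterateFrobenius_def]
        have e1 : chevF4.neg 33 = 14 := by decide +kernel
        have e2 : chevF4.neg 24 = 23 := by decide +kernel
        rw [e1, e2]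
        have h1 : xG inF4 14 (t ^ 2 ^ m) * xG inF4 23 t = wordG inF4 [(14, t ^ 2 ^ m), (23, t)] := by
          rw [wordG_cons, wordG_cons, wordG_nil, mul_one]
        rw [h1]
        exact wordG_mem_gen inF4 (Or.inl ⟨t, Or.inr rfl⟩)
    | one => rw [map_one]; exact one_mem _
    | mul x y _ _ hx hy => rw [map_mul]; exact mul_mem hx hy
    | inv x _ hx => rw [map_inv]; exact inv_mem hx
  have hE1 : ∃ i, ¬ (p : ℤ) ∣ wt2 (2 ^ m) i := by
    have h1 := six_le (p := p) (2 ^ m)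
    obtain ⟨i, hi⟩ := Finset.card_pos.1 (lt_of_lt_of_le (by norm_num) h1)
    rw [Finset.mem_filter] at hi
    refine ⟨i, fun h2 => ?_⟩
    have h3 := dvd_sub h2 hi.2
    rw [sub_sub_cancel] at h3
    have := Int.le_of_dvd (by norm_num) h3
    omega
  refine two_many inF4 hpF hF hinv (gen_le_group inF4 _) hG π hπ hker hkp hΨ hp7 hqφ (Q := Nat.card F) (e := 1)
    (pow_one _).symm (not_dvd_small hp7 one_ne_zero (by norm_num)) hpQ (k₀ := F) (Nat.card_eq_fintype_card).symm hmem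
    (hasWt_kap hp.out (by omega)) hE1 (by omega) (a := 1) ?_ (N := 6) (by norm_num) (six_le _)
    (lt_of_le_of_lt (le_22 (by omega) _) hq23) (fun b => sub_dvd_symm _ b) ?_
  · intro h
    have := Int.le_of_dvd (by norm_num) h
    omega
  · have h4 : Fintype.card chevF4.Idx = 52 := by
      rw [Fintype.card_sum, Fintype.card_fin, Fintype.card_fin]
      rfl
    omega

end rowF

end Cfsg.Agent.H754.PQ
end

-- part: H54/PQ/TwoGlue
section
/-!
# S4981: the case `u² = 1` modulo `p` of the exceptional groups, in the form of `H660/PQ` (helper54)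
-/

set_option autoImplicit false

open Cfsg Subgroup

namespace Cfsg.Agent.H54.PQ.TwoGlue

open Cfsg.Lie Cfsg.Agent.ChevalleyStructure Cfsg.Agent.ChevalleyStructure.Elts
  Cfsg.Agent.ChevalleyStructure.CoxeterGeomTypes Cfsg.Agent.Nodes.RGDChev Cfsg.Agent.H54.PQ Cfsg.Agent.H754.PQ
  Cfsg.Agent.H967.CopMat Cfsg.Agent.H967.CopChev Cfsg.Agent.H967.FaBase Cfsg.Agent.H55.PQ.Red Cfsg.Agent.H660.PQ
  Cfsg.Agent.H967.CopTw Cfsg.Agent.H967.CopSz Cfsg.Agent.H967.FaTw

open scoped MatrixGroups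

theorem dvd_of_sq {p n : ℕ} (hn : 0 < n) (h : ((n : ℕ) : ZMod p) ^ 2 = 1) : p ∣ n ^ 2 - 1 := by
  have h1 : 1 ≤ n ^ 2 := Nat.one_le_pow _ _ hn
  rw [← ZMod.natCast_eq_zero_iff, Nat.cast_sub h1]
  push_cast
  rw [h, sub_self]

theorem twoChev {D : ChevalleyDatum} (hD : InList D) (hL : ∃ r, LongOK D r) : TwoChev D := by
  intro p q _ _ F _ _ h7 h3 hpF hqG hpG A Φ φ hφ hFS hinv hord h2
  have h5 : 5 ≤ q := by
    have hq : q.Prime := Fact.out
    have h4 : q ≠ 4 := by rintro rfl; exact absurd hq (by decide)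
    omega
  refine two_chev (Ψ := fieldAut (stab_group D F)) hD hL hpF hFS hinv (stab_group D F) (MonoidHom.id _)
    Function.surjective_id ?_ ?_ ?_ h7 h5 hord (dvd_of_sq Nat.card_pos h2)
  · intro z hz
    have : z = 1 := hz
    rw [this]; exact one_mem _
  · rw [MonoidHom.ker_id, Subgroup.card_bot]
    exact fun h => by have := Nat.le_of_dvd one_pos h; omega
  · intro σ g
    rfl

theorem twoTwE6 : TwoTwE6 := by
  intro p q _ _ F _ _ q₁ hq₁ hF hpF h7 h3 hqG hpG A Φ φ hφ hFS hinv hord h2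
  have h5 : 5 ≤ q := by
    have hq : q.Prime := Fact.out
    have h4 : q ≠ 4 := by rintro rfl; exact absurd hq (by decide)
    omega
  refine two_twE6 (Ψ := fieldAut (stab_e6 (K := F) q₁)) hq₁ (by rw [Nat.card_eq_fintype_card, hF]) hpF hFS hinv
    (stab_e6 (K := F) q₁) (MonoidHom.id _)
    Function.surjective_id ?_ ?_ ?_ h7 h5 hord (dvd_of_sq hq₁.pos h2)
  · intro z hz
    have : z = 1 := hz
    rw [this]; exact one_mem _
  · rw [MonoidHom.ker_id, Subgroup.card_bot]
    exact fun h => by have := Nat.le_of_dvd one_pos h; omega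
  · intro σ g
    rfl

theorem twoTwD4 : TwoTwD4 := by
  intro p q _ _ F _ _ q₁ hq₁ hF hpF h7 h3 hqG hpG A Φ φ hφ hFS hinv hord h2
  have h5 : 5 ≤ q := by
    have hq : q.Prime := Fact.out
    have h4 : q ≠ 4 := by rintro rfl; exact absurd hq (by decide)
    omega
  refine two_twD4 (Ψ := fieldAut (stab_d4 (K := F) q₁)) hq₁ (by rw [Nat.card_eq_fintype_card, hF]) hpF hFS hinv
    (stab_d4 (K := F) q₁) (MonoidHom.id _)
    Function.surjective_id ?_ ?_ ?_ h7 h5 hord (dvd_of_sq hq₁.pos h2)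
  · intro z hz
    have : z = 1 := hz
    rw [this]; exact one_mem _
  · rw [MonoidHom.ker_id, Subgroup.card_bot]
    exact fun h => by have := Nat.le_of_dvd one_pos h; omega
  · intro σ g
    rfl

theorem twoTwF4 : TwoTwF4 := by
  intro p q _ _ F _ _ m hm hF hpF h7 h3 hqG hpG A Φ φ hφ hFS hinv hord h2
  have hcard := S1068.result (K := F) hF
  have h5 : 5 ∣ Nat.card ↥(twistedF4 F (2 ^ m)) := by
    rw [hcard]
    have h5 : 5 ∣ (2 ^ (2 * m + 1)) ^ 4 - 1 := by
      rcases Cfsg.Agent.H967.FaChev.pow_dvd_of Nat.prime_five (q := 2 ^ (2 * m + 1)) (k := 4) (by positivity)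
        (by norm_num) with h | h
      · exact absurd ((Nat.prime_dvd_prime_iff_eq Nat.prime_five Nat.prime_two).1
          (Nat.prime_five.dvd_of_dvd_pow h)) (by norm_num)
      · exact h
    exact (h5.mul_left _).mul_right _
  have h7q : 7 ≤ q := by
    have hq : q.Prime := Fact.out
    have h4 : q ≠ 4 := by rintro rfl; exact absurd hq (by decide)
    have h6 : q ≠ 6 := by rintro rfl; exact absurd hq (by decide)
    have h55 : q ≠ 5 := by rintro rfl; exact hqG h5
    omega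
  refine two_twF4 (Ψ := fieldAut (stab_f4 (K := F) (2 ^ m))) (by rw [Nat.card_eq_fintype_card, hF]) hpF hFS hinv
    (stab_f4 (K := F) (2 ^ m)) (MonoidHom.id _)
    Function.surjective_id ?_ ?_ ?_ h7 h7q hord (dvd_of_sq Nat.card_pos h2)
  · intro z hz
    have : z = 1 := hz
    rw [this]; exact one_mem _
  · rw [MonoidHom.ker_id, Subgroup.card_bot]
    exact fun h => by have := Nat.le_of_dvd one_pos h; omega
  · intro σ g
    rfl

universe u

/-- **the exceptional Chevalley groups in cross characteristic** -/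
theorem row_chev_cross {p q r : ℕ} (hpr : p ≠ r) {G : Type u} [Group G] [Finite G]
    (hG : IsExceptionalChevChar r G) : SFact p q G :=
  row_chev_cross_of (twoChev (by simp [InList]) ⟨_, longOK_G2⟩) (twoChev (by simp [InList]) ⟨_, longOK_F4⟩)
    (twoChev (by simp [InList]) ⟨_, longOK_E6⟩) (twoChev (by simp [InList]) ⟨_, longOK_E7⟩)
    (twoChev (by simp [InList]) ⟨_, longOK_E8⟩) hpr hG

/-- **`²E₆(q)` and `³D₄(q)` in cross characteristic** -/
theorem row_tw_cross {p q r : ℕ} (hpr : p ≠ r) {G : Type u} [Group G] [Finite G]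
    (hG : IsTwistedE6D4Char r G) : SFact p q G :=
  row_tw_cross_of twoTwE6 twoTwD4 hpr hG

/-- **`²F₄(q)` in cross characteristic** -/
theorem row_tf4_cross {p q : ℕ} (hcent : CentTwF4) (hp2 : p ≠ 2) {G : Type u} [Group G] [Finite G]
    (hG : Lie.Iso2F4 G) : SFact p q G :=
  row_tf4_cross_of twoTwF4 hcent hp2 hG

end Cfsg.Agent.H54.PQ.TwoGlue
end

private theorem dce_a282c9f42438 : _root_.True := by
  try have : _root_.True := by simp only [_root_.Cfsg.Agent.H754.PQ.SLTwo.dg.eq_1]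
  exact _root_.True.intro
end

-- part: H219/PQ/Orth_mg
section
prune_inst 0x3140714563e20008001d2002020022b1510004b000440000c0860a44080960208802204102a011160228808100050048110000400200000000000400000101208880020471c10008c60009000100010000000000000000000000000000000004004010000
set_option linter.all false
open scoped Cfsg.Agent.FastGrp

-- part: H219/PQ/Orth
section
/-!
# S4981: orthogonal groups, cross characteristic (helper219)

* `centSyl_of_fix` : the fixed points of `α` contain a Sylow `p`-subgroup;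
* `dvd_order` : `φ` of order a power of `q`, `φ x = x ^ r ^ n`: `q` divides the order of `r ^ n` modulo `p` if it divides
  the order of `|Fx φ|`;
* `small_orth` : no example if the dimension is less than `q` (engine of helper754).
-/

set_option autoImplicit false
set_option linter.unusedSectionVars false

namespace Cfsg.Agent.H219.PQ

open Cfsg Matrix QuadraticMap Subgroup Cfsg.Agent.H254 Cfsg.Agent.H967.CopMat Cfsg.Agent.H967.CopSec
open Cfsg.Agent.LieClassical.OrthTrans Cfsg.Agent.ClassicalGeometry.OrthSemi Cfsg.Agent.LieClassical.OrthSimple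
  Cfsg.Agent.H198.OrthFrame Cfsg.Agent.H198.ExtForm Cfsg.Agent.H198.Carriers Cfsg.Agent.H185.OrthCent
  Cfsg.Agent.H185.MinusField Cfsg.Agent.H24.FixOrth Cfsg.Agent.H476.FieldOrth
open Cfsg.Agent.H54.PQ Cfsg.Agent.H754.PQ

universe u v

/-- the fixed points of `α` contain a Sylow `p`-subgroup -/
theorem centSyl_of_fix {p : ℕ} [hp : Fact p.Prime] {S : Type u} [Group S] [Finite S] (α : MulAut S)
    (h : p ^ (Nat.card S).factorization p ∣ Nat.card ↥(Cfsg.Agent.H967.CopSec.Fix α)) : CentSyl p (Subgroup.zpowers α) := by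
  obtain ⟨K, hK⟩ := Sylow.exists_subgroup_card_pow_prime p h
  set K' : Subgroup S := K.map (Cfsg.Agent.H967.CopSec.Fix α).subtype with hK'
  have h1 : Nat.card K' = p ^ (Nat.card S).factorization p := by
    rw [hK', Subgroup.card_map_of_injective (Cfsg.Agent.H967.CopSec.Fix α).subtype_injective, hK]
  refine ⟨Sylow.ofCard K' h1, ?_⟩
  intro f hf x hx
  have h2 : x ∈ K' := hx
  obtain ⟨y, -, rfl⟩ := h2
  have h3 : α y.1 = y.1 := y.2
  obtain ⟨k, rfl⟩ := mem_zpowers_iff.1 hf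
  have h4 : α ∈ MulAction.stabilizer (MulAut S) y.1 := h3
  exact (MulAction.stabilizer (MulAut S) y.1).zpow_mem h4 k

section order

variable {F : Type u} [Field F] [Finite F] {r : ℕ} [hr : Fact r.Prime] [CharP F r]

/-- the exponents -/
theorem exists_pow {φ : F ≃+* F} {n : ℕ} (hn : ∀ x, φ x = x ^ r ^ n) :
    ∃ t : ℕ, r ^ n = Nat.card (Fx φ) ^ t := by
  have := Fintype.ofFinite F
  have : Fintype (Fx φ) := Fintype.ofFinite _
  have : CharP (Fx φ) r := charP_of_injective_algebraMap (algebraMap (Fx φ) F).injective r |> fun _ => by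
    exact (RingHom.charP_iff (Fx φ).subtype (Fx φ).subtype.injective r).2 inferInstance
  obtain ⟨f₀, -, hf₀⟩ := FiniteField.card (Fx φ) r
  obtain ⟨g, hg⟩ := IsCyclic.exists_generator (α := (Fx φ)ˣ)
  have h1 : orderOf g = r ^ (f₀ : ℕ) - 1 := by
    rw [orderOf_eq_card_of_forall_mem_zpowers hg, Nat.card_units, Nat.card_eq_fintype_card, hf₀]
  have h2 : g ^ (r ^ n - 1) = 1 := by
    have h3 : (g : Fx φ) ^ r ^ n = g := by
      apply Subtype.ext
      rw [SubmonoidClass.coe_pow, ← hn]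
      exact (g : Fx φ).2
    apply Units.ext
    rw [Units.val_pow_eq_pow_val, Units.val_one]
    have h4 : (g : Fx φ) ≠ 0 := g.ne_zero
    apply mul_right_cancel₀ h4
    rw [← pow_succ, Nat.sub_add_cancel (Nat.one_le_pow _ _ hr.out.pos), h3, one_mul]
  have h3 : r ^ (f₀ : ℕ) - 1 ∣ r ^ n - 1 := by
    rw [← h1]; exact orderOf_dvd_of_pow_eq_one h2
  have h4 : (f₀ : ℕ) ∣ n := by
    have h5 := Nat.pow_sub_one_gcd_pow_sub_one r f₀ n
    rw [Nat.gcd_eq_left h3] at h5
    have h6 : r ^ (f₀ : ℕ) = r ^ Nat.gcd f₀ n := by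
      have h7 := Nat.one_le_pow (f₀ : ℕ) r hr.out.pos
      have h8 := Nat.one_le_pow (Nat.gcd f₀ n) r hr.out.pos
      omega
    exact Nat.gcd_eq_left_iff_dvd.1 (Nat.pow_right_injective hr.out.two_le h6.symm)
  obtain ⟨t, rfl⟩ := h4
  exact ⟨t, by rw [Nat.card_eq_fintype_card, hf₀, pow_mul]⟩

theorem iter_pow {φ : F ≃+* F} {N : ℕ} (hn : ∀ x, φ x = x ^ N) (k : ℕ) (x : F) : (φ ^ k) x = x ^ N ^ k := by
  induction k with
  | zero => simp
  | succ k ih => rw [pow_succ', RingAut.mul_apply, hn, ih, ← pow_mul, ← pow_succ]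

theorem pow_card_pow (x : F) (t : ℕ) : x ^ Nat.card F ^ t = x := by
  have := Fintype.ofFinite F
  rw [Nat.card_eq_fintype_card]
  exact FiniteField.pow_card_pow t x

theorem dvd_order {p q : ℕ} (hq : q.Prime) {φ : F ≃+* F} (h1 : φ ≠ 1) (hφ : ∃ k : ℕ, orderOf φ = q ^ k) {n : ℕ}
    (hn : ∀ x, φ x = x ^ r ^ n) (h : q ∣ orderOf (Nat.card (Fx φ) : ZMod p)) :
    q ∣ orderOf ((r ^ n : ℕ) : ZMod p) := by
  obtain ⟨t, ht⟩ := exists_pow hn
  obtain ⟨k, hk⟩ := hφ
  have hqt : ¬ q ∣ t := by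
    rintro ⟨t', rfl⟩
    cases k with
    | zero => exact h1 (orderOf_eq_one_iff.1 (by rw [hk, pow_zero]))
    | succ k =>
      have h2 : φ ^ q ^ k = 1 := by
        ext x
        rw [iter_pow hn, ht]
        have h3 : (Nat.card (Fx φ) ^ (q * t')) ^ q ^ k = Nat.card F ^ t' := by
          rw [card_Fx φ, hk, ← pow_mul, ← pow_mul]
          congr 1
          ring
        rw [h3, pow_card_pow]
        rfl
      have h3 := orderOf_dvd_of_pow_eq_one h2
      rw [hk] at h3
      have h4 := Nat.le_of_dvd (pow_pos hq.pos _) h3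
      rw [pow_succ] at h4
      have h5 := pow_pos hq.pos k
      have h6 := hq.two_le
      nlinarith
  rw [ht, Nat.cast_pow]
  set x : ZMod p := (Nat.card (Fx φ) : ZMod p)
  have h3 : t ≠ 0 := by rintro rfl; exact hqt (dvd_zero _)
  have h2 : orderOf x = orderOf (x ^ t) * Nat.gcd (orderOf x) t := by
    rw [orderOf_pow' x h3, Nat.div_mul_cancel (Nat.gcd_dvd_left _ _)]
  rw [h2] at h
  rcases hq.dvd_mul.1 h with h4 | h4
  · exact h4
  · exact absurd (h4.trans (Nat.gcd_dvd_right _ _)) hqt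

end order

section small

variable {ι : Type} [Fintype ι] [DecidableEq ι] [Nonempty ι] {F : Type} [Field F] [Finite F]
  {Q : QuadraticForm F (ι → F)}

/-- `Ω(Q)` as a matrix group -/
def omRho (Q : QuadraticForm F (ι → F)) : ↥(Omega F ⇑Q) →* GL ι F :=
  (isometryGroup F ⇑Q).subtype.comp (Omega F ⇑Q).subtype

theorem omRho_injective : Function.Injective (omRho Q) := by
  intro a b h
  exact Subtype.ext (Subtype.ext h)

/-- the central elements of `Ω(Q)` are involutions -/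
theorem sq_of_mem_center (hG : Good Q) {z : ↥(Omega F ⇑Q)} (hz : z ∈ center ↥(Omega F ⇑Q)) : z ^ 2 = 1 := by
  have h1 : S hG (omSim Q z) = 1 := by
    ((conv => enter [@2]; rw [S_omSim]); simp only [(QuotientGroup.eq_one_iff z).2 hz]; simp only [map_one])
  obtain ⟨a, ha⟩ := (S_eq_one_iff hG _).1 h1
  obtain ⟨v, hv⟩ := H198.ClassesPlus.exists_ne_zero_of_good hG
  have h2 : (omRho Q z : Matrix ι ι F) = (a : F) • (1 : Matrix ι ι F) := ha
  have h3 : Q ((omRho Q z : Matrix ι ι F) *ᵥ v) = Q v := (z : isometryGroup F ⇑Q).2 v v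
  rw [h2, Matrix.smul_mulVec, one_mulVec, QuadraticMap.map_smul, smul_eq_mul] at h3
  have h4 : (a : F) * a = 1 := by
    have h5 : ((a : F) * a - 1) * Q v = 0 := by rw [sub_mul, h3, one_mul, sub_self]
    rcases mul_eq_zero.1 h5 with h6 | h6
    · exact sub_eq_zero.1 h6
    · exact absurd h6 hv
  apply omRho_injective
  rw [map_pow, map_one]
  apply Units.ext
  rw [Units.val_pow_eq_pow_val, h2, pow_two, smul_mul_smul_comm, h4, one_smul, one_mul, Units.val_one]

theorem not_dvd_ker (hG : Good Q) {p : ℕ} (hp : p.Prime) (hp2 : p ≠ 2) :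
    ¬ p ∣ Nat.card (QuotientGroup.mk' (center ↥(Omega F ⇑Q))).ker := by
  intro h
  have := Fact.mk hp
  obtain ⟨z, hz⟩ := exists_prime_orderOf_dvd_card' p h
  have h0 : ∀ x ∈ (QuotientGroup.mk' (center ↥(Omega F ⇑Q))).ker, x ∈ center ↥(Omega F ⇑Q) := by
    intro x hx
    rwa [QuotientGroup.ker_mk'] at hx
  have h1 : z.1 ^ 2 = 1 := sq_of_mem_center hG (h0 z.1 z.2)
  have h2 : z ^ 2 = 1 := Subtype.ext h1
  have h3 := orderOf_dvd_of_pow_eq_one h2
  rw [hz] at h3
  exact hp2 ((Nat.prime_dvd_prime_iff_eq hp Nat.prime_two).1 h3)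

/-- the field automorphisms are semilinear -/
theorem exists_frob_lift (hG : Good Q) {σ : F ≃+* F} (hσ : H185.OrthCent.Fix σ Q) (y : ↥(Omega F ⇑Q)) :
    ∃ y' : ↥(Omega F ⇑Q), omRho Q y' = Matrix.GeneralLinearGroup.map (σ : F →+* F) (omRho Q y) ∧
      (QuotientGroup.mk y' : POmega F ⇑Q) = Phi hG (frobG hσ) (QuotientGroup.mk y) := by
  (have h_ob := H198.OrthFrame.exists_conj hG (frobG hσ) y
   revert h_ob; rintro (⟨y', hy'⟩))
  refine ⟨y', ?_, (Phi_mk hG _ hy').symm⟩
  apply Units.ext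
  rw [← Matrix.mulVec_injective.eq_iff]
  funext v
  have h1 := hy' (fun i => σ.symm (v i))
  rw [frobG_apply, frobG_apply] at h1
  have h2 : (fun i => σ (σ.symm (v i))) = v := by
    funext i
    rw [RingEquiv.apply_symm_apply]
  rw [h2] at h1
  refine h1.trans ?_
  funext i
  simp only [Matrix.mulVec, dotProduct, map_sum, map_mul, RingEquiv.apply_symm_apply]
  rfl

theorem semi_frob (hG : Good Q) {σ : F ≃+* F} (hσ : H185.OrthCent.Fix σ Q) :
    Semi (omRho Q) (QuotientGroup.mk' (center ↥(Omega F ⇑Q))) (Phi hG (frobG hσ)) σ 1 := by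
  intro y
  (have h_ob := exists_frob_lift hG hσ y
   revert h_ob; rintro (⟨y', h1, h2⟩))
  exact ⟨y', by rw [h1, one_mul, inv_one, mul_one], h2⟩

theorem semi_conj (hG : Good Q) {σ : F ≃+* F} (hσ : H185.OrthCent.Fix σ Q) (s : POmega F ⇑Q) :
    ∃ g : GL ι F, Semi (omRho Q) (QuotientGroup.mk' (center ↥(Omega F ⇑Q)))
      (MulAut.conj s * Phi hG (frobG hσ)) σ g := by
  (have h_ob := QuotientGroup.mk_surjective s
   revert h_ob; rintro (⟨t, rfl⟩))
  refine ⟨omRho Q t, fun y => ?_⟩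
  (have h_ob := exists_frob_lift hG hσ y
   revert h_ob; rintro (⟨y', h1, h2⟩))
  refine ⟨t * y' * t⁻¹, by simp only [_root_.MonoidHom.map_mul, _root_.MonoidHom.map_mul, _root_.MonoidHom.map_inv, h1], ?_⟩
  ((conv => enter [@3]; rw [MulAut.mul_apply]); (conv => enter [@3]; rw [MulAut.conj_apply]))
  change (QuotientGroup.mk (t * y' * t⁻¹) : POmega F ⇑Q) = _
  ((conv => enter [@2]; rw [QuotientGroup.mk_mul]); (conv => enter [@2, @5]; rw [QuotientGroup.mk_mul]); (conv => enter [@2, @6]; rw [QuotientGroup.mk_inv]); (conv => enter [@2, @5, @6]; rw [h2]))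
  rfl

/-- **no example in dimension less than `q`** -/
theorem small_orth (hG : Good Q) (Γ : Subgroup (F ≃+* F)) (hΓ : ∀ σ ∈ Γ, H185.OrthCent.Fix σ Q) {p q r : ℕ}
    [hp : Fact p.Prime] [hr : Fact r.Prime] [CharP F r] (hq : q.Prime) (hpr : p ≠ r) (hp2 : p ≠ 2)
    {A Φ : Subgroup (MulAut (POmega F ⇑Q))} {φ : ↥Γ} (h1 : φ ≠ 1)
    (hF : FSit p q ((Phi hG).comp (frobHom Γ hΓ)) A Φ φ) (hinv : InvHyp p A Φ) (hι : Fintype.card ι < q)
    (hpS : p ∣ Nat.card (POmega F ⇑Q)) (hqo : q ∣ orderOf (Nat.card (Fx φ.1) : ZMod p)) : False := by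
  have hfin : Finite (POmega F ⇑Q) := inferInstance
  obtain ⟨n, hn⟩ := exists_frob F r φ.1
  have hφ1 : φ.1 ≠ 1 := fun h => h1 (Subtype.ext h)
  have hφk : ∃ k : ℕ, orderOf φ.1 = q ^ k := by
    obtain ⟨k, hk⟩ := hF.φ
    exact ⟨k, by rw [← hk]; exact Subgroup.orderOf_coe φ⟩
  have hf : Phi hG (frobG (hΓ φ.1 φ.2)) ∈ Φ := by
    rw [hF.Φ]
    exact Subgroup.mem_zpowers _
  refine row_small_of (S' := ↥(Omega F ⇑Q)) (ρ := omRho Q) (π := QuotientGroup.mk' (center ↥(Omega F ⇑Q)))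
    hp2 hq hF.pA ?_ omRho_injective (QuotientGroup.mk'_surjective _) ?_ (not_dvd_ker hG hp.out hp2) ?_ hf hpr hn
    (semi_frob hG (hΓ φ.1 φ.2)) (dvd_order hq hφ1 hφk hn hqo) hι ?_
  · intro x hx hpow f hf hpow' β hβ hβA
    exact Cfsg.Agent.H95.PQ.congr_main hp2 hF.pA hinv hx hpow hβ hβA hf hpow'
  · intro z hz
    rwa [QuotientGroup.ker_mk'] at hz
  · intro a ha
    obtain ⟨s, γ, k, -, rfl⟩ := hF.a a ha
    (have h_ob := semi_conj hG (hΓ γ.1 γ.2) s
     revert h_ob; rintro (⟨g, hg⟩))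
    exact ⟨γ.1, g, hg⟩
  · exact hpS.trans (Subgroup.card_dvd_of_surjective (QuotientGroup.mk' (center ↥(Omega F ⇑Q)))
      (QuotientGroup.mk'_surjective _))

theorem not_dvd_fx {p r : ℕ} (hp : p.Prime) [hr : Fact r.Prime] [CharP F r] (hpr : p ≠ r) (σ : F ≃+* F) :
    ¬ p ∣ Nat.card (Fx σ) := by
  intro h
  have := Fintype.ofFinite F
  have hfin : Finite (F ≃+* F) := Finite.of_injective (fun f : F ≃+* F => (f : F → F)) DFunLike.coe_injective
  obtain ⟨f, -, hf⟩ := FiniteField.card F r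
  have h1 : p ∣ Nat.card F := by
    rw [card_Fx σ]
    exact dvd_pow h (orderOf_pos σ).ne'
  rw [Nat.card_eq_fintype_card, hf] at h1
  exact hpr ((Nat.prime_dvd_prime_iff_eq hp hr.out).1 (hp.dvd_of_dvd_pow h1))

end small

end Cfsg.Agent.H219.PQ
end

-- part: H219/PQ/Arith
section
/-!
# S4981: arithmetic (helper219)

`q₀` prime to `p`, `q` prime not dividing the order of `q₀` modulo `p`: `q₀ ^ (i q ^ j) - 1` and `q₀ ^ i - 1` have the
same `p`-part; the same for `+ 1`.
-/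

set_option autoImplicit false

namespace Cfsg.Agent.H219.PQ.Arith

theorem pow_sub_one {p q : ℕ} (hp : p.Prime) (hq : q.Prime) (hpq : p ≠ q) {q₀ : ℕ} (h1 : 1 < q₀)
    (h0 : ¬ p ∣ q₀) (hd : ¬ q ∣ orderOf (q₀ : ZMod p)) (j i : ℕ) (hi : i ≠ 0) :
    ((q₀ ^ q ^ j) ^ i - 1).factorization p = (q₀ ^ i - 1).factorization p := by
  have := Fact.mk hp
  have e0 : (q₀ ^ q ^ j) ^ i = (q₀ ^ i) ^ q ^ j := by rw [← pow_mul, ← pow_mul, mul_comm]
  rw [e0]
  have hx1 : 1 < q₀ ^ i := Nat.one_lt_pow hi h1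
  by_cases hpx : p ∣ q₀ ^ i - 1
  · set x := q₀ ^ i with hx
    have e1 : x ^ q ^ j - 1 = (x - 1) * ∑ k ∈ Finset.range (q ^ j), x ^ k := by
      have h2 := Nat.geomSum_eq (m := x) (by omega) (q ^ j)
      have h3 : x - 1 ∣ x ^ q ^ j - 1 := by
        have := Nat.sub_dvd_pow_sub_pow x 1 (q ^ j)
        rwa [one_pow] at this
      rw [h2, Nat.mul_div_cancel' h3]
    have hS : ¬ p ∣ ∑ k ∈ Finset.range (q ^ j), x ^ k := by
      intro h
      have h2 : ((∑ k ∈ Finset.range (q ^ j), x ^ k : ℕ) : ZMod p) = 0 := (ZMod.natCast_eq_zero_iff _ _).2 h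
      have h3 : (x : ZMod p) = 1 := by
        have h4 : ((x - 1 : ℕ) : ZMod p) = 0 := (ZMod.natCast_eq_zero_iff _ _).2 hpx
        rw [Nat.cast_sub hx1.le, Nat.cast_one] at h4
        exact sub_eq_zero.1 h4
      push_cast at h2
      rw [h3] at h2
      simp only [one_pow, Finset.sum_const, Finset.card_range, nsmul_eq_mul, mul_one] at h2
      have h4 : p ∣ q ^ j := (ZMod.natCast_eq_zero_iff _ _).1 h2
      exact hpq ((Nat.prime_dvd_prime_iff_eq hp hq).1 (hp.dvd_of_dvd_pow h4))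
    have hS0 : ∑ k ∈ Finset.range (q ^ j), x ^ k ≠ 0 := fun h => hS (by rw [h]; exact dvd_zero p)
    rw [e1, Nat.factorization_mul (by omega) hS0, Finsupp.add_apply, Nat.factorization_eq_zero_of_not_dvd hS, add_zero]
  · rw [Nat.factorization_eq_zero_of_not_dvd hpx, Nat.factorization_eq_zero_of_not_dvd]
    intro h
    apply hpx
    have hX1 : 1 < (q₀ ^ i) ^ q ^ j := Nat.one_lt_pow (pow_ne_zero _ hq.ne_zero) hx1
    have h2 : ((q₀ : ZMod p) ^ i) ^ q ^ j = 1 := by
      have h4 : (((q₀ ^ i) ^ q ^ j - 1 : ℕ) : ZMod p) = 0 := (ZMod.natCast_eq_zero_iff _ _).2 h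
      rw [Nat.cast_sub hX1.le, Nat.cast_one] at h4
      push_cast at h4
      exact sub_eq_zero.1 h4
    have h3 : orderOf ((q₀ : ZMod p) ^ i) ∣ q ^ j := orderOf_dvd_of_pow_eq_one h2
    have h4 : orderOf ((q₀ : ZMod p) ^ i) ∣ orderOf (q₀ : ZMod p) := orderOf_pow_dvd i
    obtain ⟨k, -, hk⟩ := (Nat.dvd_prime_pow hq).1 h3
    have h5 : k = 0 := by
      by_contra hk0
      apply hd
      exact ((dvd_pow_self q hk0).trans hk.symm.dvd).trans h4
    rw [h5, pow_zero] at hk
    have h6 : (q₀ : ZMod p) ^ i = 1 := orderOf_eq_one_iff.1 hk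
    rw [← ZMod.natCast_eq_zero_iff, Nat.cast_sub hx1.le, Nat.cast_one]
    push_cast
    rw [h6, sub_self]

theorem fact_sq {p x : ℕ} (hx : 1 < x) :
    (x ^ 2 - 1).factorization p = (x + 1).factorization p + (x - 1).factorization p := by
  have h1 : x ^ 2 - 1 = (x + 1) * (x - 1) := by
    have := Nat.sq_sub_sq x 1
    rwa [one_pow] at this
  rw [h1, Nat.factorization_mul (by omega) (by omega), Finsupp.add_apply]

theorem pow_add_one {p q : ℕ} (hp : p.Prime) (hq : q.Prime) (hpq : p ≠ q) {q₀ : ℕ} (h1 : 1 < q₀)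
    (h0 : ¬ p ∣ q₀) (hd : ¬ q ∣ orderOf (q₀ : ZMod p)) (j i : ℕ) (hi : i ≠ 0) :
    ((q₀ ^ q ^ j) ^ i + 1).factorization p = (q₀ ^ i + 1).factorization p := by
  have a1 := pow_sub_one hp hq hpq h1 h0 hd j i hi
  have a2 := pow_sub_one hp hq hpq h1 h0 hd j (i * 2) (by omega)
  have hx1 : 1 < q₀ ^ i := Nat.one_lt_pow hi h1
  have hX1 : 1 < (q₀ ^ q ^ j) ^ i := Nat.one_lt_pow hi (Nat.one_lt_pow (pow_ne_zero _ hq.ne_zero) h1)
  rw [pow_mul, pow_mul, fact_sq hx1, fact_sq hX1] at a2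
  omega

theorem lt_of_dvd_order {p q : ℕ} (hp : p.Prime) {c : ℕ} (hc : ¬ p ∣ c) (hd : q ∣ orderOf (c : ZMod p)) :
    q ∣ p - 1 ∧ q < p := by
  have := Fact.mk hp
  have h1 : (c : ZMod p) ≠ 0 := by rwa [Ne, ZMod.natCast_eq_zero_iff]
  have h2 : q ∣ p - 1 := hd.trans (ZMod.orderOf_dvd_card_sub_one h1)
  have h3 := hp.one_lt
  have h4 := Nat.le_of_dvd (by omega) h2
  exact ⟨h2, by omega⟩

end Cfsg.Agent.H219.PQ.Arith
end
end
end

-- part: H219/PQ/Ominus_mg
section
set_option linter.all false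
open scoped Cfsg.Agent.FastGrp

-- part: H219/PQ/OrthRow
section
/-!
# S4981: orthogonal groups, cross characteristic: the generic row (helper219)
-/

set_option autoImplicit false
set_option linter.unusedSectionVars false

namespace Cfsg.Agent.H219.PQ

open Cfsg Matrix QuadraticMap Subgroup Cfsg.Agent.H254 Cfsg.Agent.H967.CopMat Cfsg.Agent.H967.CopSec
open Cfsg.Agent.LieClassical.OrthTrans Cfsg.Agent.ClassicalGeometry.OrthSemi Cfsg.Agent.LieClassical.OrthSimple
  Cfsg.Agent.H198.OrthFrame Cfsg.Agent.H198.ExtForm Cfsg.Agent.H198.Carriers Cfsg.Agent.H185.OrthCent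
  Cfsg.Agent.H185.MinusField Cfsg.Agent.H24.FixOrth Cfsg.Agent.H476.FieldOrth
open Cfsg.Agent.H54.PQ Cfsg.Agent.H754.PQ Cfsg.Agent.H55.PQ.Red

variable {ι : Type} [Fintype ι] [DecidableEq ι] [Nonempty ι] {F : Type} [Field F] [Finite F]
  {Q : QuadraticForm F (ι → F)}

/-- **the generic row** (cross characteristic) -/
theorem row_orth (hG : Good Q) [IsSimpleGroup (POmega F ⇑Q)]
    (hna : ¬ IsMulCommutative (POmega F ⇑Q)) (hsolv : Group.IsSolvable (Out (POmega F ⇑Q)))
    (Γ : Subgroup (F ≃+* F)) (hΓ : ∀ σ ∈ Γ, H185.OrthCent.Fix σ Q) {p q r : ℕ} [hr : Fact r.Prime] [CharP F r]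
    (hpr : p ≠ r) (c : ℕ) (hc : ∀ s : ℕ, s.Prime → s ∣ c → s ≤ 3)
    (hcard : Nat.card (MulAut (POmega F ⇑Q)) ∣ c * Nat.card Γ * Nat.card (POmega F ⇑Q))
    (h3 : 3 ≤ Fintype.card ι)
    (hbig : q.Prime → ¬ q ∣ Nat.card (POmega F ⇑Q) → Fintype.card ι < q)
    (hfix : p.Prime → q.Prime → p ≠ q → q ≠ 2 → ∀ σ ∈ Γ, ∀ j : ℕ, orderOf σ = q ^ j →
      ¬ p ∣ Nat.card (Fx σ) → ¬ q ∣ orderOf (Nat.card (Fx σ) : ZMod p) →
      ∃ Q₀ : QuadraticForm (Fx σ) (ι → Fx σ), _root_.Cfsg.Agent.H185.OrthCent.Ext (Fx σ).subtype Q₀ Q ∧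
        (Nat.card (POmega F ⇑Q)).factorization p = (Nat.card (POmega (Fx σ) ⇑Q₀)).factorization p) :
    SFact p q (POmega F ⇑Q) := by
  intro hp hq hpq hqS
  have hpf : Fact p.Prime := ⟨hp⟩
  have hqf : Fact q.Prime := ⟨hq⟩
  have hfinA : Finite (F ≃+* F) := Finite.of_injective (fun f : F ≃+* F => (f : F → F)) DFunLike.coe_injective
  have hcyc : IsCyclic (F ≃+* F) := LieRecognition.FieldSemilinear.isCyclic_ringAut F
  have hfin : Finite (POmega F ⇑Q) := inferInstance
  have hq3 : 3 < q := lt_of_le_of_lt h3 (hbig hq hqS)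
  have hZ : center (POmega F ⇑Q) = ⊥ := by
    rcases (inferInstance : (center (POmega F ⇑Q)).Normal).eq_bot_or_eq_top with h | h
    · exact h
    · exfalso
      apply hna
      refine ⟨⟨fun a b => ?_⟩⟩
      have h1 : a ∈ center (POmega F ⇑Q) := by rw [h]; exact mem_top a
      exact (mem_center_iff.1 h1 b).symm
  have hout : Nat.card (Out (POmega F ⇑Q)) ∣ c * Nat.card Γ := by
    rw [← H254.card_out hna] at hcard
    exact Nat.dvd_of_mul_dvd_mul_right Nat.card_pos hcard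
  have hpart : ∀ s : ℕ, s.Prime → ¬ s ∣ c → ∀ k : ℕ, s ^ k ∣ Nat.card (Out (POmega F ⇑Q)) → s ^ k ∣ Nat.card Γ := by
    intro s hs hsc k hk
    exact (((Nat.Prime.coprime_iff_not_dvd hs).2 hsc).pow_left k).dvd_of_dvd_mul_left (hk.trans hout)
  have hinn : ∀ γ : ↥Γ, (orderOf γ).Prime → ((Phi hG).comp (frobHom Γ hΓ)) γ ∉ Inn (POmega F ⇑Q) := by
    intro γ hγ
    refine not_inn hG (hΓ γ.1 γ.2) ?_
    intro h
    have h1 : γ = 1 := Subtype.ext h
    rw [h1, orderOf_one] at hγ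
    exact Nat.not_prime_one hγ
  have hqc : ¬ q ∣ c := fun h => by
    have := hc q hq h
    omega
  -- the case in which `q` does not divide the order of `|Fx φ|` modulo `p`
  have cent : ∀ φ : ↥Γ, (∃ k : ℕ, orderOf φ = q ^ k) → ¬ q ∣ orderOf (Nat.card (Fx φ.1) : ZMod p) →
      CentSyl p (Subgroup.zpowers (((Phi hG).comp (frobHom Γ hΓ)) φ)) := by
    rintro φ ⟨k, hk⟩ hd
    have hk' : orderOf φ.1 = q ^ k := by rw [← hk]; exact Subgroup.orderOf_coe φ
    obtain ⟨Q₀, hQ₀, hf⟩ := hfix hp hq hpq (by omega) φ.1 φ.2 k hk' (not_dvd_fx hp hpr φ.1) hd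
    have h4 : Sec (POmega F ⇑Q) (Phi hG (frobG (hΓ φ.1 φ.2))) (POmega (Fx φ.1) ⇑Q₀) :=
      sec_orth hQ₀ hG (hΓ φ.1 φ.2) (fun b => b.2)
    refine centSyl_of_fix _ ?_
    rw [hf]
    exact (Nat.ordProj_dvd _ _).trans h4.card_dvd
  by_cases hpc : p ∣ c
  · have hp3 : p ≤ 3 := hc p hp hpc
    refine sfact_of_coprime hZ hsolv ((Phi hG).comp (frobHom Γ hΓ)) (fun γ hγ => hinn γ (by rw [hγ]; exact hq))
      (hpart q hq hqc) ?_ hp hq hpq hqS
    intro _ _ _ _ φ _ hφ
    refine cent φ hφ fun h => ?_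
    have h5 := (Arith.lt_of_dvd_order hp (not_dvd_fx hp hpr φ.1) h).2
    omega
  · refine sfact_of_field hZ hsolv ((Phi hG).comp (frobHom Γ hΓ)) (fun γ hγ _ => hinn γ hγ)
      (hpart p hp hpc) (hpart q hq hqc) ?_ hp hq hpq hqS
    intro _ _ _ _ A Φ φ hφ1 hF hinv
    by_cases hd : q ∣ orderOf (Nat.card (Fx φ.1) : ZMod p)
    · by_cases hpS : p ∣ Nat.card (POmega F ⇑Q)
      · exfalso
        have h5 := (Arith.lt_of_dvd_order hp (not_dvd_fx hp hpr φ.1) hd).2
        exact small_orth hG Γ hΓ hq hpr (by omega) hφ1 hF hinv (hbig hq hqS) hpS hd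
      · exact centSyl_of_not_dvd hpS Φ
    · rw [hF.Φ]
      exact cent φ hF.φ hd

end Cfsg.Agent.H219.PQ
end

-- part: H219/PQ/Ominus
section
/-!
# S4981: the row `PΩ⁻`, cross characteristic (helper219)
-/

set_option autoImplicit false
set_option linter.unusedSectionVars false

namespace Cfsg.Agent.H219.PQ

open Cfsg Matrix QuadraticMap Subgroup Cfsg.Agent.H254 Cfsg.Agent.H967.CopMat Cfsg.Agent.H967.CopSec
open Cfsg.Agent.LieClassical.OrthTrans Cfsg.Agent.ClassicalGeometry.OrthSemi Cfsg.Agent.LieClassical.OrthSimple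
  Cfsg.Agent.H198.OrthFrame Cfsg.Agent.H198.ExtForm Cfsg.Agent.H198.Carriers Cfsg.Agent.H185.OrthCent
  Cfsg.Agent.H185.MinusField Cfsg.Agent.H24.FixOrth Cfsg.Agent.H476.FieldOrth
open Cfsg.Agent.H54.PQ Cfsg.Agent.H754.PQ Cfsg.Agent.H55.PQ.Red

universe u

/-! ### arithmetic -/

theorem fact_gcd {p : ℕ} (hp : p.Prime) {a b : ℕ} (h : p = 2 → a ≡ b [MOD 4]) :
    (Nat.gcd 4 a).factorization p = (Nat.gcd 4 b).factorization p := by
  by_cases h2 : p = 2
  · rw [Nat.gcd_comm 4 a, Nat.gcd_comm 4 b, (h h2).gcd_eq]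
  · rw [Nat.factorization_eq_zero_of_not_dvd, Nat.factorization_eq_zero_of_not_dvd]
    · intro h1
      have h3 : p ∣ 2 ^ 2 := h1.trans (Nat.gcd_dvd_left 4 b)
      exact h2 ((Nat.prime_dvd_prime_iff_eq hp Nat.prime_two).1 (hp.dvd_of_dvd_pow h3))
    · intro h1
      have h3 : p ∣ 2 ^ 2 := h1.trans (Nat.gcd_dvd_left 4 a)
      exact h2 ((Nat.prime_dvd_prime_iff_eq hp Nat.prime_two).1 (hp.dvd_of_dvd_pow h3))

theorem odd_pow_modEq {x n : ℕ} (hx : Odd x) (hn : Odd n) : x ^ n ≡ x [MOD 4] := by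
  obtain ⟨k, rfl⟩ := hn
  have h1 : x ^ 2 ≡ 1 [MOD 4] := by
    obtain ⟨l, rfl⟩ := hx
    have h2 : (2 * l + 1) ^ 2 = 1 + 4 * (l ^ 2 + l) := by ring
    rw [h2]
    exact (Nat.modEq_iff_dvd' (Nat.le_add_right 1 _)).2 ⟨l ^ 2 + l, by omega⟩ |>.symm
  calc x ^ (2 * k + 1) = (x ^ 2) ^ k * x := by rw [pow_succ, pow_mul]
    _ ≡ 1 ^ k * x [MOD 4] := (h1.pow k).mul_right x
    _ = x := by rw [one_pow, one_mul]

/-- the `p`-part of the order of `PΩ⁻` -/
theorem fact_minus {p q : ℕ} (hp : p.Prime) (hq : q.Prime) (hpq : p ≠ q) (hq2 : q ≠ 2) {F : Type} [Field F] [Finite F]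
    {E : Type} [Field E] [Finite E] {j m : ℕ} (hm : 4 ≤ m) (hc : Nat.card F = Nat.card E ^ q ^ j)
    (h0 : ¬ p ∣ Nat.card E) (hd : ¬ q ∣ orderOf (Nat.card E : ZMod p)) {a b : F}
    (hab : ∀ z₁ z₂ : F, z₁ ^ 2 + a * z₁ * z₂ + b * z₂ ^ 2 = 0 → z₁ = 0 ∧ z₂ = 0) {a' b' : E}
    (hab' : ∀ z₁ z₂ : E, z₁ ^ 2 + a' * z₁ * z₂ + b' * z₂ ^ 2 = 0 → z₁ = 0 ∧ z₂ = 0) :
    (Nat.card (POmega F (quadFormMinus (m - 1) F a b))).factorization p =
      (Nat.card (POmega E (quadFormMinus (m - 1) E a' b'))).factorization p := by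
  have := Fintype.ofFinite F
  have := Fintype.ofFinite E
  have h1 : 1 < Nat.card E := by
    rw [Nat.card_eq_fintype_card]; exact Fintype.one_lt_card
  have e1 := S0294.result (F := F) (Nat.card_eq_fintype_card (α := F)).symm m hm a b hab
  have e2 := S0294.result (F := E) (Nat.card_eq_fintype_card (α := E)).symm m hm a' b' hab'
  rw [hc] at e1
  set q₀ := Nat.card E with hq₀
  have hqj : 0 < q ^ j := pow_pos hq.pos j
  have hQ1 : 1 < q₀ ^ q ^ j := Nat.one_lt_pow hqj.ne' h1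
  have hQ0 : ¬ p ∣ q₀ ^ q ^ j := fun h => h0 (hp.dvd_of_dvd_pow h)
  have gen : ∀ (N x : ℕ), 1 < x → ¬ p ∣ x → 0 < N →
      Nat.gcd 4 (x ^ m + 1) * N = x ^ (m * (m - 1)) * (x ^ m + 1) * ∏ i ∈ Finset.range (m - 1), (x ^ (2 * (i + 1)) - 1) →
      N.factorization p + (Nat.gcd 4 (x ^ m + 1)).factorization p = (x ^ m + 1).factorization p +
        ∑ i ∈ Finset.range (m - 1), (x ^ (2 * (i + 1)) - 1).factorization p := by
    intro N x hx hpx hN h
    have h2 : ∀ i ∈ Finset.range (m - 1), x ^ (2 * (i + 1)) - 1 ≠ 0 := by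
      intro i _
      have h3 : 1 < x ^ (2 * (i + 1)) := Nat.one_lt_pow (by omega) hx
      omega
    have h3 : x ^ (m * (m - 1)) ≠ 0 := pow_ne_zero _ (by omega)
    have h4 : x ^ m + 1 ≠ 0 := Nat.succ_ne_zero _
    have h5 : Nat.gcd 4 (x ^ m + 1) ≠ 0 := by
      intro h6
      have := (Nat.gcd_eq_zero_iff.1 h6).1
      omega
    have h6 : (Nat.gcd 4 (x ^ m + 1) * N).factorization p =
      (x ^ (m * (m - 1)) * (x ^ m + 1) * ∏ i ∈ Finset.range (m - 1), (x ^ (2 * (i + 1)) - 1)).factorization p := by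
      rw [h]
    rw [Nat.factorization_mul h5 hN.ne', Nat.factorization_mul (mul_ne_zero h3 h4) (Finset.prod_ne_zero_iff.2 h2),
      Nat.factorization_mul h3 h4, Nat.factorization_prod h2] at h6
    simp only [Finsupp.add_apply, Finsupp.finsetSum_apply] at h6
    have h7 : (x ^ (m * (m - 1))).factorization p = 0 :=
      Nat.factorization_eq_zero_of_not_dvd fun h8 => hpx (hp.dvd_of_dvd_pow h8)
    rw [h7] at h6
    omega
  have g1 := gen _ _ hQ1 hQ0 Nat.card_pos e1
  have g2 := gen _ _ h1 h0 Nat.card_pos e2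
  have k1 : ((q₀ ^ q ^ j) ^ m + 1).factorization p = (q₀ ^ m + 1).factorization p :=
    Arith.pow_add_one hp hq hpq h1 h0 hd j m (by omega)
  have k2 : ∑ i ∈ Finset.range (m - 1), ((q₀ ^ q ^ j) ^ (2 * (i + 1)) - 1).factorization p =
      ∑ i ∈ Finset.range (m - 1), (q₀ ^ (2 * (i + 1)) - 1).factorization p :=
    Finset.sum_congr rfl fun i _ => Arith.pow_sub_one hp hq hpq h1 h0 hd j _ (by omega)
  have k3 : (Nat.gcd 4 ((q₀ ^ q ^ j) ^ m + 1)).factorization p = (Nat.gcd 4 (q₀ ^ m + 1)).factorization p := by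
    refine fact_gcd hp fun hp2 => ?_
    have h2 : Odd q₀ := by
      rw [hp2] at h0
      exact Nat.odd_iff.2 (by omega)
    have h3 : Odd (q ^ j) := (hq.odd_of_ne_two hq2).pow
    exact ((odd_pow_modEq h2 h3).pow m).add_right 1
  rw [k1, k2, k3] at g1
  omega

/-- **the row `PΩ⁻` (standard form)** -/
theorem row_minus {p q r : ℕ} (hpr : p ≠ r) {F : Type} [Field F] [Fintype F] [hr : Fact r.Prime] [CharP F r] {m : ℕ}
    (hm : 4 ≤ m) (a b : F) (hab : ∀ z₁ z₂ : F, z₁ ^ 2 + a * z₁ * z₂ + b * z₂ ^ 2 = 0 → z₁ = 0 ∧ z₂ = 0) :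
    SFact p q (POmega F (quadFormMinus (m - 1) F a b)) := by
  obtain ⟨f, -, hf⟩ := FiniteField.card F r
  have hf' : Nat.card (F ≃+* F) = f := Lib.FieldAutCard.card_ringAut f.pos hf
  -- the odd part of the group of field automorphisms
  obtain ⟨ρ, hρ, hgen⟩ := _root_.Cfsg.Agent.H254.exists_ringAut F
  obtain ⟨v, n, hn, hvn⟩ := Nat.exists_eq_two_pow_mul_odd (n := (f : ℕ)) f.pos.ne'
  set τ : F ≃+* F := ρ ^ (2 ^ v) with hτd
  have hτ : orderOf τ = n := by
    rw [hτd, orderOf_pow_of_dvd (by positivity) (by rw [hρ, hf', hvn]; exact dvd_mul_right _ _), hρ, hf', hvn,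
      Nat.mul_div_cancel_left _ (by positivity)]
  have hfinA : Finite (F ≃+* F) := Finite.of_injective (fun f : F ≃+* F => (f : F → F)) DFunLike.coe_injective
  have hfix : ∀ σ ∈ Subgroup.zpowers τ, ∀ x : Fx τ, σ (x : F) = x := by
    intro σ hσ x
    obtain ⟨k, rfl⟩ := (mem_powers_iff_mem_zpowers (x := τ) (y := σ)).2 hσ
    exact pow_fixed x.2 k
  obtain ⟨ζ, hζ⟩ := H182.Sign.exists_aniso (Fx τ)
  have hab₀ : Aniso (1 : Fx τ) ζ := hζ
  have hcE : Nat.card F = Nat.card (Fx τ) ^ n := by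
    have h1 := card_Fx τ
    rwa [hτ] at h1
  have hab₁ : Aniso ((Fx τ).subtype 1) ((Fx τ).subtype ζ) := aniso_map (Fx τ).subtype hn hcE hab₀
  have hab₂ : Aniso (1 : F) (ζ : F) := hab₁
  obtain ⟨e₁⟩ := H902.Iso.minus_congr (m - 1) hab hab₂
  refine sfact_congr e₁ ?_
  have hsimp : IsSimpleGroup (POmega F ⇑(minusQ (m - 1) F 1 (ζ : F))) := S0297.result m hm 1 (ζ : F) hab₂
  have hne : Nonempty ((Fin (m - 1) ⊕ Fin (m - 1)) ⊕ Fin 2) := ⟨.inr 0⟩
  have hfin : Finite (POmega F ⇑(minusQ (m - 1) F 1 (ζ : F))) := inferInstance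
  have hna : ¬ IsMulCommutative (POmega F ⇑(minusQ (m - 1) F 1 (ζ : F))) :=
    not_comm (minus_dvd (r := r) hm (char_dvd F r) hab₂ Nat.prime_two (Or.inl rfl))
      (minus_dvd (r := r) hm (char_dvd F r) hab₂ Nat.prime_three (Or.inr (Or.inr (by omega))))
  have hsolv : Group.IsSolvable (Out (POmega F ⇑(minusQ (m - 1) F 1 (ζ : F)))) :=
    isSolvable_out_of_sch (Schreier.ClassPOmega.sch_minus hm 1 (ζ : F) hab₂)
  have hcι : Fintype.card ((Fin (m - 1) ⊕ Fin (m - 1)) ⊕ Fin 2) = 2 * m := by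
    rw [Fintype.card_sum, Fintype.card_sum, Fintype.card_fin, Fintype.card_fin]
    omega
  refine (row_orth (Q := minusQ (m - 1) F 1 (ζ : F)) (good_minusQ (by omega) hab₂) hna hsolv (Subgroup.zpowers τ)
    (fun σ hσ => fix_minus' (map_one σ) (hfix σ hσ ζ) (m - 1)) hpr (8 * 2 ^ v) ?_ ?_ ?_ ?_ ?_ :)
  · intro s hs hd
    have h4 : s ∣ 2 ^ (3 + v) := by rw [pow_add]; exact hd
    have h5 := (Nat.prime_dvd_prime_iff_eq hs Nat.prime_two).1 (hs.dvd_of_dvd_pow h4)
    omega
  · have h5 : Nat.card (MulAut (POmega F ⇑(minusQ (m - 1) F 1 (ζ : F)))) =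
        Nat.card (MulAut (POmega F (quadFormMinus (m - 1) F 1 (ζ : F)))) := rfl
    rw [h5, S0818.result r f f.pos hf m hm 1 (ζ : F) hab₂]
    have h7 : (if r = 2 then 2 else (if Even (m * (r ^ (f : ℕ) - 1) / 2) then 4 else 8)) ∣ 8 := by
      split_ifs
      · exact ⟨4, by norm_num⟩
      · exact ⟨2, by norm_num⟩
      · exact dvd_rfl
    have h8 : 8 * 2 ^ v * Nat.card (Subgroup.zpowers τ) = 8 * (f : ℕ) := by
      rw [Nat.card_zpowers, hτ, mul_assoc, ← hvn]
    rw [h8]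
    exact Nat.mul_dvd_mul_right (Nat.mul_dvd_mul h7 dvd_rfl) _
  · rw [hcι]; omega
  · intro hq hqS
    by_contra hlt
    exact hqS (minus_dvd (r := r) hm (char_dvd F r) hab₂ hq (Or.inr (Or.inr (by omega))))
  · intro hp hq hpq hq2 σ hσ j hj h0 hd
    have hmem : (ζ : F) ∈ Fx σ := hfix σ hσ ζ
    have hab₃ : Aniso (1 : Fx σ) (⟨(ζ : F), hmem⟩ : Fx σ) := aniso_of_map (Fx σ).subtype hab₂
    refine ⟨minusQ (m - 1) (Fx σ) 1 ⟨(ζ : F), hmem⟩, ext_minus (Fx σ).subtype (m - 1) 1 ⟨(ζ : F), hmem⟩, ?_⟩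
    exact fact_minus hp hq hpq hq2 (E := Fx σ) (j := j) hm (by rw [← hj]; exact card_Fx σ) h0 hd hab₂ hab₃

/-- **S4981, row `PΩ⁻` in cross characteristic** -/
theorem row_ominus_cross {p q r : ℕ} (hpr : p ≠ r) {G : Type u} [Group G] [Finite G] [IsSimpleGroup G]
    (_hc : ∃ a b : G, a * b ≠ b * a) (hG : Cfsg.IsPOmegaMinusChar r G) : SFact p q G := by
  obtain ⟨F, _, _, _, m, a, b, hm, hab, ⟨e⟩⟩ := hG
  have hr : Fact r.Prime := ⟨CharP.char_is_prime F r⟩
  exact sfact_congr e (row_minus hpr hm a b hab)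

end Cfsg.Agent.H219.PQ
end

-- part: H239/PQCyc
section
/-!
# S4981 C5: cyclic Sylow `p`-subgroups (helper239, for helper54)
-/

set_option autoImplicit false

namespace Cfsg.Agent.H239.PQCyc

open Subgroup Cfsg Cfsg.Agent.H54.PQ

universe u

variable {S : Type u} [Group S] [Finite S]

/-- the automorphisms which map `x` to a power of `x` -/
def stab (x : S) : Subgroup (MulAut S) where
  carrier := {a | a x ∈ zpowers x}
  mul_mem' := by
    intro a b ha hb
    obtain ⟨k, hk⟩ := mem_zpowers_iff.mp hb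
    show (a * b) x ∈ zpowers x
    rw [MulAut.mul_apply, ← hk, map_zpow]
    exact (zpowers x).zpow_mem ha k
  one_mem' := mem_zpowers x
  inv_mem' := by
    intro a ha
    have h1 : ∀ y ∈ zpowers x, a y ∈ zpowers x := by
      intro y hy
      obtain ⟨k, rfl⟩ := mem_zpowers_iff.mp hy
      rw [map_zpow]
      exact (zpowers x).zpow_mem ha k
    let F : zpowers x → zpowers x := fun y => ⟨a y, h1 y y.2⟩
    have hF : Function.Injective F := by
      intro y z h
      exact Subtype.ext (a.injective (congrArg Subtype.val h))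
    obtain ⟨y, hy⟩ := (Finite.surjective_of_injective hF) ⟨x, mem_zpowers x⟩
    have h2 : a y = x := congrArg Subtype.val hy
    show a⁻¹ x ∈ zpowers x
    have h3 : a⁻¹ x = (y : S) := (MulEquiv.symm_apply_eq a).mpr h2.symm
    rw [h3]
    exact y.2

theorem exists_pow {x : S} (a : stab x) : ∃ k : ℕ, (a : MulAut S) x = x ^ k := by
  obtain ⟨k, hk⟩ := mem_powers_iff_mem_zpowers.mpr a.2
  exact ⟨k, hk.symm⟩

omit [Finite S] in
theorem cast_eq {p : ℕ} {x : S} (hx : p ∣ orderOf x) {k l : ℕ} (h : x ^ k = x ^ l) : (k : ZMod p) = l := by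
  rw [ZMod.natCast_eq_natCast_iff]
  exact (pow_eq_pow_iff_modEq.mp h).of_dvd hx

/-- the exponent modulo `p` -/
noncomputable def kap0 {p : ℕ} {x : S} (hx : p ∣ orderOf x) : stab x →* ZMod p where
  toFun a := ((exists_pow a).choose : ZMod p)
  map_one' := by
    rw [← Nat.cast_one]
    refine cast_eq hx ?_
    rw [← (exists_pow (1 : stab x)).choose_spec, pow_one]
    rfl
  map_mul' a b := by
    rw [← Nat.cast_mul]
    refine cast_eq hx ?_
    have ha := (exists_pow a).choose_spec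
    have hb := (exists_pow b).choose_spec
    have hab := (exists_pow (a * b)).choose_spec
    rw [← hab, pow_mul, ← ha, ← map_pow, ← hb]
    rfl

noncomputable def kap {p : ℕ} {x : S} (hx : p ∣ orderOf x) : stab x →* (ZMod p)ˣ := (kap0 hx).toHomUnits

theorem kap_eq {p : ℕ} {x : S} (hx : p ∣ orderOf x) {a : stab x} {k : ℕ} (h : (a : MulAut S) x = x ^ k) :
    ((kap hx a : (ZMod p)ˣ) : ZMod p) = k := by
  show ((exists_pow a).choose : ZMod p) = k
  refine cast_eq hx ?_
  rw [← (exists_pow a).choose_spec, h]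

/-- the normaliser -/
def nor (x : S) : Subgroup S := (stab x).comap (MulAut.conj : S →* MulAut S)

noncomputable def kapN {p : ℕ} {x : S} (hx : p ∣ orderOf x) : nor x →* (ZMod p)ˣ :=
  (kap hx).comp ((MulAut.conj : S →* MulAut S).subgroupComap (stab x))

section lam

variable {p : ℕ} {x : S}

/-- the linear character of `⟨x⟩` with value `ζ` at `x` -/
noncomputable def lam {ζ : ℂˣ} (hζ : orderOf ζ ∣ orderOf x) : zpowers x →* ℂˣ :=
  monoidHomOfForallMemZpowers (g := (⟨x, mem_zpowers x⟩ : zpowers x)) (g' := ζ)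
    (fun y => by
      obtain ⟨k, hk⟩ := mem_zpowers_iff.mp y.2
      exact mem_zpowers_iff.mpr ⟨k, Subtype.ext (by simpa using hk)⟩)
    (by rwa [Subgroup.orderOf_mk])

omit [Finite S] in
theorem lam_pow {ζ : ℂˣ} (hζ : orderOf ζ ∣ orderOf x) {y : zpowers x} {k : ℕ} (h : (y : S) = x ^ k) :
    lam hζ y = ζ ^ k := by
  have h1 : y = (⟨x, mem_zpowers x⟩ : zpowers x) ^ k := Subtype.ext (by simpa using h)
  rw [h1, map_pow]
  congr 1
  exact monoidHomOfForallMemZpowers_apply_gen _ _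

end lam

/-- the induced character -/
noncomputable def bet [Fintype S] {x : S} {ζ : ℂˣ} (hζ : orderOf ζ ∣ orderOf x) : S → ℂ :=
  indFun (zpowers x) (fun y => ((lam hζ y : ℂˣ) : ℂ))

omit [Finite S] in
theorem bet_gen [Fintype S] {x : S} {ζ : ℂˣ} (hζ : orderOf ζ ∣ orderOf x) : IsGeneralizedCharacter S (bet hζ) :=
  Characters.Brauer.isGeneralizedCharacter_of_isCharacter
    (Characters.Brauer.isCharacter_indFun _ (Characters.Linear.isCharacter_hom (lam hζ)))

/-- the values of the extension by zero -/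
theorem ext_apply {p : ℕ} [Fact p.Prime] {x : S} (hx : p ∣ orderOf x) {ζ : ℂˣ} (hζ : orderOf ζ = p) (b : stab x) :
    extendByZero (zpowers x) (fun y => ((lam (hζ ▸ hx : orderOf ζ ∣ orderOf x) y : ℂˣ) : ℂ)) ((b : MulAut S) x) =
      (ζ : ℂ) ^ ((kap hx b : (ZMod p)ˣ) : ZMod p).val := by
  obtain ⟨k, hk⟩ := exists_pow b
  have h1 : (b : MulAut S) x ∈ zpowers x := b.2
  rw [Characters.Core.extendByZero_of_mem _ _ h1, lam_pow _ (y := ⟨(b : MulAut S) x, h1⟩) hk, kap_eq hx hk,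
    ZMod.val_natCast, ← Units.val_pow_eq_pow_val]
  congr 1
  rw [pow_eq_pow_iff_modEq, hζ]
  exact (Nat.mod_modEq k p).symm

omit [Finite S] in
theorem sum_ext [Fintype S] (H : Subgroup S) [Fintype H] (F : S → ℂ) (h : ∀ s, s ∉ H → F s = 0) :
    ∑ s : S, F s = ∑ s : H, F s := by
  classical
  rw [← Finset.sum_subset (Finset.subset_univ (Finset.univ.filter (· ∈ H))) (fun s _ hs => h s (by simpa using hs))]
  exact (Finset.sum_subtype (Finset.univ.filter (· ∈ H)) (by simp) F)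

/-- the sum over the normaliser -/
theorem bet_apply [Fintype S] {p : ℕ} [Fact p.Prime] {x : S} [Fintype (nor x)] (hx : p ∣ orderOf x) {ζ : ℂˣ}
    (hζ : orderOf ζ = p) (a : stab x) :
    bet (hζ ▸ hx : orderOf ζ ∣ orderOf x) ((a : MulAut S) x) =
      (Nat.card (zpowers x) : ℂ)⁻¹ * ∑ s : nor x, (ζ : ℂ) ^ ((kapN hx s * kap hx a : (ZMod p)ˣ) : ZMod p).val := by
  unfold bet
  rw [Characters.Core.indFun_apply]
  congr 1
  rw [← Equiv.sum_comp (Equiv.inv S)]
  rw [sum_ext (nor x)]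
  · refine Finset.sum_congr rfl fun s _ => ?_
    have h1 : ((MulAut.conj : S →* MulAut S).subgroupComap (stab x) s * a : stab x) =
        ⟨MulAut.conj (s : S) * a, (stab x).mul_mem s.2 a.2⟩ := rfl
    have h2 := ext_apply hx hζ ((MulAut.conj : S →* MulAut S).subgroupComap (stab x) s * a)
    rw [map_mul] at h2
    rw [show kapN hx s = kap hx ((MulAut.conj : S →* MulAut S).subgroupComap (stab x) s) from rfl, ← h2]
    congr 1
    show (s : S)⁻¹⁻¹ * (a : MulAut S) x * (s : S)⁻¹ = (s : S) * (a : MulAut S) x * (s : S)⁻¹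
    rw [inv_inv]
  · intro s hs
    apply Characters.Core.extendByZero_of_notMem
    intro h1
    apply hs
    have h2 : MulAut.conj s * (a : MulAut S) ∈ stab x := by
      show s * (a : MulAut S) x * s⁻¹ ∈ zpowers x
      have h3 : (Equiv.inv S) s = s⁻¹ := rfl
      rwa [h3, inv_inv] at h1
    show MulAut.conj s ∈ stab x
    have h4 := (stab x).mul_mem h2 ((stab x).inv_mem a.2)
    rwa [mul_inv_cancel_right] at h4

open Classical in
/-- the multiplicities -/
noncomputable def mm {p : ℕ} {x : S} (hx : p ∣ orderOf x) (a : stab x) (i : ZMod p) : ℤ :=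
  if ∃ s : nor x, ((kapN hx s * kap hx a : (ZMod p)ˣ) : ZMod p) = i then
    ((Nat.card (kapN hx).ker / Nat.card (zpowers x) : ℕ) : ℤ) else 0

theorem zpowers_le_ker {p : ℕ} {x : S} (hx : p ∣ orderOf x) : zpowers x ≤ (kapN hx).ker.map (nor x).subtype := by
  rw [zpowers_le]
  have h1 : MulAut.conj x x = x ^ 1 := by
    rw [MulAut.conj_apply, pow_one, mul_inv_cancel_right]
  have h2 : x ∈ nor x := by
    show MulAut.conj x x ∈ zpowers x
    rw [h1, pow_one]
    exact mem_zpowers x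
  refine ⟨⟨x, h2⟩, ?_, rfl⟩
  show kapN hx ⟨x, h2⟩ = 1
  apply Units.ext
  have h3 := kap_eq hx (a := (MulAut.conj : S →* MulAut S).subgroupComap (stab x) ⟨x, h2⟩) (k := 1) h1
  rw [Nat.cast_one] at h3
  exact h3

theorem card_ker_map {p : ℕ} {x : S} (hx : p ∣ orderOf x) :
    Nat.card ((kapN hx).ker.map (nor x).subtype : Subgroup S) = Nat.card (kapN hx).ker :=
  Nat.card_congr ((kapN hx).ker.equivMapOfInjective _ (nor x).subtype_injective).symm.toEquiv

theorem dvd_ker {p : ℕ} {x : S} (hx : p ∣ orderOf x) : Nat.card (zpowers x) ∣ Nat.card (kapN hx).ker := by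
  rw [← card_ker_map hx]
  exact Subgroup.card_dvd_of_le (zpowers_le_ker hx)

/-- if `⟨x⟩` is a Sylow `p`-subgroup then the quotient is prime to `p` -/
theorem not_dvd_quot {p : ℕ} {x : S} (hx : p ∣ orderOf x) (hi : ¬ p ∣ (zpowers x).index) :
    ¬ p ∣ Nat.card (kapN hx).ker / Nat.card (zpowers x) := by
  intro h
  apply hi
  refine h.trans ?_
  have h1 : Nat.card (zpowers x) * (zpowers x).relIndex ((kapN hx).ker.map (nor x).subtype) =
      Nat.card ((kapN hx).ker.map (nor x).subtype : Subgroup S) := by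
    have h2 := Subgroup.relIndex_mul_relIndex ⊥ (zpowers x) ((kapN hx).ker.map (nor x).subtype) bot_le
      (zpowers_le_ker hx)
    rwa [Subgroup.relIndex_bot_left, Subgroup.relIndex_bot_left] at h2
  rw [← card_ker_map hx, ← h1]
  rw [Nat.mul_div_cancel_left _ Nat.card_pos]
  exact dvd_of_mul_right_eq _ (Subgroup.relIndex_mul_index (zpowers_le_ker hx))

theorem card_fib [Fintype S] {p : ℕ} {x : S} [Fintype (nor x)] (hx : p ∣ orderOf x) (a : stab x) (i : ZMod p)
    [DecidablePred fun s : nor x => ((kapN hx s * kap hx a : (ZMod p)ˣ) : ZMod p) = i] :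
    ((Finset.univ.filter (fun s : nor x => ((kapN hx s * kap hx a : (ZMod p)ˣ) : ZMod p) = i)).card : ℤ) =
      Nat.card (zpowers x) * mm hx a i := by
  classical
  unfold mm
  split_ifs with h
  · obtain ⟨s0, hs0⟩ := h
    have h1 : (Finset.univ.filter (fun s : nor x => ((kapN hx s * kap hx a : (ZMod p)ˣ) : ZMod p) = i)) =
        Finset.univ.filter (fun s : nor x => kapN hx s = kapN hx s0) := by
      ext s
      rw [Finset.mem_filter, Finset.mem_filter, ← hs0]
      constructor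
      · rintro ⟨-, h2⟩
        exact ⟨Finset.mem_univ _, mul_right_cancel (Units.ext h2)⟩
      · rintro ⟨-, h2⟩
        exact ⟨Finset.mem_univ _, by rw [h2]⟩
    rw [h1, MonoidHom.card_fiber_eq_of_mem_range (kapN hx) (y := 1) ⟨s0, rfl⟩ ⟨1, map_one _⟩]
    have h2 : (Finset.univ.filter (fun s : nor x => kapN hx s = 1)).card = Nat.card (kapN hx).ker := by
      rw [Nat.card_eq_fintype_card, Fintype.card_subtype]
      congr 1
      ext s
      simp only [MonoidHom.mem_ker, _root_.Finset.mem_filter, _root_.Finset.mem_univ, _root_.true_and]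
    rw [h2, ← Nat.cast_mul, Nat.mul_div_cancel' (dvd_ker hx)]
  · rw [mul_zero, Nat.cast_eq_zero, Finset.card_eq_zero, Finset.filter_eq_empty_iff]
    intro s _ hs
    exact h ⟨s, hs⟩

/-- **the value at `a x`** -/
theorem bet_eq [Fintype S] {p : ℕ} [Fact p.Prime] {x : S} (hx : p ∣ orderOf x) {ζ : ℂˣ} (hζ : orderOf ζ = p)
    (a : stab x) :
    bet (hζ ▸ hx : orderOf ζ ∣ orderOf x) ((a : MulAut S) x) = ∑ i : ZMod p, (mm hx a i : ℂ) * (ζ : ℂ) ^ i.val := by
  classical
  have : Fintype (nor x) := Fintype.ofFinite _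
  rw [bet_apply hx hζ a]
  rw [← Finset.sum_fiberwise Finset.univ (fun s : nor x => ((kapN hx s * kap hx a : (ZMod p)ˣ) : ZMod p))]
  rw [Finset.mul_sum]
  refine Finset.sum_congr rfl fun i _ => ?_
  have h1 : ∑ s ∈ Finset.univ.filter (fun s : nor x => ((kapN hx s * kap hx a : (ZMod p)ˣ) : ZMod p) = i),
      (ζ : ℂ) ^ ((kapN hx s * kap hx a : (ZMod p)ˣ) : ZMod p).val =
      ((Finset.univ.filter (fun s : nor x => ((kapN hx s * kap hx a : (ZMod p)ˣ) : ZMod p) = i)).card : ℂ) *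
        (ζ : ℂ) ^ i.val := by
    rw [← nsmul_eq_mul, ← Finset.sum_const]
    refine Finset.sum_congr rfl fun s hs => ?_
    rw [(Finset.mem_filter.mp hs).2]
  have h2 := card_fib hx a i
  have h3 : ((Finset.univ.filter (fun s : nor x => ((kapN hx s * kap hx a : (ZMod p)ˣ) : ZMod p) = i)).card : ℂ) =
      (Nat.card (zpowers x) : ℂ) * (mm hx a i : ℂ) := by
    exact_mod_cast h2
  rw [h1, h3]
  have h4 : (Nat.card (zpowers x) : ℂ) ≠ 0 := Nat.cast_ne_zero.mpr Nat.card_pos.ne'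
  field_simp

/-- a power prime to the group order does not leave the subgroup -/
theorem mem_of_pow {Γ : Type*} [Group Γ] [Finite Γ] {H : Subgroup Γ} {y : Γ} {n : ℕ} (hn : Nat.Coprime n (orderOf y))
    (h : y ^ n ∈ H) : y ∈ H := by
  have h1 : y ∈ zpowers (y ^ n) := mem_zpowers_pow_iff.mpr hn
  exact (zpowers_le.mpr h) h1

omit [Finite S] in
theorem conj_mul_pow (s : S) (a : MulAut S) (n : ℕ) : ∃ t : S, (MulAut.conj s * a) ^ n = MulAut.conj t * a ^ n := by
  induction n with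
  | zero => exact ⟨1, by simp⟩
  | succ n ih =>
    obtain ⟨t, ht⟩ := ih
    refine ⟨t * (a ^ n) s, ?_⟩
    rw [pow_succ, ht]
    ext g
    simp only [MulAut.mul_apply, MulAut.conj_apply, map_mul, map_inv, pow_succ, mul_inv_rev]

/-- if `a` has `p`-power order and `⟨x⟩` is a Sylow `p`-subgroup -/
theorem exists_conj_mem_stab {p : ℕ} [Fact p.Prime] (P : Sylow p S) {x : S} (hP : zpowers x = (P : Subgroup S))
    (a : MulAut S) : ∃ s : S, MulAut.conj s * a ∈ stab x := by
  obtain ⟨s, hs⟩ := MulAction.exists_smul_eq S (a • P) P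
  refine ⟨s, ?_⟩
  show s * a x * s⁻¹ ∈ zpowers x
  rw [hP]
  have h1 : a x ∈ ((a • P : Sylow p S) : Subgroup S) := by
    rw [Sylow.pointwise_smul_def]
    refine ⟨x, ?_, rfl⟩
    show x ∈ (P : Subgroup S)
    rw [← hP]
    exact mem_zpowers x
  have h2 : s * a x * s⁻¹ ∈ ((s • (a • P : Sylow p S) : Sylow p S) : Subgroup S) := by
    rw [Sylow.smul_def, Sylow.pointwise_smul_def]
    exact ⟨a x, h1, rfl⟩
  rwa [hs] at h2

/-- an automorphism congruent to one does not change the character -/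
theorem bet_of_kap [Fintype S] {p : ℕ} [Fact p.Prime] {x : S} (hx : p ∣ orderOf x) {ζ : ℂˣ} (hζ : orderOf ζ = p)
    (c : stab x) (hc : kap hx c = 1) (g : S) :
    bet (hζ ▸ hx : orderOf ζ ∣ orderOf x) ((c : MulAut S) g) = bet (hζ ▸ hx : orderOf ζ ∣ orderOf x) g := by
  have hcp : ∀ y ∈ zpowers x, (c : MulAut S) y ∈ zpowers x := by
    intro y hy
    obtain ⟨k, rfl⟩ := mem_zpowers_iff.mp hy
    rw [map_zpow]
    exact (zpowers x).zpow_mem c.2 k
  have hcp' : ∀ y, (c : MulAut S) y ∈ zpowers x → y ∈ zpowers x := by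
    intro y hy
    obtain ⟨k, hk⟩ := mem_zpowers_iff.mp hy
    have h1 : (c : MulAut S)⁻¹ ((c : MulAut S) y) ∈ zpowers x := by
      rw [← hk, map_zpow]
      exact (zpowers x).zpow_mem ((stab x).inv_mem c.2) k
    rwa [MulAut.inv_apply_self] at h1
  have h1 : ∀ y, extendByZero (zpowers x) (fun y => ((lam (hζ ▸ hx : orderOf ζ ∣ orderOf x) y : ℂˣ) : ℂ))
      ((c : MulAut S) y) =
      extendByZero (zpowers x) (fun y => ((lam (hζ ▸ hx : orderOf ζ ∣ orderOf x) y : ℂˣ) : ℂ)) y := by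
    intro y
    by_cases hy : y ∈ zpowers x
    · rw [Characters.Core.extendByZero_of_mem _ _ hy, Characters.Core.extendByZero_of_mem _ _ (hcp y hy)]
      obtain ⟨j, hj⟩ := mem_powers_iff_mem_zpowers.mpr hy
      obtain ⟨k, hk⟩ := exists_pow c
      have h2 : (c : MulAut S) y = x ^ (k * j) := by
        have hj' : x ^ j = y := hj
        rw [← hj', map_pow, hk, pow_mul]
      rw [lam_pow _ (y := ⟨(c : MulAut S) y, hcp y hy⟩) h2, lam_pow _ (y := ⟨y, hy⟩) hj.symm]
      congr 1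
      rw [pow_eq_pow_iff_modEq, hζ]
      have h3 : (k : ZMod p) = 1 := by
        rw [← kap_eq hx hk, hc]
        rfl
      have h4 : k ≡ 1 [MOD p] := by
        rw [← ZMod.natCast_eq_natCast_iff, h3, Nat.cast_one]
      simpa using h4.mul_right j
    · rw [Characters.Core.extendByZero_of_notMem _ _ hy,
        Characters.Core.extendByZero_of_notMem _ _ (fun h => hy (hcp' y h))]
  unfold bet
  rw [Characters.Core.indFun_apply, Characters.Core.indFun_apply]
  congr 1
  rw [← Equiv.sum_comp (c : MulAut S).toEquiv]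
  refine Finset.sum_congr rfl fun t _ => ?_
  have h2 : ((c : MulAut S).toEquiv t)⁻¹ * (c : MulAut S) g * (c : MulAut S).toEquiv t =
      (c : MulAut S) (t⁻¹ * g * t) := by
    rw [map_mul, map_mul, map_inv]
    rfl
  rw [h2, h1]

/-- the induced character is invariant under automorphisms of `p`-power order -/
theorem bet_inv [Fintype S] {p : ℕ} [hp : Fact p.Prime] (P : Sylow p S) {x : S} (hP : zpowers x = (P : Subgroup S))
    (hx : p ∣ orderOf x) {ζ : ℂˣ} (hζ : orderOf ζ = p) {a : MulAut S} {m : ℕ} (ha : a ^ p ^ m = 1) :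
    InvF a (bet (hζ ▸ hx : orderOf ζ ∣ orderOf x)) := by
  intro g
  obtain ⟨s, hs⟩ := exists_conj_mem_stab P hP a
  obtain ⟨t, ht⟩ := conj_mul_pow s a (p ^ m)
  rw [ha, mul_one] at ht
  have htn : t ∈ nor x := by
    show MulAut.conj t ∈ stab x
    rw [← ht]
    exact (stab x).pow_mem hs _
  have h1 : (kap hx ⟨_, hs⟩) ^ p ^ m ∈ (kapN hx).range := by
    refine ⟨⟨t, htn⟩, ?_⟩
    rw [← map_pow]
    show kap hx _ = kap hx _
    congr 1
    exact Subtype.ext ht.symm
  have h2 : kap hx ⟨_, hs⟩ ∈ (kapN hx).range := by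
    refine mem_of_pow ?_ h1
    refine Nat.Coprime.pow_left _ ?_
    have h3 : orderOf (kap hx ⟨_, hs⟩) ∣ p - 1 := by
      rw [← ZMod.card_units p]
      exact orderOf_dvd_card
    refine Nat.Coprime.coprime_dvd_right h3 ?_
    have h4 : 1 < p := hp.out.one_lt
    rw [Nat.coprime_comm]
    refine (Nat.coprime_self_sub_left h4.le).mpr ?_
    exact Nat.coprime_one_left p
  obtain ⟨n, hn⟩ := h2
  have h5 := bet_of_kap hx hζ (((MulAut.conj : S →* MulAut S).subgroupComap (stab x) n)⁻¹ * ⟨_, hs⟩) (by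
    rw [map_mul, map_inv]
    show (kapN hx n)⁻¹ * _ = 1
    rw [hn, inv_mul_cancel]) g
  rw [← h5]
  have h6 : (((((MulAut.conj : S →* MulAut S).subgroupComap (stab x) n)⁻¹ * ⟨MulAut.conj s * a, hs⟩ : stab x) :
      MulAut S) g) = ((n : S)⁻¹ * s) * a g * ((n : S)⁻¹ * s)⁻¹ := by
    show ((MulAut.conj (n : S))⁻¹ * (MulAut.conj s * a)) g = _
    rw [← map_inv, ← mul_assoc, ← map_mul]
    rfl
  rw [h6]
  exact (Characters.Brauer.indFun_isClassFunction _ _ (a g) ((n : S)⁻¹ * s)).symm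

/-- an automorphism of `q`-power order of the cyclic `p`-group `⟨x⟩` congruent to one fixes `x` -/
theorem fix_of_kap {p q : ℕ} [hp : Fact p.Prime] (hq : q.Prime) (hpq : p ≠ q) {x : S} {α : ℕ} (hα : orderOf x = p ^ (α + 1))
    (hx : p ∣ orderOf x) {f : stab x} (hf : kap hx f = 1) {m : ℕ} (hm : (f : MulAut S) ^ q ^ m = 1) :
    (f : MulAut S) x = x := by
  obtain ⟨k, hk⟩ := exists_pow f
  have h1 : (k : ZMod p) = 1 := by
    rw [← kap_eq hx hk, hf]
    rfl
  have h2 : ∀ j : ℕ, ((f : MulAut S) : S → S)^[j] x = x ^ k ^ j := by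
    intro j
    induction j with
    | zero => simp
    | succ j ih =>
      rw [Function.iterate_succ_apply', ih, map_pow, hk, ← pow_mul, pow_succ, mul_comm]
  have h3 : Function.IsPeriodicPt ((f : MulAut S) : S → S) (p ^ α) x := by
    show ((f : MulAut S) : S → S)^[p ^ α] x = x
    rw [h2]
    have h4 : (p : ℤ) ∣ (k : ℤ) - 1 := by
      rw [← ZMod.intCast_zmod_eq_zero_iff_dvd]
      push_cast
      rw [h1, sub_self]
    have h5 := dvd_sub_pow_of_dvd_sub h4 α
    have h6 : k ^ p ^ α ≡ 1 [MOD p ^ (α + 1)] := by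
      apply Nat.ModEq.symm
      rw [Nat.modEq_iff_dvd]
      push_cast
      rw [one_pow] at h5
      exact h5
    conv_rhs => rw [← pow_one x]
    rw [pow_eq_pow_iff_modEq, hα]
    exact h6
  have h4 : Function.IsPeriodicPt ((f : MulAut S) : S → S) (q ^ m) x := by
    show ((f : MulAut S) : S → S)^[q ^ m] x = x
    have h5 : ∀ j : ℕ, ((f : MulAut S) : S → S)^[j] x = ((f : MulAut S) ^ j) x := by
      intro j
      induction j with
      | zero => simp
      | succ j ih =>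
        rw [Function.iterate_succ_apply', ih, pow_succ', MulAut.mul_apply]
    rw [h5, hm]
    rfl
  have h5 : Nat.Coprime (p ^ α) (q ^ m) :=
    Nat.Coprime.pow _ _ ((Nat.coprime_primes hp.out hq).mpr hpq)
  have h6 : Function.minimalPeriod ((f : MulAut S) : S → S) x = 1 :=
    Nat.eq_one_of_dvd_coprimes h5 h3.minimalPeriod_dvd h4.minimalPeriod_dvd
  exact Function.minimalPeriod_eq_one_iff_isFixedPt.mp h6

/-- **C5 : cyclic Sylow subgroups** (plan 3.4) -/
theorem sfact_of_cyclic {p q : ℕ} (hp2 : p ≠ 2) (P₀ : Sylow p S) (hc : IsCyclic P₀) : SFact p q S := by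
  intro hp hq hpq hqS A Φ sit hinv
  have : Fact p.Prime := ⟨hp⟩
  have : Fact q.Prime := ⟨hq⟩
  classical
  have : Fintype S := Fintype.ofFinite S
  by_cases hpS : p ∣ Nat.card S
  swap
  · exact centSyl_of_not_dvd hpS Φ
  -- a `Φ`-invariant Sylow subgroup
  obtain ⟨P, hPf⟩ := sit.qΦ.nonempty_fixed_point_of_prime_not_dvd_card (Sylow p S) (fun h =>
    hqS ((h.trans (P₀.card_dvd_index)).trans (Subgroup.index_dvd_card _)))
  have hcP : IsCyclic P := isCyclic_of_surjective (P₀.equiv P) (P₀.equiv P).surjective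
  obtain ⟨⟨x, hxP⟩, hgen⟩ := hcP.exists_generator
  have hP : zpowers x = (P : Subgroup S) := by
    apply le_antisymm
    · exact zpowers_le.mpr hxP
    · intro y hy
      obtain ⟨k, hk⟩ := mem_zpowers_iff.mp (hgen ⟨y, hy⟩)
      exact mem_zpowers_iff.mpr ⟨k, congrArg Subtype.val hk⟩
  have hox : orderOf x = Nat.card P := by
    rw [← Nat.card_zpowers, hP]
  obtain ⟨α, hα⟩ : ∃ α : ℕ, orderOf x = p ^ (α + 1) := by
    obtain ⟨n, hn⟩ := IsPGroup.iff_card.mp P.isPGroup'
    have hpd : p ∣ Nat.card P := P.dvd_card_of_dvd_card hpS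
    cases n with
    | zero =>
      rw [hn, pow_zero] at hpd
      exact absurd (Nat.dvd_one.mp hpd) hp.one_lt.ne'
    | succ n => exact ⟨n, hox.trans hn⟩
  have hx : p ∣ orderOf x := by
    rw [hα]
    exact dvd_pow_self p (Nat.succ_ne_zero α)
  have hi : ¬ p ∣ (zpowers x).index := by
    rw [hP]
    exact P.not_dvd_index
  have hPC : PCent p x := by
    refine ⟨⟨α + 1, hα⟩, fun h => hi (h.trans ?_)⟩
    apply Subgroup.index_dvd_of_le
    rw [zpowers_le, mem_centralizer_singleton_iff]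
  have hPow : PowA A x := by
    intro a ha
    obtain ⟨s, hs⟩ := exists_conj_mem_stab P hP a
    obtain ⟨k, hk⟩ := exists_pow ⟨_, hs⟩
    refine ⟨k, ?_⟩
    rw [isConj_iff]
    exact ⟨s, hk⟩
  -- the root of unity
  obtain ⟨ζ, hζ⟩ : ∃ ζ : ℂˣ, orderOf ζ = p := by
    have h1 := Complex.isPrimitiveRoot_exp p hp.ne_zero
    refine ⟨h1.toRootsOfUnity.1, ?_⟩
    have h2 : IsPrimitiveRoot (h1.toRootsOfUnity.1 : ℂˣ) p := by
      rw [← IsPrimitiveRoot.coe_units_iff]
      exact h1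
    exact h2.eq_orderOf.symm
  have hζ' : IsPrimitiveRoot (ζ : ℂ) p := by
    rw [IsPrimitiveRoot.coe_units_iff, ← hζ]
    exact IsPrimitiveRoot.orderOf ζ
  have hβA : ∀ a ∈ A, InvF a (bet (hζ ▸ hx : orderOf ζ ∣ orderOf x)) := by
    intro a ha
    obtain ⟨m, hm⟩ := sit.pA ⟨a, ha⟩
    exact bet_inv P hP hx hζ (m := m) (congrArg Subtype.val hm)
  refine ⟨P, fun f hf => ?_⟩
  -- `f` maps `x` to a power
  have hfs : f ∈ stab x := by
    have h1 := hPf ⟨f, hf⟩
    have h2 : f x ∈ (((⟨f, hf⟩ : Φ) • P : Sylow p S) : Subgroup S) := ⟨x, hxP, rfl⟩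
    rw [h1] at h2
    show f x ∈ zpowers x
    rw [hP]
    exact h2
  have hPow' : PowA A (f x) := by
    intro a ha
    obtain ⟨k, hk⟩ := hPow a ha
    obtain ⟨g, hg⟩ := isConj_iff.mp hk
    obtain ⟨c, hc⟩ := exists_pow ⟨f, hfs⟩
    have hc' : f x = x ^ c := hc
    refine ⟨k, isConj_iff.mpr ⟨g, ?_⟩⟩
    rw [hc', map_pow, ← conj_pow, hg, ← pow_mul, ← pow_mul, mul_comm]
  obtain ⟨z, hz⟩ := H95.PQ.congr_main hp2 sit.pA hinv hPC hPow (bet_gen _) hβA hf hPow'
  have e1 := bet_eq hx hζ 1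
  have e2 := bet_eq hx hζ ⟨f, hfs⟩
  have e1' : bet (hζ ▸ hx : orderOf ζ ∣ orderOf x) x = ∑ i : ZMod p, (mm hx 1 i : ℂ) * (ζ : ℂ) ^ i.val := e1
  have e2' : bet (hζ ▸ hx : orderOf ζ ∣ orderOf x) (f x) =
    ∑ i : ZMod p, (mm hx ⟨f, hfs⟩ i : ℂ) * (ζ : ℂ) ^ i.val := e2
  rw [e1', e2'] at hz
  have hm0 : ∀ a : stab x, mm hx a 0 = 0 := by
    intro a
    unfold mm
    rw [if_neg]
    rintro ⟨s, hs⟩
    exact Units.ne_zero _ hs
  have h3 := H55.PQ.mult_of_congr hζ' hz (by rw [hm0, hm0, sub_self]; exact dvd_zero _) 1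
  have h4 : mm hx 1 1 = ((Nat.card (kapN hx).ker / Nat.card (zpowers x) : ℕ) : ℤ) := by
    unfold mm
    rw [if_pos]
    refine ⟨1, ?_⟩
    rw [map_one, map_one, mul_one]
    rfl
  have h5 : ∃ s : nor x, ((kapN hx s * kap hx ⟨f, hfs⟩ : (ZMod p)ˣ) : ZMod p) = 1 := by
    by_contra hcon
    have h6 : mm hx ⟨f, hfs⟩ 1 = 0 := by
      unfold mm
      rw [if_neg hcon]
    rw [h4, h6, sub_zero] at h3
    exact not_dvd_quot hx hi (by exact_mod_cast h3)
  obtain ⟨s, hs⟩ := h5
  have h6 : kapN hx s * kap hx ⟨f, hfs⟩ = 1 := Units.ext hs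
  obtain ⟨m, hm⟩ := sit.qΦ ⟨f, hf⟩
  have hm' : f ^ q ^ m = 1 := congrArg Subtype.val hm
  have h7 : kap hx ⟨f, hfs⟩ = 1 := by
    have h8 : (kap hx ⟨f, hfs⟩) ^ q ^ m = 1 := by
      rw [← map_pow]
      have h9 : (⟨f, hfs⟩ : stab x) ^ q ^ m = 1 := Subtype.ext hm'
      rw [h9, map_one]
    have h10 : (kap hx ⟨f, hfs⟩) ^ Nat.card S = 1 := by
      have h11 : kap hx ⟨f, hfs⟩ = (kapN hx s)⁻¹ := (eq_inv_of_mul_eq_one_right h6)
      have h12 : s ^ Nat.card S = 1 := by
        have h13 : (s : S) ^ Nat.card S = 1 := pow_card_eq_one'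
        exact Subtype.ext h13
      rw [h11, inv_pow, ← map_pow, h12, map_one, inv_one]
    have h11 : Nat.Coprime (q ^ m) (Nat.card S) := Nat.Coprime.pow_left m ((hq.coprime_iff_not_dvd).mpr hqS)
    have h12 : orderOf (kap hx ⟨f, hfs⟩) = 1 :=
      Nat.eq_one_of_dvd_coprimes h11 (orderOf_dvd_of_pow_eq_one h8) (orderOf_dvd_of_pow_eq_one h10)
    exact orderOf_eq_one_iff.mp h12
  have h8 : f x = x := fix_of_kap hq hpq hα hx (f := ⟨f, hfs⟩) h7 hm'
  intro y hy
  have hy' : y ∈ zpowers x := by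
    rw [hP]
    exact hy
  obtain ⟨k, rfl⟩ := mem_zpowers_iff.mp hy'
  rw [map_zpow, h8]

end Cfsg.Agent.H239.PQCyc
end

-- part: H296/PQ/SzRee
section
/-!
# S4981: the rows `Sz(q)` (`p ≠ 2`) and `²G₂(q)` (`p ≠ 3`)

The Sylow `p`-subgroups are cyclic for `p ≥ 5` (and for `p = 3` in `Sz(q)`); for `²G₂(q)`, `p = 2`, a Sylow 2-subgroup of
order 8 lies in the group over the fixed field of the automorphism.
-/

set_option autoImplicit false

open Subgroup

namespace Cfsg.Agent.H296.PQ.SR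

open Cfsg Cfsg.Lie Cfsg.Agent.H54.PQ Cfsg.Agent.H967.CopMat Cfsg.Agent.H967.CopRow Cfsg.Agent.H967.CopSz
  Cfsg.Agent.H967.CopFix Cfsg.Agent.H967.FaBase Cfsg.Agent.H967.FaTw Cfsg.Agent.H55.PQ.Red Cfsg.Agent.H239.PQCyc

universe u v w

/-- CENT (copy of the statement of the plan) : `⟨f⟩` centralises a Sylow `p`-subgroup of `S` -/
theorem centSyl_of_card' {p : ℕ} [Fact p.Prime] {S : Type u} [Group S] [Finite S] {G : Type v} [Group G] [Finite G]
    (π : G →* S) (hπ : Function.Surjective π) {G₀ : Type w} [Group G₀] [Finite G₀] (j : G₀ →* G)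
    (hj : Function.Injective j) (h : (Nat.card G).factorization p = (Nat.card G₀).factorization p) (f' : MulAut G)
    (f : MulAut S) (hf' : ∀ x, f' (j x) = j x) (hff : ∀ g, π (f' g) = f (π g)) :
    CentSyl p (Subgroup.zpowers f) := by
  obtain ⟨P₀⟩ : Nonempty (Sylow p G₀) := inferInstance
  let Q : Sylow p G := Sylow.ofCard ((P₀ : Subgroup G₀).map j) (by
    rw [Subgroup.card_map_of_injective hj, P₀.card_eq_multiplicity, h])
  refine ⟨Q.mapSurjective hπ, fun g hg x hx => ?_⟩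
  have hx' : x ∈ (Q : Subgroup G).map π := hx
  obtain ⟨_, ⟨y, _, rfl⟩, rfl⟩ := hx'
  have h1 : f ∈ MulAction.stabilizer (MulAut S) (π (j y)) := by
    rw [MulAction.mem_stabilizer_iff]
    show f (π (j y)) = π (j y)
    rw [← hff, hf']
  exact MulAction.mem_stabilizer_iff.1 ((Subgroup.zpowers_le.2 h1) hg)

/-- **`Sz(q)`, `p ≠ 2`** -/
theorem row_sz_cross {p q : ℕ} (hp2 : p ≠ 2) {G : Type u} [Group G] [Finite G] (hG : Lie.IsoSuzuki G) :
    SFact p q G := by
  intro hp hq hpq hqG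
  have : Fact p.Prime := ⟨hp⟩
  obtain ⟨P⟩ : Nonempty (Sylow p G) := inferInstance
  exact sfact_of_cyclic hp2 P (OddRank.SzTits.isCyclic_of_isPGroup hG hp2 P P.isPGroup') hp hq hpq hqG

/-- the 2-part of `|²G₂(q)|` is 8 -/
theorem card_two {n : ℕ} (m : ℕ) (hn : n = (3 ^ (2 * m + 1)) ^ 3 * (3 ^ (2 * m + 1) - 1) * ((3 ^ (2 * m + 1)) ^ 3 + 1)) :
    n.factorization 2 = 3 := by
  have h8 : 3 ^ (2 * m + 1) % 8 = 3 := by
    clear hn
    induction m with
    | zero => rfl
    | succ k ih =>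
      have : 3 ^ (2 * (k + 1) + 1) = 9 * 3 ^ (2 * k + 1) := by ring
      omega
  obtain ⟨t, ht⟩ : ∃ t, 3 ^ (2 * m + 1) = 8 * t + 3 := ⟨3 ^ (2 * m + 1) / 8, by omega⟩
  rw [ht] at hn
  have h1 : 8 * t + 3 - 1 = 2 * (4 * t + 1) := by (clear * -; omega)
  have h2 : (8 * t + 3) ^ 3 + 1 = 4 * (2 * (64 * t ^ 3 + 72 * t ^ 2 + 27 * t + 3) + 1) := by ring
  have h3 : n = 2 ^ 3 * ((8 * t + 3) ^ 3 * (4 * t + 1) * (2 * (64 * t ^ 3 + 72 * t ^ 2 + 27 * t + 3) + 1)) := by
    rw [hn, h1, h2]; ring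
  have h4 : Odd ((8 * t + 3) ^ 3 * (4 * t + 1) * (2 * (64 * t ^ 3 + 72 * t ^ 2 + 27 * t + 3) + 1)) := by
    refine Odd.mul (Odd.mul (Odd.pow ?_) ?_) ?_
    · exact ⟨4 * t + 1, by ring⟩
    · exact ⟨2 * t, by ring⟩
    · exact ⟨_, rfl⟩
  rw [h3, Nat.factorization_mul (by norm_num) (by rintro h; rw [h] at h4; exact absurd h4 (by decide)),
    Nat.factorization_pow]
  simp only [Finsupp.coe_add, Finsupp.coe_smul, Pi.add_apply, Pi.smul_apply, smul_eq_mul]
  rw [Nat.Prime.factorization_self Nat.prime_two, Nat.factorization_eq_zero_of_not_dvd (by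
    intro h
    exact (Nat.not_even_iff_odd.2 h4) (even_iff_two_dvd.2 h))]

/-- **`²G₂(q)`, `p = 2`** -/
theorem ree_two {q : ℕ} {F : Type} [Field F] [Fintype F] {m : ℕ} (hm : 1 ≤ m) (hF : Fintype.card F = 3 ^ (2 * m + 1))
    [IsSimpleGroup ↥(twistedG2 F (3 ^ m))] : SFact 2 q ↥(twistedG2 F (3 ^ m)) := by
  have := Cfsg.Agent.H967.CopSz.three_prime
  have hc : CharP F 3 := charP_of_card Nat.prime_three hF
  have h : ∀ ψ : MulAut ↥(twistedG2 F (3 ^ m)), ∃ (g : ↥(twistedG2 F (3 ^ m))) (σ : F ≃+* F),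
      ψ = MulAut.conj g * fieldAut (stab_g2 _) σ := fun ψ => by
    obtain ⟨g, σ, h⟩ := Cfsg.Agent.H71.FldAut.ree_aut hm hF ψ
    exact ⟨g, σ, h⟩
  have hfin : Finite (F ≃+* F) := Finite.of_injective (fun f : F ≃+* F => (f : F → F)) DFunLike.coe_injective
  have hcard : Nat.card (F ≃+* F) = 2 * m + 1 := Cfsg.Agent.Lib.FieldAutCard.card_ringAut (by omega) hF
  obtain ⟨τ, hτ⟩ := exists_ringAut 3 (2 * m + 1) hF
  have hcyc : IsCyclic (F ≃+* F) := isCyclic_of_orderOf_eq_card τ (by rw [hτ, hcard])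
  have hord := S1069.result hF
  have hZ : center ↥(twistedG2 F (3 ^ m)) = ⊥ := by
    rcases (inferInstance : (center ↥(twistedG2 F (3 ^ m))).Normal).eq_bot_or_eq_top with h0 | h0
    · exact h0
    · exfalso
      have hcm : ∀ a b : ↥(twistedG2 F (3 ^ m)), a * b = b * a := fun a b =>
        (mem_center_iff.1 (h0 ▸ mem_top b : b ∈ center ↥(twistedG2 F (3 ^ m))) a)
      let cg : CommGroup ↥(twistedG2 F (3 ^ m)) := { (inferInstance : Group ↥(twistedG2 F (3 ^ m))) with mul_comm := hcm }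
      have hpr : (Nat.card ↥(twistedG2 F (3 ^ m))).Prime := @IsSimpleGroup.prime_card _ cg ‹_›
      have h2 := card_two m hord
      have h3 := hpr.factorization
      rw [h3] at h2
      rcases eq_or_ne (Nat.card ↥(twistedG2 F (3 ^ m))) 2 with h4 | h4
      · rw [h4] at h2
        simp at h2
      · rw [Finsupp.single_eq_of_ne h4.symm] at h2
        omega
  intro hp hq hpq hqS
  refine sfact_of_coprime hZ (solvable_of_conj_field (stab_g2 _) h) (fieldAut (stab_g2 _)) ?_ ?_ ?_ hp hq hpq hqS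
  · intro σ hσ
    refine not_inner_of_conj_field (stab_g2 _) (by omega) hF (S2127.result hm hF) h σ ?_
    rintro rfl
    rw [orderOf_one] at hσ
    exact hq.one_lt.ne hσ
  · intro k hk
    rwa [hcard, ← S2127.result hm hF]
  · intro _ hq hpq hqS φ h1 ⟨k, hk⟩
    have : Fact (Nat.Prime 2) := ⟨Nat.prime_two⟩
    have : Fintype ↥(Fx φ) := Fintype.ofFinite _
    have hE : 3 ^ (2 * m + 1) = Nat.card ↥(Fx φ) ^ orderOf φ := by
      rw [← card_Fx, Nat.card_eq_fintype_card, hF]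
    obtain ⟨m₀, j, h1, h2⟩ := exists_odd_exp Nat.prime_three hE
    have h4 : Fintype.card ↥(Fx φ) = 3 ^ (2 * m₀ + 1) := by rw [← Nat.card_eq_fintype_card, h1]
    have hle : (twistedG2 ↥(Fx φ) (3 ^ m)).map (Matrix.GeneralLinearGroup.map (Fx φ).subtype) ≤ twistedG2 F (3 ^ m) :=
      words_g2 (Fx φ).subtype _
    let f₀ : ↥(twistedG2 ↥(Fx φ) (3 ^ m)) →* ↥(twistedG2 F (3 ^ m)) :=
      { toFun := fun g => ⟨Matrix.GeneralLinearGroup.map (Fx φ).subtype g.1, hle ⟨g.1, g.2, rfl⟩⟩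
        map_one' := Subtype.ext (map_one _)
        map_mul' := fun a b => Subtype.ext (map_mul _ _ _) }
    have hfinE : Finite ↥(twistedG2 ↥(Fx φ) (3 ^ m)) := inferInstance
    refine centSyl_of_card' (MonoidHom.id _) (fun g => ⟨g, rfl⟩) f₀ ?_ ?_ (fieldAut (stab_g2 _) φ)
      (fieldAut (stab_g2 _) φ) (fun x => Subtype.ext (map_fixed φ x.1)) (fun g => rfl)
    · intro a b hab
      exact Subtype.ext (_root_.Cfsg.Agent.H967.CopMat.map_injective (Fx φ).subtype (congrArg Subtype.val hab))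
    · rw [card_two m hord]
      have h5 : Nat.card ↥(twistedG2 ↥(Fx φ) (3 ^ m)) = Nat.card ↥(twistedG2 ↥(Fx φ) (3 ^ m₀)) := by
        rw [twistedG2_congr (E := ↥(Fx φ)) (e := 3 ^ m) (pow_eq h1 h2)]
      rw [h5, card_two m₀ (S1069.result h4)]

/-- **`²G₂(q)`, `p ≠ 3`** -/
theorem row_ree_cross {p q : ℕ} (hp3 : p ≠ 3) {G : Type u} [Group G] [Finite G] [IsSimpleGroup G]
    (hG : Lie.IsoRee G) : SFact p q G := by
  intro hp hq hpq hqG
  have : Fact p.Prime := ⟨hp⟩
  obtain ⟨K, _, _, m, hm, hK, ⟨e⟩⟩ := hG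
  have hfin : Finite ↥(Cfsg.Lie.twistedG2 K (3 ^ m)) := Finite.of_equiv G e.toEquiv
  have hsim : IsSimpleGroup ↥(twistedG2 K (3 ^ m)) := MulEquiv.isSimpleGroup e.symm
  refine sfact_congr e ?_ hp hq hpq hqG
  by_cases hp2 : p = 2
  · subst hp2
    exact ree_two hm hK
  · obtain ⟨P⟩ : Nonempty (Sylow p ↥(twistedG2 K (3 ^ m))) := inferInstance
    have h5 : 3 < p := by
      have := hp.two_le
      have h4 : p ≠ 4 := by rintro rfl; exact absurd hp (by decide)
      omega
    exact sfact_of_cyclic hp2 P (S1156.result hm hK h5 P)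

end Cfsg.Agent.H296.PQ.SR
end

private theorem dce_9cf58407c136 : _root_.True := by
  try have : _root_.True := by simp only [_root_.Cfsg.Agent.H239.PQCyc.kap.congr_simp]
  try have : _root_.True := by simp only [_root_.Cfsg.Agent.H239.PQCyc.kapN.congr_simp]
  try have : _root_.True := by simp only [_root_.Cfsg.Agent.H239.PQCyc.nor.congr_simp]
  try have : _root_.True := by simp only [_root_.Cfsg.Agent.H239.PQCyc.mm.congr_simp]
  exact _root_.True.intro
end

section
prune_inst 0xfdfefbbbe8c9dfffff7fbffed5dffc30c6cfffefffff4bffe1f99fef9f23233bc56b979df050fe9ff7e39490b87813f9feceffe86bdc7ffffd5ff45ffbee0fa5e7bd0951d79c340ffc6fffe3f37fae6f000000000000000000000000000041004000000000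

-- part: H581/PQ/OfRgd
section
set_option linter.all false
open scoped Cfsg.Agent.FastGrp

/-!
# S4981: the subgroups `B`, `N`, `T`, `U` of a root group datum (helper581, task 4190)

For a group `Y` generated by a root group datum `R : RGD cs h p T n X` (`hG : GG cs h T X = ⊤`):

* `isPGroup_U`, `not_dvd_index_U`, `exists_bnb`, `T_le_B`, `T_le_N`, `U_sup_T`, `normalizer_U`, `conj_T` : the hypotheses
  of `pr_false` on `B = RGD.B`, `N = NN`, `T`, `U = RGD.Sup X (RGD.Pos cs h)`;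
* `map_U`, `map_N` : hypotheses on automorphisms which need to be checked on the root groups and on the `n i` only.
-/

set_option autoImplicit false
set_option linter.unusedSectionVars false

namespace Cfsg.Agent.H581.PQ

open Subgroup
open CoxeterSystem Cfsg.Agent.ChevalleyStructure.CoxeterGeom Cfsg.Agent.Tits.Roots Cfsg.Agent.Tits.Core
  Cfsg.Agent.Tits.RootComb Cfsg.Agent.Tits.Exchange Cfsg.Agent.Nodes.Reps Cfsg.Agent.Nodes.BNOf
  Cfsg.Agent.Nodes.StabComb Cfsg.Agent.Nodes.Bruhat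

variable {I W Y : Type*} [Fintype I] [DecidableEq I] [Group W] [Group Y] {M : CoxeterMatrix I}
  {cs : CoxeterSystem M W} {A : I → I → ℤ} {h : IsCartan M A} {p : ℕ} {T : Subgroup Y} {n : I → Y}
  {X : (I → ℤ) → Subgroup Y}

theorem isPGroup_U [Finite W] (R : RGD cs h p T n X) : IsPGroup p (RGD.Sup X (RGD.Pos cs h)) := R.isPGroup_Upos

theorem not_dvd_index_U [Finite W] [Finite Y] [Fact p.Prime] (R : RGD cs h p T n X) (hG : GG cs h T X = ⊤) :
    ¬ p ∣ (RGD.Sup X (RGD.Pos cs h)).index := by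
  obtain ⟨U, hU⟩ := H288.BnRgd.exists_U R hG
  rw [← hU]
  exact U.not_dvd_index

/-- `S = B N B` -/
theorem exists_bnb [Finite W] (R : RGD cs h p T n X) (hG : GG cs h T X = ⊤) (g : Y) :
    ∃ b ∈ RGD.B cs h T X, ∃ m ∈ NN cs R.nsys, ∃ b' ∈ RGD.B cs h T X, g = b * m * b' := by
  have h1 : g ∈ GG cs h T X := by rw [hG]; exact mem_top _
  obtain ⟨w, b, hb, k, hk, b', hb', e⟩ := (mem_GG R).1 h1
  exact ⟨b, hb, k, ⟨w, hk⟩, b', hb', e⟩

theorem T_le_B (cs : CoxeterSystem M W) (h : IsCartan M A) (T : Subgroup Y) (X : (I → ℤ) → Subgroup Y) :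
    T ≤ RGD.B cs h T X := le_sup_left

theorem T_le_N (R : RGD cs h p T n X) : T ≤ NN cs R.nsys := fun _ ht => ⟨1, rp_of_mem ht⟩

theorem U_sup_T (cs : CoxeterSystem M W) (h : IsCartan M A) (T : Subgroup Y) (X : (I → ℤ) → Subgroup Y) :
    RGD.Sup X (RGD.Pos cs h) ⊔ T = RGD.B cs h T X := sup_comm _ _

theorem conj_T (R : RGD cs h p T n X) {m : Y} (hm : m ∈ NN cs R.nsys) {t : Y} (ht : t ∈ T) : m * t * m⁻¹ ∈ T := by
  obtain ⟨w, hw⟩ := hm
  exact (mem_normalizer_iff.1 hw.mem_normalizer t).1 ht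

/-- it is enough to look at the positive root groups -/
theorem map_U (β : MulAut Y) (hβ : ∀ x ∈ RGD.Pos cs h, ∀ u ∈ X x, β u ∈ RGD.Sup X (RGD.Pos cs h)) :
    ∀ u ∈ RGD.Sup X (RGD.Pos cs h), β u ∈ RGD.Sup X (RGD.Pos cs h) := by
  have h1 : RGD.Sup X (RGD.Pos cs h) ≤ (RGD.Sup X (RGD.Pos cs h)).comap β.toMonoidHom :=
    RGD.Sup_le fun z hz u hu => hβ z hz u hu
  exact fun u hu => h1 hu

/-- it is enough to look at the `n i` -/
theorem map_N (R : RGD cs h p T n X) (β : MulAut Y) (hT : ∀ t ∈ T, β t ∈ T) (hn : ∀ i, (n i)⁻¹ * β (n i) ∈ T) :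
    ∀ m ∈ NN cs R.nsys, m⁻¹ * β m ∈ T := by
  have hconj : ∀ i, ∀ t ∈ T, (n i)⁻¹ * t * n i ∈ T := by
    intro i t ht
    have h1 := (mem_normalizer_iff.1 (inv_mem (R.nsys.norm i)) t).1 ht
    rwa [inv_inv] at h1
  have key : ∀ ω : List I, ∃ k, Rp cs R.nsys (cs.wordProd ω) k ∧ k⁻¹ * β k ∈ T := by
    intro ω
    induction ω with
    | nil => exact ⟨1, by rw [wordProd_nil]; exact rp_one, by rw [map_one, mul_one, inv_one]; exact one_mem _⟩
    | cons i ω ih =>
      obtain ⟨k, hk, e⟩ := ih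
      refine ⟨n i * k, by rw [wordProd_cons]; exact (rp_simple cs R.nsys i).mul hk, ?_⟩
      have h2 : (n i * k)⁻¹ * β (n i * k) = (k⁻¹ * ((n i)⁻¹ * β (n i)) * k) * (k⁻¹ * β k) := by
        rw [map_mul]; group
      rw [h2]
      refine mul_mem ?_ e
      have h3 := (mem_normalizer_iff.1 (inv_mem hk.mem_normalizer) _).1 (hn i)
      rwa [inv_inv] at h3
  rintro m ⟨w, hw⟩
  obtain ⟨ω, rfl⟩ := cs.wordProd_surjective w
  obtain ⟨k, hk, e⟩ := key ω
  have h1 : k⁻¹ * m ∈ T := hk.unique hw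
  have h2 : m⁻¹ * β m = (k⁻¹ * m)⁻¹ * (k⁻¹ * β k) * (β (k⁻¹ * m)) := by
    rw [map_mul, map_inv]; group
  rw [h2]
  exact mul_mem (mul_mem (inv_mem h1) e) (hT _ h1)

end Cfsg.Agent.H581.PQ
end

-- part: H20/PQ/CaseAb_mg
section
prune_inst 0x200000400060000000000002a0003c4282000100000b0001c062000404848c4329048620f0e012000100a26400388040100000790008000000008a0041190481842842828208b100200001008805180000000000000000000000000000000000200000000
set_option linter.all false
open scoped Cfsg.Agent.FastGrp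

-- part: H20/PQ/Basic
section
/-!
# S4981, the reduction (A) => (B): setup, `star`, Frattini arguments (helper20)

`Facts p q` collects the facts of the other rows as hypotheses.
-/

set_option autoImplicit false
set_option linter.style.longLine false
set_option linter.style.haveILetI false
set_option linter.unusedSectionVars false

namespace Cfsg.Agent.H20.PQ

open Subgroup Cfsg Cfsg.Agent.H54.PQ Cfsg.Agent.Characters.Core Cfsg.Agent.H672
open scoped ComplexConjugate

universe u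

/-- the facts of the other rows -/
structure Facts (p q : ℕ) : Prop where
  uniq : ∀ (G : Type u) [Group G] [Finite G], IsPSolvable q G → ∀ (P : Sylow p G) (Q : Sylow q G),
    normalizer ((P : Subgroup G) : Set G) ≤ normalizer ((Q : Subgroup G) : Set G) → ∀ R : Subgroup G,
    (P : Subgroup G) ≤ R → ∀ Q' : Sylow q G, (Q' : Subgroup G) ≤ R → (Q : Subgroup G) ≤ R
  sylow_inv : ∀ (G : Type u) [Group G] [Finite G] (K : Subgroup G) [K.Normal] (θ : IrrCharacter K)
    (χ : IrrCharacter G), ¬ q ∣ charDegree (χ : G → ℂ) →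
    ∑ᶠ k : K, (χ : G → ℂ) k * (starRingEnd ℂ) ((θ : K → ℂ) k) ≠ 0 →
    ∃ Q : Sylow q G, ∀ x ∈ Q, InvF (MulAut.conjNormal x : MulAut K) (θ : K → ℂ)
  ex_over : ∀ (G : Type u) [Group G] [Finite G] (K : Subgroup G) [K.Normal] (P : Sylow p G),
    (¬ p ∣ Nat.card K ∨ ⁅K, K⁆ = K) → ∀ (θ : IrrCharacter K), ¬ p ∣ charDegree (θ : K → ℂ) →
    (∀ x ∈ P, InvF (MulAut.conjNormal x : MulAut K) (θ : K → ℂ)) →
    ∃ χ : IrrCharacter G, ¬ p ∣ charDegree (χ : G → ℂ) ∧
      ∑ᶠ k : K, (χ : G → ℂ) k * (starRingEnd ℂ) ((θ : K → ℂ) k) ≠ 0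
  inv_over : ∀ (S : Type u) [Group S] [Finite S] (A : Subgroup (MulAut S)), IsPGroup p A → ∀ (H : Subgroup S),
    (∀ a ∈ A, H.map (a : MulAut S).toMonoidHom = H) → ¬ p ∣ H.index → ∀ (ψ : IrrCharacter H),
    ¬ p ∣ charDegree (ψ : H → ℂ) →
    (∀ a ∈ A, ∀ (g h : H), (h : S) = a g → (ψ : H → ℂ) h = (ψ : H → ℂ) g) →
    ∃ χ : IrrCharacter S, ¬ p ∣ charDegree (χ : S → ℂ) ∧ (∀ a ∈ A, InvF a (χ : S → ℂ)) ∧
      ∑ᶠ h : H, (χ : S → ℂ) h * (starRingEnd ℂ) ((ψ : H → ℂ) h) ≠ 0
  gl_two : ∀ (K : Type u) [Group K] [Finite K], ¬ p ∣ Nat.card K → ¬ q ∣ Nat.card K →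
    ∀ (P Q : Subgroup (MulAut K)), IsPGroup p P → IsPGroup q Q → (∀ a ∈ P, ∀ b ∈ Q, a * b * a⁻¹ ∈ Q) →
    (∀ χ : IrrCharacter K, (∀ a ∈ P, InvF a (χ : K → ℂ)) → ∀ b ∈ Q, InvF b (χ : K → ℂ)) → ∀ x : K,
    (∀ a ∈ P, a x = x) → ∀ b ∈ Q, b x = x
  lemma_N : ∀ (K : Type u) [Group K] [Finite K], ¬ q ∣ Nat.card K → ∀ (P Q : Subgroup (MulAut K)),
    IsPGroup p P → IsPGroup q Q → (∀ a ∈ P, ∀ b ∈ Q, a * b * a⁻¹ ∈ Q) → ∀ (P₀ : Sylow p K),
    (P₀ : Subgroup K).map (MulAut.conj : K →* MulAut K) ≤ P →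
    (∀ a ∈ P, (P₀ : Subgroup K).map (a : MulAut K).toMonoidHom = P₀) →
    (∀ b ∈ Q, ∀ x ∈ P₀, b x = x) → InvHyp p P Q → ∀ x : K,
    (∀ a ∈ P, x * (a x)⁻¹ ∈ (P₀ : Subgroup K)) → ∀ b ∈ Q, b x = x

variable {p q : ℕ} [hp : Fact p.Prime] [hq : Fact q.Prime] {G : Type u} [Group G] [Finite G]

/-! ### translations -/

theorem over_iff_sum (K : Subgroup G) (χ : G → ℂ) (θ : K → ℂ) :
    Over K.subtype χ θ ↔ ∑ᶠ k : K, χ k * (starRingEnd ℂ) (θ k) ≠ 0 := by
  letI := Fintype.ofFinite K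
  rw [over_iff, finsum_eq_sum_of_fintype]
  unfold classInner
  have h : (Nat.card K : ℂ)⁻¹ ≠ 0 := inv_ne_zero (Nat.cast_ne_zero.2 Nat.card_pos.ne')
  constructor
  · intro h1 h2
    apply h1
    have h3 : ∑ g : K, (χ ∘ K.subtype) g * conj (θ g) = 0 := h2
    rw [h3, mul_zero]
  · intro h1 h2
    rcases mul_eq_zero.1 h2 with h3 | h3
    · exact h h3
    · exact h1 h3

theorem invF_iff (K : Subgroup G) [K.Normal] (θ : K → ℂ) (x : G) :
    InvF (MulAut.conjNormal x : MulAut K) θ ↔ x ∈ inertia K θ := by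
  rw [mem_inertia, funext_iff]
  rfl

/-- the condition on the quotient -/
structure Red (p q : ℕ) (K P Q₁ : Subgroup G) : Prop where
  syl : ∃ Q : Sylow q G, Q₁ = (Q : Subgroup G) ⊔ K
  nor : normalizer ((P ⊔ K : Subgroup G) : Set G) ≤ normalizer (Q₁ : Set G)
  der : ⁅Q₁, Q₁⁆ ⊓ centralizer (P : Set G) ≤ K

/-! ### quotients -/

theorem charDegree_comp {H : Type*} [Group H] (f : G →* H) (χ : H → ℂ) : charDegree (χ ∘ f) = charDegree χ := by
  unfold charDegree
  simp

theorem condA_quot (hA : CondA p q G) (K : Subgroup G) [K.Normal] : CondA p q (G ⧸ K) := by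
  intro χ h
  have h1 : IsIrrCharacter G ((χ : G ⧸ K → ℂ) ∘ QuotientGroup.mk' K) :=
    isIrr_comp _ (QuotientGroup.mk'_surjective K) χ.2
  have h2 := hA ⟨_, h1⟩
  simp only [charDegree_comp] at h2
  exact h2 h

theorem comap_map_mk (K H : Subgroup G) [K.Normal] :
    (H.map (QuotientGroup.mk' K)).comap (QuotientGroup.mk' K) = H ⊔ K := by
  rw [Subgroup.comap_map_eq, QuotientGroup.ker_mk']

theorem exists_red (K : Subgroup G) [K.Normal] (hB : CondB p q (G ⧸ K)) :
    ∃ (P : Sylow p G) (Q₁ : Subgroup G), Red p q K (P : Subgroup G) Q₁ := by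
  obtain ⟨P', Q', h1, h2⟩ := hB
  have hs := QuotientGroup.mk'_surjective K
  obtain ⟨P, rfl⟩ := Sylow.mapSurjective_surjective hs p P'
  obtain ⟨Q, rfl⟩ := Sylow.mapSurjective_surjective hs q Q'
  rw [Sylow.coe_mapSurjective, Sylow.coe_mapSurjective] at h1 h2
  refine ⟨P, (Q : Subgroup G) ⊔ K, ⟨Q, rfl⟩, ?_, ?_⟩
  · rw [← comap_map_mk K (P : Subgroup G), ← comap_map_mk K (Q : Subgroup G),
      ← Subgroup.comap_normalizer_eq_of_surjective _ hs, ← Subgroup.comap_normalizer_eq_of_surjective _ hs]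
    exact Subgroup.comap_mono h1
  · intro x hx
    have h3 : QuotientGroup.mk' K x ∈ ⁅(Q : Subgroup G).map (QuotientGroup.mk' K), (Q : Subgroup G).map (QuotientGroup.mk' K)⁆ ⊓
        centralizer (((P : Subgroup G).map (QuotientGroup.mk' K) : Subgroup (G ⧸ K)) : Set (G ⧸ K)) := by
      constructor
      · have h4 : QuotientGroup.mk' K x ∈ (⁅(Q : Subgroup G) ⊔ K, (Q : Subgroup G) ⊔ K⁆).map (QuotientGroup.mk' K) :=
          ⟨x, hx.1, rfl⟩
        have h5 : K.map (QuotientGroup.mk' K) = ⊥ := by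
          rw [Subgroup.map_eq_bot_iff, QuotientGroup.ker_mk']
        rw [Subgroup.map_commutator, Subgroup.map_sup, h5, sup_bot_eq] at h4
        exact h4
      · have h4 : x ∈ centralizer ((P : Subgroup G) : Set G) := hx.2
        show QuotientGroup.mk' K x ∈ centralizer _
        rw [mem_centralizer_iff] at h4 ⊢
        rintro _ ⟨y, hy, rfl⟩
        rw [← map_mul, ← map_mul, h4 y hy]
    rw [h2, mem_bot] at h3
    exact (QuotientGroup.eq_one_iff x).1 h3

/-! ### star -/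

theorem star (hF : Facts.{u} p q) (hs : IsPSolvable q G) (hA : CondA p q G) (K : Subgroup G) [K.Normal]
    (P : Sylow p G) (Q₁ : Subgroup G) (hR : Red p q K (P : Subgroup G) Q₁) (θ : K → ℂ) (hθ : IsIrrCharacter K θ)
    (hθP : (P : Subgroup G) ≤ inertia K θ) (χ : G → ℂ) (hχ : IsIrrCharacter G χ) (hd : ¬ p ∣ charDegree χ)
    (ho : Over K.subtype χ θ) : Q₁ ≤ inertia K θ := by
  have hqd := hA ⟨χ, hχ⟩ hd
  obtain ⟨Q', hQ'⟩ := hF.sylow_inv G K ⟨θ, hθ⟩ ⟨χ, hχ⟩ hqd ((over_iff_sum K χ θ).1 ho)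
  have hs1 := QuotientGroup.mk'_surjective K
  obtain ⟨Q, rfl⟩ := hR.syl
  have hK : K ≤ inertia K θ := le_inertia (isIrr_isClassFunction hθ)
  have h1 := hF.uniq (G ⧸ K) (PLocal.PSolvable.isPSolvable_quotient hs K) (P.mapSurjective hs1)
    (Q.mapSurjective hs1) (by
      have h2 := hR.nor
      rw [← comap_map_mk K (P : Subgroup G), ← comap_map_mk K (Q : Subgroup G),
        ← Subgroup.comap_normalizer_eq_of_surjective _ hs1, ← Subgroup.comap_normalizer_eq_of_surjective _ hs1] at h2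
      rw [Sylow.coe_mapSurjective, Sylow.coe_mapSurjective]
      exact (Subgroup.comap_le_comap_of_surjective hs1).1 h2) ((inertia K θ).map (QuotientGroup.mk' K)) (by
      rw [Sylow.coe_mapSurjective]
      exact Subgroup.map_mono hθP) (Q'.mapSurjective hs1) (by
      rw [Sylow.coe_mapSurjective]
      refine Subgroup.map_mono fun x hx => ?_
      exact (invF_iff K θ x).1 (hQ' x hx))
  rw [Sylow.coe_mapSurjective] at h1
  have h2 := Subgroup.comap_mono (f := QuotientGroup.mk' K) h1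
  rw [comap_map_mk, comap_map_mk, sup_eq_left.2 hK] at h2
  exact h2

/-- characters of degree prime to `p` which are `P`-invariant are `Q₁`-invariant -/
theorem key (hF : Facts.{u} p q) (hs : IsPSolvable q G) (hA : CondA p q G) (K : Subgroup G) [K.Normal]
    (P : Sylow p G) (Q₁ : Subgroup G) (hR : Red p q K (P : Subgroup G) Q₁) (hK : ¬ p ∣ Nat.card K ∨ ⁅K, K⁆ = K)
    (θ : K → ℂ) (hθ : IsIrrCharacter K θ) (hd : ¬ p ∣ charDegree θ) (hθP : (P : Subgroup G) ≤ inertia K θ) :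
    Q₁ ≤ inertia K θ := by
  obtain ⟨χ, h1, h2⟩ := hF.ex_over G K P hK ⟨θ, hθ⟩ hd fun x hx => (invF_iff K θ x).2 (hθP hx)
  exact star hF hs hA K P Q₁ hR θ hθ hθP χ χ.2 h1 ((over_iff_sum K χ θ).2 h2)

end Cfsg.Agent.H20.PQ
end

-- part: H20/PQ/Frat
section
/-!
# S4981, the reduction (A) => (B): Frattini arguments (helper20)
-/

set_option autoImplicit false
set_option linter.style.longLine false
set_option linter.style.haveILetI false
set_option linter.unusedSectionVars false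

namespace Cfsg.Agent.H20.PQ

open Subgroup Cfsg Cfsg.Agent.H54.PQ Cfsg.Agent.Characters.Core Cfsg.Agent.H672
open scoped ComplexConjugate Pointwise

universe u

variable {p q : ℕ} [hp : Fact p.Prime] [hq : Fact q.Prime] {G : Type u} [Group G] [Finite G]

/-- Sylow subgroups of `G` inside `J` are conjugate in `J` -/
theorem exists_conj_in (P P' : Sylow p G) {J : Subgroup G} (h : (P : Subgroup G) ≤ J) (h' : (P' : Subgroup G) ≤ J) :
    ∃ m ∈ J, m • P = P' := by
  obtain ⟨m, hm⟩ := MulAction.exists_smul_eq J (P.subtype h) (P'.subtype h')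
  refine ⟨m, m.2, ?_⟩
  rw [Sylow.smul_subtype] at hm
  exact Sylow.subtype_injective hm

theorem mem_smul_iff (P : Sylow p G) (g x : G) : x ∈ ((g • P : Sylow p G) : Subgroup G) ↔ g⁻¹ * x * g ∈ (P : Subgroup G) := by
  rw [Sylow.coe_subgroup_smul, Subgroup.mem_pointwise_smul_iff_inv_smul_mem]
  have : (MulAut.conj g)⁻¹ • x = g⁻¹ * x * g := by
    rw [← map_inv, MulAut.smul_def, MulAut.conj_apply, inv_inv]
  rw [this]

theorem smul_eq_iff (P : Sylow p G) {g : G} : g • P = P ↔ g ∈ normalizer ((P : Subgroup G) : Set G) :=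
  Sylow.smul_eq_iff_mem_normalizer

/-- Frattini: elements normalising `Q K` -/
theorem exists_norm (Q : Sylow q G) (K : Subgroup G) [K.Normal] {g : G}
    (hg : g ∈ normalizer (((Q : Subgroup G) ⊔ K : Subgroup G) : Set G)) :
    ∃ k ∈ K, k⁻¹ * g ∈ normalizer ((Q : Subgroup G) : Set G) := by
  have h1 : ((g • Q : Sylow q G) : Subgroup G) ≤ (Q : Subgroup G) ⊔ K := by
    intro x hx
    rw [mem_smul_iff] at hx
    have h2 := (mem_normalizer_iff.1 hg (g⁻¹ * x * g)).1 (le_sup_left (b := K) hx)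
    have h3 : g * (g⁻¹ * x * g) * g⁻¹ = x := by group
    rwa [h3] at h2
  obtain ⟨z, hz, hzQ⟩ := exists_conj_in Q (g • Q) (le_sup_left (b := K)) h1
  rw [sup_comm, Subgroup.mem_sup_of_normal_left] at hz
  obtain ⟨k, hk, y, hy, rfl⟩ := hz
  refine ⟨k, hk, ?_⟩
  have h4 : y • Q = Q := (smul_eq_iff _).2 (le_normalizer hy)
  rw [mul_smul, h4] at hzQ
  rw [← smul_eq_iff, mul_smul, ← hzQ, inv_smul_smul]

/-- elements of `K` normalising `Q` centralise `Q` -/
theorem comm_of_norm (Q : Sylow q G) (K : Subgroup G) [hK : K.Normal] (hqK : ¬ q ∣ Nat.card K) {x : G} (hx : x ∈ K)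
    (hn : x ∈ normalizer ((Q : Subgroup G) : Set G)) {y : G} (hy : y ∈ (Q : Subgroup G)) : x * y = y * x := by
  have h1 : x * y * x⁻¹ * y⁻¹ ∈ (Q : Subgroup G) :=
    mul_mem ((mem_normalizer_iff.1 hn y).1 hy) (inv_mem hy)
  have h2 : x * y * x⁻¹ * y⁻¹ ∈ K := by
    have h3 : x * y * x⁻¹ * y⁻¹ = x * (y * x⁻¹ * y⁻¹) := by group
    rw [h3]
    exact mul_mem hx (hK.conj_mem _ (inv_mem hx) _)
  have h3 : (Q : Subgroup G) ⊓ K = ⊥ := by
    have h4 : (Nat.card (Q : Subgroup G)).Coprime (Nat.card K) := by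
      obtain ⟨n, hn⟩ := IsPGroup.iff_card.1 Q.isPGroup'
      rw [hn]
      exact Nat.Coprime.pow_left n ((Nat.Prime.coprime_iff_not_dvd hq.out).2 hqK)
    exact (Subgroup.disjoint_of_coprime_natCard h4).eq_bot
  have h4 : x * y * x⁻¹ * y⁻¹ = 1 := by
    have : x * y * x⁻¹ * y⁻¹ ∈ (Q : Subgroup G) ⊓ K := ⟨h1, h2⟩
    rwa [h3, mem_bot] at this
  have h5 : x * y = (x * y * x⁻¹ * y⁻¹) * (y * x) := by group
  rw [h5, h4, one_mul]

/-- FINISH -/
theorem finish (P : Sylow p G) (Q : Sylow q G) (K : Subgroup G) [hK : K.Normal] (hqK : ¬ q ∣ Nat.card K)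
    (hPQ : (P : Subgroup G) ≤ normalizer ((Q : Subgroup G) : Set G))
    (hN : normalizer ((P : Subgroup G) : Set G) ≤ normalizer (((Q : Subgroup G) ⊔ K : Subgroup G) : Set G))
    (hc : ∀ x ∈ K, x ∈ normalizer ((P : Subgroup G) : Set G) → ∀ b ∈ (Q : Subgroup G), x * b = b * x) :
    normalizer ((P : Subgroup G) : Set G) ≤ normalizer ((Q : Subgroup G) : Set G) := by
  intro g hg
  obtain ⟨k, hk, hn⟩ := exists_norm Q K (hN hg)
  set n := k⁻¹ * g with hnd
  have hgP : g • P = P := (smul_eq_iff _).2 hg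
  have hnP : n • P = k⁻¹ • P := by
    rw [hnd, mul_smul, hgP]
  have hJ : ((P : Subgroup G) ≤ normalizer ((Q : Subgroup G) : Set G) ⊓ (K ⊔ (P : Subgroup G))) :=
    le_inf hPQ le_sup_right
  have hJ' : (((k⁻¹ • P : Sylow p G) : Subgroup G) ≤ normalizer ((Q : Subgroup G) : Set G) ⊓ (K ⊔ (P : Subgroup G))) := by
    apply le_inf
    · rw [← hnP]
      intro x hx
      rw [mem_smul_iff] at hx
      have h1 : n * (n⁻¹ * x * n) * n⁻¹ ∈ normalizer ((Q : Subgroup G) : Set G) := mul_mem (mul_mem hn (hPQ hx)) (inv_mem hn)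
      have h2 : n * (n⁻¹ * x * n) * n⁻¹ = x := by group
      rwa [h2] at h1
    · intro x hx
      rw [mem_smul_iff, inv_inv] at hx
      have h1 : k⁻¹ * (k * x * k⁻¹) * k = x := by group
      rw [← h1]
      exact mul_mem (mul_mem (le_sup_left (b := (P : Subgroup G)) (inv_mem hk)) (le_sup_right (a := K) hx))
        (le_sup_left (b := (P : Subgroup G)) hk)
  obtain ⟨m, hm, hmP⟩ := exists_conj_in P (k⁻¹ • P) hJ hJ'
  obtain ⟨hmQ, hm2⟩ := Subgroup.mem_inf.1 hm
  rw [Subgroup.mem_sup_of_normal_left] at hm2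
  obtain ⟨c, hcK, a, ha, rfl⟩ := hm2
  have hcQ : c ∈ normalizer ((Q : Subgroup G) : Set G) := by
    have h1 : c = c * a * a⁻¹ := by group
    rw [h1]
    exact mul_mem hmQ (inv_mem (hPQ ha))
  have haP : a • P = P := (smul_eq_iff _).2 (le_normalizer ha)
  have hkcP : (k * c) ∈ normalizer ((P : Subgroup G) : Set G) := by
    rw [← smul_eq_iff, mul_smul]
    rw [mul_smul, haP] at hmP
    rw [hmP, smul_inv_smul]
  have hkc := hc (k * c) (mul_mem hk hcK) hkcP
  have hkN : k ∈ normalizer ((Q : Subgroup G) : Set G) := by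
    have h1 : k * c ∈ normalizer ((Q : Subgroup G) : Set G) := by
      apply Subgroup.centralizer_le_normalizer
      rw [mem_centralizer_iff]
      intro b hb
      exact (hkc b hb).symm
    have h2 : k = k * c * c⁻¹ := by group
    rw [h2]
    exact mul_mem h1 (inv_mem hcQ)
  have h3 : g = k * n := by rw [hnd]; group
  rw [h3]
  exact mul_mem hkN hn

/-- if the number of Sylow `q`-subgroups of `Q K` is prime to `p` then `P` normalises a conjugate of `Q` -/
theorem exists_fix (P : Sylow p G) (Q : Sylow q G) (K : Subgroup G) [hK : K.Normal]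
    (hN : (P : Subgroup G) ≤ normalizer (((Q : Subgroup G) ⊔ K : Subgroup G) : Set G))
    (hi : ¬ p ∣ (normalizer ((Q : Subgroup G) : Set G)).relIndex K) :
    ∃ k ∈ K, (P : Subgroup G) ≤ normalizer (((k • Q : Sylow q G) : Subgroup G) : Set G) := by
  set N := normalizer ((Q : Subgroup G) : Set G) with hNd
  let X : Set (G ⧸ N) := MulAction.orbit K ((1 : G) : G ⧸ N)
  have hX : ∀ a ∈ (P : Subgroup G), ∀ x ∈ X, a • x ∈ X := by
    rintro a ha _ ⟨k, rfl⟩
    obtain ⟨k', hk', hn⟩ := exists_norm Q K (hN ha)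
    refine ⟨⟨a * k * a⁻¹ * k', mul_mem (hK.conj_mem _ k.2 _) hk'⟩, ?_⟩
    show ((a * k * a⁻¹ * k' * 1 : G) : G ⧸ N) = ((a * (k * 1) : G) : G ⧸ N)
    rw [QuotientGroup.eq]
    have h1 : (a * (k : G) * a⁻¹ * k' * 1)⁻¹ * (a * (k * 1)) = k'⁻¹ * a := by group
    rw [h1]
    exact hn
  let S : SubMulAction P (G ⧸ N) :=
    { carrier := X
      smul_mem' := fun a {x} hx => hX a a.2 x hx }
  have hcard : Nat.card S = N.relIndex K := by
    have h1 : Nat.card S = X.ncard := rfl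
    rw [h1, ← MulAction.index_stabilizer]
    congr 1
    ext k
    rw [MulAction.mem_stabilizer_iff, Subgroup.mem_subgroupOf]
    show ((k * 1 : G) : G ⧸ N) = ((1 : G) : G ⧸ N) ↔ _
    rw [QuotientGroup.eq, mul_one, mul_one, inv_mem_iff]
  obtain ⟨⟨x, k, hx⟩, hfix⟩ := P.isPGroup'.nonempty_fixed_point_of_prime_not_dvd_card S (by rw [hcard]; exact hi)
  refine ⟨k, k.2, fun a ha => ?_⟩
  have h1 : a • x = x := congrArg Subtype.val (hfix ⟨a, ha⟩)
  have hx' : ((k * 1 : G) : G ⧸ N) = x := hx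
  rw [← hx'] at h1
  have h2 : ((a * (k * 1) : G) : G ⧸ N) = ((k * 1 : G) : G ⧸ N) := h1
  rw [eq_comm, QuotientGroup.eq] at h2
  have h3 : ((k : G) * 1)⁻¹ * (a * (k * 1)) = (k : G)⁻¹ * a * k := by group
  rw [h3] at h2
  rw [← smul_eq_iff] at h2 ⊢
  rw [mul_smul, mul_smul, inv_smul_eq_iff] at h2
  exact h2

theorem sup_smul (Q : Sylow q G) (K : Subgroup G) [hK : K.Normal] {k : G} (hk : k ∈ K) :
    ((k • Q : Sylow q G) : Subgroup G) ⊔ K = (Q : Subgroup G) ⊔ K := by
  apply le_antisymm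
  · refine sup_le ?_ le_sup_right
    intro x hx
    rw [mem_smul_iff] at hx
    have h1 : k * (k⁻¹ * x * k) * k⁻¹ = x := by group
    rw [← h1]
    exact mul_mem (mul_mem (le_sup_right (a := (Q : Subgroup G)) hk) (le_sup_left (b := K) hx))
      (le_sup_right (a := (Q : Subgroup G)) (inv_mem hk))
  · refine sup_le ?_ le_sup_right
    intro x hx
    have h1 : k⁻¹ * (k * x * k⁻¹) * k = x := by group
    have h2 : k * x * k⁻¹ ∈ ((k • Q : Sylow q G) : Subgroup G) := by
      rw [mem_smul_iff, show k⁻¹ * (k * x * k⁻¹) * k = x by group]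
      exact hx
    rw [← h1]
    exact mul_mem (mul_mem (le_sup_right (a := ((k • Q : Sylow q G) : Subgroup G)) (inv_mem hk)) (le_sup_left (b := K) h2))
      (le_sup_right (a := ((k • Q : Sylow q G) : Subgroup G)) hk)

theorem normalizer_le (P : Subgroup G) (K : Subgroup G) [hK : K.Normal] :
    normalizer (P : Set G) ≤ normalizer ((P ⊔ K : Subgroup G) : Set G) := by
  intro g hg
  rw [mem_normalizer_iff_map_conj_eq] at hg ⊢
  rw [Subgroup.map_sup, hg]
  congr 1
  rw [← mem_normalizer_iff_map_conj_eq, normalizer_eq_top]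
  exact mem_top g

/-- conclusion for `q ∤ |K|` -/
theorem condB_of {K Q₁ : Subgroup G} [hK : K.Normal] (P : Sylow p G) (hR : Red p q K (P : Subgroup G) Q₁)
    (Q : Sylow q G) (hQ : (Q : Subgroup G) ⊔ K = Q₁) (hqK : ¬ q ∣ Nat.card K)
    (hPQ : (P : Subgroup G) ≤ normalizer ((Q : Subgroup G) : Set G))
    (hc : ∀ x ∈ K, x ∈ normalizer ((P : Subgroup G) : Set G) → ∀ b ∈ (Q : Subgroup G), x * b = b * x) :
    CondB p q G := by
  refine ⟨P, Q, finish P Q K hqK hPQ ?_ hc, ?_⟩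
  · rw [hQ]
    exact (normalizer_le _ K).trans hR.nor
  · rw [eq_bot_iff]
    intro x hx
    have h1 : x ∈ K := hR.der ⟨Subgroup.commutator_mono (hQ ▸ le_sup_left) (hQ ▸ le_sup_left) hx.1, hx.2⟩
    have h2 : x ∈ (Q : Subgroup G) := Subgroup.commutator_le_self _ hx.1
    have h3 : (Q : Subgroup G) ⊓ K = ⊥ := by
      have h4 : (Nat.card (Q : Subgroup G)).Coprime (Nat.card K) := by
        obtain ⟨n, hn⟩ := IsPGroup.iff_card.1 Q.isPGroup'
        rw [hn]
        exact Nat.Coprime.pow_left n ((Nat.Prime.coprime_iff_not_dvd hq.out).2 hqK)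
      exact (Subgroup.disjoint_of_coprime_natCard h4).eq_bot
    rw [← h3]
    exact ⟨h2, h1⟩

end Cfsg.Agent.H20.PQ
end

-- part: H20/PQ/CaseAb
section
/-!
# S4981, the reduction (A) => (B): elementary abelian minimal normal subgroups and `{p,q}'`-groups (helper20)
-/

set_option autoImplicit false
set_option linter.style.longLine false
set_option linter.style.haveILetI false
set_option linter.unusedSectionVars false
set_option linter.unusedVariables false

namespace Cfsg.Agent.H20.PQ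

open Subgroup Cfsg Cfsg.Agent.H54.PQ Cfsg.Agent.Characters.Core Cfsg.Agent.H672 Cfsg.Agent.Characters.Linear
open scoped ComplexConjugate Pointwise

universe u

variable {p q : ℕ} [hp : Fact p.Prime] [hq : Fact q.Prime] {G : Type u} [Group G] [Finite G]

/-! ### linear characters -/

/-- A nontrivial linear character of a group which is not perfect. -/
theorem exists_hom_ne {A : Type*} [Group A] [Finite A] {x : A} (hx : x ∉ commutator A) :
    ∃ f : A →* ℂˣ, f x ≠ 1 := by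
  have h1 : Abelianization.of x ≠ 1 := by
    intro h1
    exact hx ((QuotientGroup.eq_one_iff x).1 h1)
  obtain ⟨f, hf⟩ := CommGroup.exists_apply_ne_one_of_hasEnoughRootsOfUnity (Abelianization A) ℂ h1
  exact ⟨f.comp Abelianization.of, hf⟩

theorem charDegree_hom {A : Type*} [Group A] (f : A →* ℂˣ) : charDegree (fun a => (f a : ℂ)) = 1 := by
  apply charDegree_of_eq
  simp

theorem over_restrict {H K : Subgroup G} (hKH : K ≤ H) {χ : G → ℂ} (hχ : IsIrrCharacter G χ) (f : H →* ℂˣ)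
    (ho : Over H.subtype χ (fun h => (f h : ℂ))) :
    Over K.subtype χ (fun k => (f.comp (inclusion hKH) k : ℂ)) := by
  classical
  letI := Fintype.ofFinite K
  have e := Subgroup.subtype_comp_inclusion hKH
  rw [← e]
  rw [over_comp_iff H.subtype (inclusion hKH) (isIrr_isCharacter hχ) (isIrrCharacter_hom _)]
  refine ⟨_, isIrrCharacter_hom f, ho, ?_⟩
  rw [over_iff]
  have h1 := classInner_irr_self (isIrrCharacter_hom (f.comp (inclusion hKH)))
  intro h2
  apply one_ne_zero (α := ℂ)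
  rw [← h1]
  exact h2

theorem mem_inertia_hom {K : Subgroup G} [K.Normal] {f : K →* ℂˣ} {g : G} :
    g ∈ inertia K (fun k => (f k : ℂ)) ↔ ∀ k : K, f (MulAut.conjNormal g k) = f k := by
  rw [mem_inertia, funext_iff]
  constructor
  · intro h k
    exact Units.ext (h k)
  · intro h k
    exact congrArg Units.val (h k)

theorem eq_one_of_coprime {M : Type*} [Monoid M] {x : M} {a b : ℕ} (ha : x ^ a = 1) (hb : x ^ b = 1) (h : a.Coprime b) :
    x = 1 := by
  have h1 := Nat.dvd_gcd (orderOf_dvd_of_pow_eq_one ha) (orderOf_dvd_of_pow_eq_one hb)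
  rw [h.gcd_eq_one, Nat.dvd_one, orderOf_eq_one_iff] at h1
  exact h1

theorem coprime_of {P K : Subgroup G} (hP : IsPGroup p P) (hK : ¬ p ∣ Nat.card K) :
    (Nat.card P).Coprime (Nat.card K) := by
  obtain ⟨n, hn⟩ := IsPGroup.iff_card.1 hP
  rw [hn]
  exact Nat.Coprime.pow_left n ((Nat.Prime.coprime_iff_not_dvd hp.out).2 hK)

theorem not_dvd_of_pgroup (hpq : p ≠ q) {K : Subgroup G} (hK : IsPGroup q K) : ¬ p ∣ Nat.card K := by
  obtain ⟨n, hn⟩ := IsPGroup.iff_card.1 hK
  rw [hn]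
  intro h
  exact hpq ((Nat.prime_dvd_prime_iff_eq hp.out hq.out).1 (hp.out.dvd_of_dvd_pow h))

/-! ### `K` a `q`-group -/

theorem case_q (hpq : p ≠ q) (hF : Facts.{u} p q) (hs : IsPSolvable q G) (hA : CondA p q G) (K : Subgroup G)
    [hKn : K.Normal] (P : Sylow p G) (Q₁ : Subgroup G) (hR : Red p q K (P : Subgroup G) Q₁) (hKq : IsPGroup q K)
    (hKc : ∀ x y : K, x * y = y * x) : CondB p q G := by
  classical
  obtain ⟨Q, hQ⟩ := hR.syl
  have hpK := not_dvd_of_pgroup hpq hKq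
  have hQK : (Q : Subgroup G) ⊔ K = Q := Q.3 (Q.isPGroup'.to_sup_of_normal_right hKq) le_sup_left
  have hKQ : K ≤ (Q : Subgroup G) := by
    conv_rhs => rw [← hQK]
    exact le_sup_right
  rw [hQK] at hQ
  subst hQ
  refine ⟨P, Q, (normalizer_le _ K).trans hR.nor, ?_⟩
  rw [eq_bot_iff]
  intro x hx
  have hxK : x ∈ K := hR.der hx
  have hxC : x ∈ centralizer ((P : Subgroup G) : Set G) := hx.2
  rw [mem_bot]
  by_contra hx1
  -- a linear character of `K`
  have hcomm : (⟨x, hxK⟩ : K) ∉ commutator K := by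
    intro h
    have h1 : commutator K = ⊥ := by
      rw [commutator_def, Subgroup.commutator_eq_bot_iff_le_centralizer]
      intro a _
      rw [mem_centralizer_iff]
      intro b _
      exact hKc _ _
    rw [h1, mem_bot] at h
    exact hx1 (congrArg Subtype.val h)
  obtain ⟨μ, hμ⟩ := exists_hom_ne hcomm
  letI := Fintype.ofFinite P
  let lam : K →* ℂˣ := ∏ a : P, μ.comp (MulAut.conjNormal (a : G) : MulAut K).toMonoidHom
  have hlam : ∀ k : K, lam k = ∏ a : P, μ (MulAut.conjNormal (a : G) k) := by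
    intro k
    show (∏ a : P, μ.comp (MulAut.conjNormal (a : G) : MulAut K).toMonoidHom) k = _
    rw [MonoidHom.finsetProd_apply]
    rfl
  have hinv : (P : Subgroup G) ≤ inertia K (fun k => (lam k : ℂ)) := by
    intro g hg
    rw [mem_inertia_hom]
    intro k
    rw [hlam, hlam]
    refine Fintype.prod_equiv (Equiv.mulRight (⟨g, hg⟩ : P)) _ _ fun a => ?_
    congr 1
    apply Subtype.ext
    show (a : G) * (g * k * g⁻¹) * (a : G)⁻¹ = (a : G) * g * k * ((a : G) * g)⁻¹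
    group
  have hlx : lam ⟨x, hxK⟩ ≠ 1 := by
    have h1 : lam ⟨x, hxK⟩ = μ ⟨x, hxK⟩ ^ Nat.card P := by
      rw [hlam, Finset.prod_congr rfl (g := fun _ => μ ⟨x, hxK⟩), Finset.prod_const, Finset.card_univ,
        ← Nat.card_eq_fintype_card]
      intro a _
      congr 1
      apply Subtype.ext
      show (a : G) * x * (a : G)⁻¹ = x
      rw [(mem_centralizer_iff.1 hxC a a.2 : (a : G) * x = x * a), mul_inv_cancel_right]
    intro h2
    rw [h1] at h2
    apply hμ
    refine eq_one_of_coprime h2 (b := Nat.card K) ?_ (coprime_of P.isPGroup' hpK)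
    rw [← map_pow, pow_card_eq_one', map_one]
  have hθ : IsIrrCharacter K (fun k => (lam k : ℂ)) := isIrrCharacter_hom lam
  have hdl : ¬ p ∣ charDegree (fun k => (lam k : ℂ)) := by
    rw [charDegree_hom]
    exact fun h => hp.out.one_lt.ne' (Nat.dvd_one.1 h)
  obtain ⟨χ, hχd, hχo⟩ := hF.ex_over G K P (Or.inl hpK) ⟨_, hθ⟩ hdl fun x hx => (invF_iff K _ x).2 (hinv hx)
  have hχo := (over_iff_sum K χ (fun k => (lam k : ℂ))).2 hχo
  have hQin := star hF hs hA K P (Q : Subgroup G) hR _ hθ hinv χ χ.2 hχd hχo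
  -- a linear constituent on `Q`
  obtain ⟨η, hη, hηo, hηd⟩ := exists_under_not_dvd (Q : Subgroup G).subtype χ.2 (hA χ hχd)
  have hη1 : η 1 = 1 := by
    letI := Fintype.ofFinite (Q : Subgroup G)
    have h1 := Cfsg.Agent.H593.GlaubermanP.charDegree_dvd hη
    obtain ⟨n, hn⟩ := IsPGroup.iff_card.1 Q.isPGroup'
    rw [hn, Nat.dvd_prime_pow hq.out] at h1
    obtain ⟨m, -, hm⟩ := h1
    have hm0 : m = 0 := by
      by_contra hm0
      exact hηd (hm ▸ dvd_pow_self q hm0)
    rw [hm0, pow_zero] at hm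
    rw [← coe_charDegree hη, hm, Nat.cast_one]
  obtain ⟨f, hf⟩ := exists_hom_of_isIrrCharacter hη hη1
  rw [hf] at hηo
  have hηK := over_restrict hKQ χ.2 f hηo
  letI := Fintype.ofFinite K
  letI := Fintype.ofFinite G
  obtain ⟨g, hg⟩ := Cfsg.Agent.Characters.Clifford.exists_conj_of_constituents K χ.2 hθ (isIrrCharacter_hom _)
    ((over_subtype_iff K _ _).1 hχo) ((over_subtype_iff K _ _).1 hηK)
  have hg' : ∀ k : K, f (inclusion hKQ k) = lam (MulAut.conjNormal g k) := fun k => Units.ext (congrFun hg k)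
  -- `g Q g⁻¹` stabilises `lam`
  have hgQ : ((g • Q : Sylow q G) : Subgroup G) ≤ inertia K (fun k => (lam k : ℂ)) := by
    intro z hz
    rw [mem_smul_iff] at hz
    rw [mem_inertia_hom]
    intro k
    have h1 : MulAut.conjNormal z k = MulAut.conjNormal g (MulAut.conjNormal (g⁻¹ * z * g) (MulAut.conjNormal g⁻¹ k)) := by
      rw [← MulAut.mul_apply, ← MulAut.mul_apply, ← map_mul, ← map_mul]
      congr 2
      group
    have h2 : k = MulAut.conjNormal g (MulAut.conjNormal g⁻¹ k) := by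
      rw [← MulAut.mul_apply, ← map_mul, mul_inv_cancel, map_one, MulAut.one_apply]
    rw [h1, ← hg']
    conv_rhs => rw [h2, ← hg']
    set k' : K := MulAut.conjNormal g⁻¹ k
    have h3 : inclusion hKQ (MulAut.conjNormal (g⁻¹ * z * g) k') =
        (⟨g⁻¹ * z * g, hz⟩ : (Q : Subgroup G)) * inclusion hKQ k' * (⟨g⁻¹ * z * g, hz⟩ : (Q : Subgroup G))⁻¹ :=
      Subtype.ext rfl
    rw [h3, map_mul, map_mul, map_inv, mul_comm (f _) (f _), mul_inv_cancel_right]
  obtain ⟨h, hh, hhQ⟩ := exists_conj_in (g • Q) Q hgQ hQin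
  have hhg : h * g ∈ normalizer ((Q : Subgroup G) : Set G) := by
    rw [← smul_eq_iff, mul_smul, hhQ]
  -- the value at `x`
  set k : G := (h * g)⁻¹ * x * (h * g) with hk
  have hkK : k ∈ K := by
    have := hKn.conj_mem x hxK (h * g)⁻¹
    rwa [inv_inv] at this
  have hkD : k ∈ ⁅(Q : Subgroup G), (Q : Subgroup G)⁆ := by
    have h1 : (h * g)⁻¹ ∈ normalizer ((Q : Subgroup G) : Set G) := inv_mem hhg
    have h2 : (⁅(Q : Subgroup G), (Q : Subgroup G)⁆).map (MulAut.conj (h * g)⁻¹).toMonoidHom = ⁅(Q : Subgroup G), (Q : Subgroup G)⁆ := by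
      have h3 : (Q : Subgroup G).map (MulAut.conj (h * g)⁻¹).toMonoidHom = Q := mem_normalizer_iff_map_conj_eq.1 h1
      rw [Subgroup.map_commutator, h3]
    rw [← h2]
    refine ⟨x, hx.1, ?_⟩
    show (h * g)⁻¹ * x * ((h * g)⁻¹)⁻¹ = k
    rw [inv_inv]
  have h1 : f (inclusion hKQ ⟨k, hkK⟩) = 1 := by
    have h2 : inclusion hKQ ⟨k, hkK⟩ ∈ commutator (Q : Subgroup G) := by
      rw [← Subgroup.mem_map_iff_mem (Q : Subgroup G).subtype_injective, Subgroup.map_subtype_commutator]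
      exact hkD
    exact (MonoidHom.mem_ker).1 (Abelianization.commutator_subset_ker f h2)
  rw [hg'] at h1
  have h2 := (mem_inertia_hom.1 hh) (MulAut.conjNormal g ⟨k, hkK⟩)
  rw [h1, ← MulAut.mul_apply, ← map_mul] at h2
  apply hlx
  rw [← h2]
  congr 1
  apply Subtype.ext
  show x = (h * g) * k * (h * g)⁻¹
  rw [hk]
  group

end Cfsg.Agent.H20.PQ
end

-- part: H71/PQ/GL
section
/-!
# S4981: the Glauberman lemmas GL2 and GL3 (helper71)

`A = P Q` acts coprimely on `K` (`P` a `p`-group, `Q` a `q`-group normalised by `P`). The number of `P`-invariant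
irreducible characters is `k(C_K(P))`, the number of `A`-invariant ones is `k(C_K(A))` (`H595.Solv.card_inv`); the classes
of `C_K(A)` are not fused in `C_K(P)` (Glauberman's lemma).
-/

set_option autoImplicit false
set_option linter.unusedSectionVars false
set_option linter.unusedVariables false

namespace Cfsg.Agent.H71.PQ

open Subgroup Cfsg Cfsg.Agent.H54.PQ
open Cfsg.Agent.H595.Fix
open Cfsg.Agent.H593.GlaubermanP (Inv)

universe u

section Act

variable {K : Type u} [Group K] [Finite K] (A : Subgroup (MulAut K))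

theorem mem_fx_iff {x : K} : x ∈ fx ↥A K ↔ ∀ a ∈ A, a x = x :=
  ⟨fun h a ha => h ⟨a, ha⟩, fun h a => h a.1 a.2⟩

theorem inv_iff {f : K → ℂ} : Inv ↥A f ↔ ∀ a ∈ A, InvF a f :=
  ⟨fun h a ha => h ⟨a, ha⟩, fun h a => h a.1 a.2⟩

/-- the number of invariant characters -/
theorem card_inv (hs : Group.IsSolvable ↥A) (hc : (Nat.card K).Coprime (Nat.card ↥A)) :
    Nat.card {χ : IrrCharacter K // ∀ a ∈ A, InvF a (χ : K → ℂ)} = Nat.card (ConjClasses ↥(fx ↥A K)) := by
  have h1 := Cfsg.Agent.H595.Solv.card_inv (S := ↥A) (G := K) hs hc (fx ↥A K).subtype Subtype.val_injective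
    fun g => ⟨fun h => ⟨⟨g, h⟩, rfl⟩, by rintro ⟨c, rfl⟩ s; exact c.2 s⟩
  rw [← Cfsg.Agent.Characters.Core.card_irr, ← h1]
  exact Nat.card_congr (Equiv.subtypeEquivRight fun χ => (inv_iff A).symm)

/-- fixed points which are conjugate are conjugate by a fixed point -/
theorem fusion (hs : Group.IsSolvable ↥A) (hc : (Nat.card K).Coprime (Nat.card ↥A)) {x y : K} (hx : x ∈ fx ↥A K)
    (hy : y ∈ fx ↥A K) (hxy : IsConj x y) : ∃ g ∈ fx ↥A K, g * x * g⁻¹ = y := by
  let Ω := {z : K // IsConj x z}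
  let actK : MulAction K Ω :=
    { smul := fun g z => ⟨g * z.1 * g⁻¹, z.2.trans (isConj_iff.2 ⟨g, rfl⟩)⟩
      one_smul := fun z => Subtype.ext (by change 1 * z.1 * 1⁻¹ = z.1; simp)
      mul_smul := fun g h z => Subtype.ext (by
        change g * h * z.1 * (g * h)⁻¹ = g * (h * z.1 * h⁻¹) * g⁻¹
        group) }
  let actA : MulAction ↥A Ω :=
    { smul := fun a z => ⟨a • z.1, by
        obtain ⟨c, hc⟩ := isConj_iff.1 z.2
        refine isConj_iff.2 ⟨a • c, ?_⟩
        rw [← hc, smul_mul', smul_mul', smul_inv', hx a]⟩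
      one_smul := fun z => Subtype.ext (one_smul _ z.1)
      mul_smul := fun a b z => Subtype.ext (mul_smul a b z.1) }
  have hne : Nonempty Ω := ⟨⟨x, IsConj.refl x⟩⟩
  obtain ⟨g, hg, hgx⟩ := (Cfsg.Agent.H532.CopAct.glauberman (A := ↥A) (G := K) (Ω := Ω) (fun a g z => Subtype.ext (by
    change a • (g * z.1 * g⁻¹) = (a • g) * (a • z.1) * (a • g)⁻¹
    rw [smul_mul', smul_mul', smul_inv'])) hc.symm (Or.inl hs) (fun z w => by
      obtain ⟨c, hc⟩ := isConj_iff.1 (z.2.symm.trans w.2)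
      exact ⟨c, Subtype.ext hc⟩)).2 ⟨x, IsConj.refl x⟩ ⟨y, hxy⟩ (fun a => Subtype.ext (hx a))
      (fun a => Subtype.ext (hy a))
  exact ⟨g, hg, congrArg Subtype.val hgx⟩

/-- the classes of `C_K(A)` are not fused in a larger subgroup; equality if the class numbers agree -/
theorem eq_of_card (hs : Group.IsSolvable ↥A) (hc : (Nat.card K).Coprime (Nat.card ↥A)) {C : Subgroup K}
    (hle : fx ↥A K ≤ C) (hcard : Nat.card (ConjClasses ↥C) = Nat.card (ConjClasses ↥(fx ↥A K))) :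
    fx ↥A K = C := by
  let f : ConjClasses ↥(fx ↥A K) → ConjClasses ↥C := ConjClasses.map (inclusion hle)
  have hinj : Function.Injective f := by
    intro a b hab
    obtain ⟨x, rfl⟩ := ConjClasses.mk_surjective a
    obtain ⟨y, rfl⟩ := ConjClasses.mk_surjective b
    have h1 : IsConj (inclusion hle x) (inclusion hle y) := ConjClasses.mk_eq_mk_iff_isConj.1 hab
    have h2 : IsConj (x : K) (y : K) := by
      obtain ⟨c, hc⟩ := isConj_iff.1 h1
      exact isConj_iff.2 ⟨c.1, congrArg Subtype.val hc⟩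
    obtain ⟨g, hg, hgx⟩ := fusion A hs hc x.2 y.2 h2
    exact ConjClasses.mk_eq_mk_iff_isConj.2 (isConj_iff.2 ⟨⟨g, hg⟩, Subtype.ext hgx⟩)
  have hsur : Function.Surjective f := by
    have : Finite (ConjClasses ↥C) := inferInstance
    have : Finite (ConjClasses ↥(fx ↥A K)) := inferInstance
    exact ((Nat.bijective_iff_injective_and_card f).2 ⟨hinj, hcard.symm⟩).2
  have htop : (fx ↥A K).subgroupOf C = ⊤ := by
    refine Cfsg.Agent.H558.Cs.eq_top_of_conj_cover _ fun z => ?_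
    obtain ⟨a, ha⟩ := hsur (ConjClasses.mk z)
    obtain ⟨x, rfl⟩ := ConjClasses.mk_surjective a
    have h1 : IsConj (inclusion hle x) z := ConjClasses.mk_eq_mk_iff_isConj.1 ha
    obtain ⟨c, hc⟩ := isConj_iff.1 h1
    refine ⟨c, ?_⟩
    rw [mem_subgroupOf, ← hc]
    have : c⁻¹ * (c * inclusion hle x * c⁻¹) * c = inclusion hle x := by group
    rw [this]
    exact x.2
  exact le_antisymm hle (subgroupOf_eq_top.1 htop)

end Act

section PQ

variable {p q : ℕ} [Fact p.Prime] [Fact q.Prime] {K : Type u} [Group K] [Finite K] {P Q : Subgroup (MulAut K)}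

theorem coprime_of_pGroup (hpK : ¬ p ∣ Nat.card K) (hP : IsPGroup p ↥P) : (Nat.card K).Coprime (Nat.card ↥P) := by
  obtain ⟨n, hn⟩ := IsPGroup.iff_card.1 hP
  rw [hn]
  exact (Nat.Coprime.pow_left n ((Nat.Prime.coprime_iff_not_dvd Fact.out).2 hpK)).symm

theorem solvable_of_pGroup (hP : IsPGroup p ↥P) : Group.IsSolvable ↥P := by
  have := hP.isNilpotent
  infer_instance

theorem sup_facts (hpK : ¬ p ∣ Nat.card K) (hqK : ¬ q ∣ Nat.card K) (hP : IsPGroup p ↥P)
    (hQ : IsPGroup q ↥Q) (hPQ : ∀ a ∈ P, ∀ b ∈ Q, a * b * a⁻¹ ∈ Q) :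
    Group.IsSolvable ↥(P ⊔ Q) ∧ (Nat.card K).Coprime (Nat.card ↥(P ⊔ Q)) := by
  have hPN : P ≤ normalizer (Q : Set (MulAut K)) := by
    intro a ha
    rw [mem_normalizer_iff]
    intro b
    refine ⟨hPQ a ha b, fun h => ?_⟩
    have := hPQ a⁻¹ (P.inv_mem ha) _ h
    rwa [show a⁻¹ * (a * b * a⁻¹) * a⁻¹⁻¹ = b by group] at this
  have hle : P ⊔ Q ≤ normalizer (Q : Set (MulAut K)) := sup_le hPN le_normalizer
  have hQn : (Q.subgroupOf (P ⊔ Q)).Normal := (normal_subgroupOf_iff_le_normalizer le_sup_right).2 hle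
  have hsurj : Function.Surjective ((QuotientGroup.mk' (Q.subgroupOf (P ⊔ Q))).comp
      (inclusion (le_sup_left : P ≤ P ⊔ Q))) := by
    intro c
    obtain ⟨⟨z, hz⟩, rfl⟩ := QuotientGroup.mk'_surjective _ c
    have hz' : z ∈ ((P ⊔ Q : Subgroup (MulAut K)) : Set (MulAut K)) := hz
    rw [coe_mul_of_left_le_normalizer_right P Q hPN] at hz'
    obtain ⟨a, ha, b, hb, rfl⟩ := Set.mem_mul.1 hz'
    refine ⟨⟨a, ha⟩, ?_⟩
    rw [MonoidHom.comp_apply, QuotientGroup.mk'_apply, QuotientGroup.mk'_apply, QuotientGroup.eq, mem_subgroupOf]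
    show a⁻¹ * (a * b) ∈ Q
    rw [inv_mul_cancel_left]
    exact hb
  have e : ↥(Q.subgroupOf (P ⊔ Q)) ≃* ↥Q := subgroupOfEquivOfLe le_sup_right
  have hsP := solvable_of_pGroup hP
  have hsQ := solvable_of_pGroup hQ
  have hsN : Group.IsSolvable ↥(Q.subgroupOf (P ⊔ Q)) :=
    Group.isSolvable_of_isSolvable_injective (f := e.toMonoidHom) e.injective
  have hsq : Group.IsSolvable (↥(P ⊔ Q) ⧸ Q.subgroupOf (P ⊔ Q)) := Group.isSolvable_of_surjective hsurj
  refine ⟨(Group.isSolvable_iff_subgroup_quotient (Q.subgroupOf (P ⊔ Q))).mpr ⟨hsN, hsq⟩, ?_⟩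
  rw [card_eq_card_quotient_mul_card_subgroup (Q.subgroupOf (P ⊔ Q)), Nat.card_congr e.toEquiv]
  refine Nat.Coprime.mul_right ?_ (coprime_of_pGroup hqK hQ)
  exact Nat.Coprime.coprime_dvd_right (card_dvd_of_surjective _ hsurj) (coprime_of_pGroup hpK hP)

theorem fx_sup : fx ↥(P ⊔ Q) K = fx ↥P K ⊓ fx ↥Q K := by
  ext x
  rw [mem_inf, mem_fx_iff, mem_fx_iff, mem_fx_iff]
  constructor
  · exact fun h => ⟨fun a ha => h a (le_sup_left (a := P) (b := Q) ha), fun a ha => h a (le_sup_right (a := P) (b := Q) ha)⟩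
  · rintro ⟨h1, h2⟩
    let T : Subgroup (MulAut K) :=
      { carrier := {a | a x = x}
        mul_mem' := fun {a b} ha hb => by
          show a (b x) = x
          rw [show b x = x from hb, show a x = x from ha]
        one_mem' := rfl
        inv_mem' := fun {a} ha => by
          show a⁻¹ x = x
          conv_lhs => rw [← show a x = x from ha]
          exact MulAut.inv_apply_self K a x }
    have h3 : P ⊔ Q ≤ T := sup_le h1 h2
    exact h3

theorem inv_sup {f : K → ℂ} : (∀ a ∈ P ⊔ Q, InvF a f) ↔ (∀ a ∈ P, InvF a f) ∧ ∀ b ∈ Q, InvF b f := by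
  constructor
  · exact fun h => ⟨fun a ha => h a (le_sup_left (a := P) (b := Q) ha), fun a ha => h a (le_sup_right (a := P) (b := Q) ha)⟩
  · rintro ⟨h1, h2⟩
    let T : Subgroup (MulAut K) :=
      { carrier := {a | InvF a f}
        mul_mem' := fun {a b} ha hb => by
          intro g
          show f (a (b g)) = f g
          rw [ha, hb]
        one_mem' := fun _ => rfl
        inv_mem' := fun {a} ha => by
          intro g
          rw [← ha (a⁻¹ g), MulAut.apply_inv_self] }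
    have h3 : P ⊔ Q ≤ T := sup_le h1 h2
    exact h3

/-- **GL2** : every `P`-invariant irreducible character is `Q`-invariant; then `C_K(P) ≤ C_K(Q)`. -/
theorem gl_two (hpq : p ≠ q) (hpK : ¬ p ∣ Nat.card K) (hqK : ¬ q ∣ Nat.card K) (hP : IsPGroup p P)
    (hQ : IsPGroup q Q) (hPQ : ∀ a ∈ P, ∀ b ∈ Q, a * b * a⁻¹ ∈ Q)
    (hinv : ∀ χ : IrrCharacter K, (∀ a ∈ P, InvF a (χ : K → ℂ)) → ∀ b ∈ Q, InvF b (χ : K → ℂ)) {x : K}
    (hx : ∀ a ∈ P, a x = x) : ∀ b ∈ Q, b x = x := by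
  obtain ⟨hs, hc⟩ := sup_facts hpK hqK hP hQ hPQ
  have h1 := card_inv P (solvable_of_pGroup hP) (coprime_of_pGroup hpK hP)
  have h2 := card_inv (P ⊔ Q) hs hc
  have h3 : Nat.card {χ : IrrCharacter K // ∀ a ∈ P, InvF a (χ : K → ℂ)} =
      Nat.card {χ : IrrCharacter K // ∀ a ∈ P ⊔ Q, InvF a (χ : K → ℂ)} :=
    Nat.card_congr (Equiv.subtypeEquivRight fun χ => ⟨fun h => inv_sup.2 ⟨h, hinv χ h⟩, fun h => (inv_sup.1 h).1⟩)
  have hle : fx ↥(P ⊔ Q) K ≤ fx ↥P K := by
    rw [fx_sup]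
    exact inf_le_left
  have h4 := eq_of_card (P ⊔ Q) hs hc hle (by rw [← h1, ← h2, h3])
  have h5 : x ∈ fx ↥(P ⊔ Q) K := by
    rw [h4, mem_fx_iff]
    exact hx
  rw [fx_sup, mem_inf, mem_fx_iff, mem_fx_iff] at h5
  exact h5.2

end PQ

end Cfsg.Agent.H71.PQ
end
end

-- part: H723/QD/Bwd
section
prune_inst 0x200000000000000000000100000000000000000000000000000000000000000000000000000000000000000000000000000000000000000000000000000000000000000000000000000000000000000000000000000000000000000000000000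
set_option linter.all false
open scoped Cfsg.Agent.FastGrp

-- part: H723/QD/Inv
section
set_option linter.unusedSectionVars false
set_option linter.unusedVariables false

namespace Cfsg.Agent.H723.QD

open Cfsg
open scoped ComplexConjugate
open Cfsg.Agent.Characters.Core Cfsg.Agent.Characters.Clifford Cfsg.Agent.H672 Cfsg.Agent.H672.RM
open Cfsg.Agent.H675.Nd
open Cfsg.Agent.H593.GlaubermanP (Inv)

universe u

section

variable {G : Type u} [Group G] [Finite G] {p : ℕ} [hp : Fact p.Prime]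

theorem mem_stab_iff_inv {A : Subgroup G} {f : A → ℂ} {g : G}
    (hg : g ∈ Subgroup.normalizer (A : Set G)) :
    g ∈ stab f ↔ ∀ a a' : A, (a' : G) = g * a * g⁻¹ → f a' = f a := by
  rw [mem_stab]
  constructor
  · rintro ⟨_, h⟩ a a' haa
    have := congrFun h a
    rw [tw_apply' hg f a a' haa] at this
    exact this
  · intro h
    refine ⟨hg, funext fun a => ?_⟩
    rw [tw_apply hg]
    exact h _ _ rfl

theorem stab_apply {A : Subgroup G} {f : A → ℂ} {g : G} (hg : g ∈ stab f) {a a' : A}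
    (haa : (a' : G) = g * a * g⁻¹) : f a' = f a :=
  (mem_stab_iff_inv hg.1).1 hg a a' haa

/-- A `P`-invariant character of degree prime to `p` lies over a `P`-invariant character. -/
theorem exists_pinv_under {A Y P : Subgroup G} (hAY : A ≤ Y)
    (hPA : P ≤ Subgroup.normalizer (A : Set G)) (hP : IsPGroup p P) {β : Y → ℂ}
    (hβ : IsIrrCharacter Y β) (hPβ : P ≤ stab β) (hd : ¬ p ∣ charDegree β) :
    ∃ γ : A → ℂ, IsIrrCharacter A γ ∧ P ≤ stab γ ∧ Over (Subgroup.inclusion hAY) β γ := by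
  classical
  have hfin : Finite (IrrCharacter A) := finite_irr
  have : Fintype (IrrCharacter A) := Fintype.ofFinite _
  have : Fintype A := Fintype.ofFinite _
  have hPA' : ∀ x : P, (x : G)⁻¹ ∈ Subgroup.normalizer (A : Set G) := fun x =>
    Subgroup.inv_mem _ (hPA x.2)
  let _ : MulAction P (IrrCharacter A) :=
    { smul := fun x θ => ⟨tw A (x : G)⁻¹ θ, isIrr_tw (hPA' x) θ.2⟩
      one_smul := fun θ => Subtype.ext (by
        show tw A ((1 : P) : G)⁻¹ (θ : A → ℂ) = θ
        rw [OneMemClass.coe_one, inv_one, tw_one])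
      mul_smul := fun x y θ => Subtype.ext (by
        show tw A ((x * y : P) : G)⁻¹ (θ : A → ℂ) = tw A (x : G)⁻¹ (tw A (y : G)⁻¹ θ)
        rw [Subgroup.coe_mul, mul_inv_rev, tw_mul (hPA' y) (hPA' x)]) }
  have hcoe : ∀ (x : P) (θ : IrrCharacter A),
      ((x • θ : IrrCharacter A) : A → ℂ) = tw A (x : G)⁻¹ θ := fun _ _ => rfl
  obtain ⟨c, hc, hsum⟩ := charDegree_eq_sum (Subgroup.inclusion hAY) hβ
  have hinv : ∀ (x : P) (θ : IrrCharacter A), ((c (x • θ) * charDegree ((x • θ : IrrCharacter A) :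
      A → ℂ) : ℕ) : ℤ) = ((c θ * charDegree (θ : A → ℂ) : ℕ) : ℤ) := by
    intro x θ
    have hx := hPA' x
    have hxβ : (x : G)⁻¹ ∈ stab β := (stab β).inv_mem (hPβ x.2)
    have h1 : charDegree ((x • θ : IrrCharacter A) : A → ℂ) = charDegree (θ : A → ℂ) := by
      rw [hcoe]
      exact charDegree_tw hx _
    have h2 : (c (x • θ) : ℂ) = c θ := by
      rw [← hc, ← hc, hcoe, tw_eq_comp hx]
      have h3 : (β ∘ Subgroup.inclusion hAY) ∘ (cj hx) = β ∘ Subgroup.inclusion hAY := by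
        funext a
        rw [Function.comp_apply, Function.comp_apply, Function.comp_apply]
        refine stab_apply hxβ ?_
        rfl
      have h4 := Cfsg.Agent.H595.Solv.classInner_comp_equiv (cj hx) (β ∘ Subgroup.inclusion hAY)
        (θ : A → ℂ)
      rw [h3] at h4
      exact h4
    have h2' : c (x • θ) = c θ := by exact_mod_cast h2
    rw [h1, h2']
  obtain ⟨a, ha⟩ := Cfsg.Agent.Blocks.OrbitSum.sum_eq_sum_fixed_add_smul (p := p) hP
    (fun θ : IrrCharacter A => ((c θ * charDegree (θ : A → ℂ) : ℕ) : ℤ)) hinv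
  by_contra hcon
  push Not at hcon
  have h0 : ∑ θ ∈ Finset.univ.filter (· ∈ MulAction.fixedPoints P (IrrCharacter A)),
      ((c θ * charDegree (θ : A → ℂ) : ℕ) : ℤ) = 0 := by
    refine Finset.sum_eq_zero fun θ hθ => ?_
    have hfix := (Finset.mem_filter.1 hθ).2
    have hstab : P ≤ stab (θ : A → ℂ) := by
      intro x hx
      have h1 := congrArg Subtype.val (hfix ⟨x⁻¹, P.inv_mem hx⟩)
      rw [hcoe] at h1
      refine ⟨hPA hx, ?_⟩
      simpa using h1
    have h1 := hcon θ θ.2 hstab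
    rw [over_iff, not_not, hc] at h1
    have h2 : c θ = 0 := by exact_mod_cast h1
    rw [h2, zero_mul, Nat.cast_zero]
  rw [h0, zero_add] at ha
  apply hd
  have h1 : ((charDegree β : ℕ) : ℤ) = p • a := by
    rw [hsum]
    push_cast
    push_cast at ha
    exact ha
  have h2 : (p : ℤ) ∣ (charDegree β : ℤ) := ⟨a, by rw [h1, nsmul_eq_mul]⟩
  exact_mod_cast h2

/-- Glauberman counting: if `P` and `S ≥ P` have the same fixed points then they have the same
invariant characters. -/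
theorem sinv_of_pinv {A P S : Subgroup G} (hPS : P ≤ S)
    (hSA : S ≤ Subgroup.normalizer (A : Set G)) (hcop : (Nat.card A).Coprime (Nat.card S))
    (hsol : Group.IsSolvable S)
    (hfix : ∀ x ∈ A, (∀ u ∈ P, u * x = x * u) → ∀ s ∈ S, s * x = x * s) {γ : A → ℂ}
    (hγ : IsIrrCharacter A γ) (hPγ : P ≤ stab γ) : S ≤ stab γ := by
  classical
  have hfin : Finite (IrrCharacter A) := finite_irr
  have hnS : ∀ s ∈ S, ∀ g ∈ A, s * g * s⁻¹ ∈ A := fun s hs g hg =>
    ((Subgroup.mem_normalizer_iff.1 (hSA hs)) g).1 hg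
  have hnP : ∀ s ∈ P, ∀ g ∈ A, s * g * s⁻¹ ∈ A := fun s hs g hg => hnS s (hPS hs) g hg
  have hdvd : Nat.card P ∣ Nat.card S := Subgroup.card_dvd_of_le hPS
  have hcopP : (Nat.card A).Coprime (Nat.card P) := Nat.Coprime.coprime_dvd_right hdvd hcop
  have hsolP : Group.IsSolvable P := by
    have := hsol
    exact Group.isSolvable_of_isSolvable_injective (f := Subgroup.inclusion hPS)
      (Subgroup.inclusion_injective hPS)
  let D := A ⊓ Subgroup.centralizer (S : Set G)
  have hDeq : A ⊓ Subgroup.centralizer (P : Set G) = D := by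
    ext x
    constructor
    · intro hx
      have h2 := Subgroup.mem_centralizer_iff.1 hx.2
      exact ⟨hx.1, Subgroup.mem_centralizer_iff.2 fun s hs =>
        hfix x hx.1 (fun u hu => h2 u hu) s hs⟩
    · intro hx
      have h2 := Subgroup.mem_centralizer_iff.1 hx.2
      exact ⟨hx.1, Subgroup.mem_centralizer_iff.2 fun u hu => h2 u (hPS hu)⟩
  have e1 : Nat.card {χ : IrrCharacter A // S ≤ stab (χ : A → ℂ)} = Nat.card (IrrCharacter D) := by
    let _ := Cfsg.Agent.H595.Conj.conjAct A S hnS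
    rw [← Cfsg.Agent.H595.Solv.card_inv hsol hcop (Subgroup.inclusion (inf_le_left : D ≤ A))
      (Subgroup.inclusion_injective _) (by
        intro g
        rw [Cfsg.Agent.H595.Conj.fixed_iff A S hnS g]
        exact ⟨fun h => ⟨⟨g, Subgroup.mem_inf.2 ⟨g.2, h⟩⟩, rfl⟩, by rintro ⟨c, rfl⟩; exact c.2.2⟩)]
    refine Nat.card_congr (Equiv.subtypeEquivRight fun χ => ?_)
    rw [← Cfsg.Agent.H595.Conj.inv_iff A S hnS (χ : A → ℂ)]
    constructor
    · intro h s hs
      exact (mem_stab_iff_inv (hSA hs)).1 (h hs)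
    · intro h s hs
      exact (mem_stab_iff_inv (hSA hs)).2 (h s hs)
  have e2 : Nat.card {χ : IrrCharacter A // P ≤ stab (χ : A → ℂ)} = Nat.card (IrrCharacter D) := by
    let _ := Cfsg.Agent.H595.Conj.conjAct A P hnP
    rw [← Cfsg.Agent.H595.Solv.card_inv hsolP hcopP (Subgroup.inclusion (inf_le_left : D ≤ A))
      (Subgroup.inclusion_injective _) (by
        intro g
        rw [Cfsg.Agent.H595.Conj.fixed_iff A P hnP g]
        constructor
        · intro h
          have h1 : (g : G) ∈ D := by rw [← hDeq]; exact ⟨g.2, h⟩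
          exact ⟨⟨g, h1⟩, rfl⟩
        · rintro ⟨c, rfl⟩
          have h1 : (c : G) ∈ A ⊓ Subgroup.centralizer (P : Set G) := by rw [hDeq]; exact c.2
          exact h1.2)]
    refine Nat.card_congr (Equiv.subtypeEquivRight fun χ => ?_)
    rw [← Cfsg.Agent.H595.Conj.inv_iff A P hnP (χ : A → ℂ)]
    constructor
    · intro h s hs
      exact (mem_stab_iff_inv (hSA (hPS hs))).1 (h hs)
    · intro h s hs
      exact (mem_stab_iff_inv (hSA (hPS hs))).2 (h s hs)
  let XS : Set (IrrCharacter A) := {χ | S ≤ stab (χ : A → ℂ)}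
  let XP : Set (IrrCharacter A) := {χ | P ≤ stab (χ : A → ℂ)}
  have hsub : XS ⊆ XP := fun χ hχ => hPS.trans hχ
  have hcard : XP.ncard ≤ XS.ncard := by
    rw [← Nat.card_coe_set_eq, ← Nat.card_coe_set_eq]
    exact (e2.trans e1.symm).le
  have heq : XS = XP := Set.eq_of_subset_of_ncard_le hsub hcard
  have : (⟨γ, hγ⟩ : IrrCharacter A) ∈ XP := hPγ
  rw [← heq] at this
  exact this

/-- If `P` has no fixed points on `R` then the only `P`-invariant character is trivial. -/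
theorem eq_one_of_pinv {R P : Subgroup G} (hP : IsPGroup p P)
    (hPR : P ≤ Subgroup.normalizer (R : Set G)) (hR : ¬ p ∣ Nat.card R)
    (hfix : R ⊓ Subgroup.centralizer (P : Set G) = ⊥) {τ : R → ℂ}
    (hτ : IsIrrCharacter R τ) (hPτ : P ≤ stab τ) : τ = 1 := by
  classical
  have hfin : Finite (IrrCharacter R) := finite_irr
  have hnP : ∀ s ∈ P, ∀ g ∈ R, s * g * s⁻¹ ∈ R := fun s hs g hg =>
    ((Subgroup.mem_normalizer_iff.1 (hPR hs)) g).1 hg
  have hcop : (Nat.card R).Coprime (Nat.card P) := by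
    obtain ⟨k, hk⟩ := IsPGroup.iff_card.1 hP
    rw [hk]
    exact (Nat.Coprime.pow_left k ((Nat.Prime.coprime_iff_not_dvd hp.out).2 hR)).symm
  have hsol : Group.IsSolvable P := by
    have : Group.IsNilpotent P := hP.isNilpotent
    infer_instance
  let D := R ⊓ Subgroup.centralizer (P : Set G)
  have e2 : Nat.card {χ : IrrCharacter R // P ≤ stab (χ : R → ℂ)} = Nat.card (IrrCharacter D) := by
    let _ := Cfsg.Agent.H595.Conj.conjAct R P hnP
    rw [← Cfsg.Agent.H595.Solv.card_inv hsol hcop (Subgroup.inclusion (inf_le_left : D ≤ R))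
      (Subgroup.inclusion_injective _) (by
        intro g
        rw [Cfsg.Agent.H595.Conj.fixed_iff R P hnP g]
        exact ⟨fun h => ⟨⟨g, Subgroup.mem_inf.2 ⟨g.2, h⟩⟩, rfl⟩, by rintro ⟨c, rfl⟩; exact c.2.2⟩)]
    refine Nat.card_congr (Equiv.subtypeEquivRight fun χ => ?_)
    rw [← Cfsg.Agent.H595.Conj.inv_iff R P hnP (χ : R → ℂ)]
    constructor
    · intro h s hs
      exact (mem_stab_iff_inv (hPR hs)).1 (h hs)
    · intro h s hs
      exact (mem_stab_iff_inv (hPR hs)).2 (h s hs)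
  have hD : Nat.card (IrrCharacter D) = 1 := by
    rw [card_irr]
    have : Subsingleton D := by
      have : D = ⊥ := hfix
      rw [this]
      infer_instance
    have : Subsingleton (ConjClasses D) := by
      refine ⟨fun a b => ?_⟩
      obtain ⟨x, rfl⟩ := ConjClasses.exists_rep a
      obtain ⟨y, rfl⟩ := ConjClasses.exists_rep b
      rw [Subsingleton.elim x y]
    exact Nat.card_of_subsingleton (ConjClasses.mk 1)
  rw [hD] at e2
  have hsub := (Nat.card_eq_one_iff_unique.1 e2).1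
  have h1 : P ≤ stab (1 : R → ℂ) := fun x hx => (mem_stab_iff_inv (hPR hx)).2 fun _ _ _ => rfl
  have h2 := @Subsingleton.elim _ hsub ⟨⟨τ, hτ⟩, hPτ⟩ ⟨⟨1, isIrr_one⟩, h1⟩
  exact congrArg (fun z => ((z : {χ : IrrCharacter R // P ≤ stab (χ : R → ℂ)}) : R → ℂ)) h2

end

end Cfsg.Agent.H723.QD
end

-- part: H723/QD/LemA
section
set_option linter.unusedSectionVars false
set_option linter.unusedVariables false

namespace Cfsg.Agent.H723.QD

open Cfsg
open scoped ComplexConjugate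
open Cfsg.Agent.Characters.Core Cfsg.Agent.Characters.Clifford Cfsg.Agent.H672 Cfsg.Agent.H672.RM
open Cfsg.Agent.H675.Nd

universe u

theorem charDegree_congr_one {G H : Type*} [Group G] [Group H] {χ : G → ℂ} {ψ : H → ℂ}
    (h : χ 1 = ψ 1) : charDegree χ = charDegree ψ := by
  unfold charDegree
  rw [h]

/-- The kernel of a character. -/
theorem mul_ker {X : Type*} [Group X] [Finite X] {χ : X → ℂ} (hχ : IsCharacter X χ) {k : X}
    (hk : χ k = χ 1) (x : X) : χ (x * k) = χ x := by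
  obtain ⟨n, ρ, rfl⟩ := hχ
  have h1 : ρ.character 1 = (Module.finrank ℂ (Fin n → ℂ) : ℂ) := Representation.char_one ρ
  have h2 : ρ k = LinearMap.id := by
    rw [← Cfsg.Agent.Characters.Values.character_eq_finrank_iff, hk, h1]
  show LinearMap.trace ℂ _ (ρ (x * k)) = LinearMap.trace ℂ _ (ρ x)
  rw [map_mul, h2]
  rfl

section

variable {G : Type u} [Group G] [Finite G] {p q : ℕ} [hp : Fact p.Prime] [hq : Fact q.Prime]

theorem card_mul_relIndex' {A B : Subgroup G} (h : A ≤ B) :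
    Nat.card A * A.relIndex B = Nat.card B := by
  rw [← Subgroup.relIndex_bot_left, ← Subgroup.relIndex_bot_left,
    Subgroup.relIndex_mul_relIndex _ _ _ bot_le h]

theorem card_sup_dvd {Q P : Subgroup G} (hPQ : P ≤ Subgroup.normalizer (Q : Set G)) :
    Nat.card (Q ⊔ P : Subgroup G) ∣ Nat.card Q * Nat.card P := by
  rw [← card_mul_relIndex' (le_sup_left : Q ≤ Q ⊔ P), relIndex_sup_of_le_normalizer hPQ]
  exact Nat.mul_dvd_mul_left _ (Subgroup.relIndex_dvd_card _ _)

theorem solvable_sup {Q P : Subgroup G} (hQ : IsPGroup q Q) (hP : IsPGroup p P)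
    (hPQ : P ≤ Subgroup.normalizer (Q : Set G)) : Group.IsSolvable (Q ⊔ P : Subgroup G) := by
  have hQn : (Q.subgroupOf (Q ⊔ P)).Normal :=
    normal_subgroupOf (sup_le Subgroup.le_normalizer hPQ)
  have h1 : Group.IsSolvable (Q.subgroupOf (Q ⊔ P)) := by
    have h2 : IsPGroup q (Q.subgroupOf (Q ⊔ P)) :=
      hQ.comap_of_injective _ (Subgroup.subtype_injective _)
    have : Group.IsNilpotent (Q.subgroupOf (Q ⊔ P)) := h2.isNilpotent
    infer_instance
  have h2 : Group.IsSolvable ((Q ⊔ P : Subgroup G) ⧸ (Q.subgroupOf (Q ⊔ P))) := by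
    have h3 : IsPGroup p ((Q ⊔ P : Subgroup G) ⧸ (Q.subgroupOf (Q ⊔ P))) := by
      obtain ⟨k, hk⟩ := IsPGroup.iff_card.1 hP
      have h4 : Nat.card ((Q ⊔ P : Subgroup G) ⧸ (Q.subgroupOf (Q ⊔ P))) ∣ p ^ k := by
        rw [← hk]
        show Q.relIndex (Q ⊔ P) ∣ _
        rw [relIndex_sup_of_le_normalizer hPQ]
        exact Subgroup.relIndex_dvd_card _ _
      obtain ⟨j, -, hj⟩ := (Nat.dvd_prime_pow hp.out).1 h4
      exact IsPGroup.of_card hj
    have : Group.IsNilpotent ((Q ⊔ P : Subgroup G) ⧸ (Q.subgroupOf (Q ⊔ P))) := h3.isNilpotent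
    infer_instance
  exact Group.isSolvable_of_ker_le_range (Q.subgroupOf (Q ⊔ P)).subtype
    (QuotientGroup.mk' (Q.subgroupOf (Q ⊔ P))) (by simp)

theorem not_dvd_of_pgroup (hpq : p ≠ q) {Q : Subgroup G} (hQ : IsPGroup q Q) :
    ¬ p ∣ Nat.card Q := by
  obtain ⟨k, hk⟩ := IsPGroup.iff_card.1 hQ
  rw [hk]
  intro h
  exact hpq ((Nat.prime_dvd_prime_iff_eq hp.out hq.out).1 (hp.out.dvd_of_dvd_pow h))

theorem coprime_sup {A Q P : Subgroup G} (hQ : IsPGroup q Q) (hP : IsPGroup p P)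
    (hPQ : P ≤ Subgroup.normalizer (Q : Set G)) (hAq : ¬ q ∣ Nat.card A) (hAp : ¬ p ∣ Nat.card A) :
    (Nat.card A).Coprime (Nat.card (Q ⊔ P : Subgroup G)) := by
  refine Nat.Coprime.coprime_dvd_right (card_sup_dvd hPQ) ?_
  obtain ⟨k, hk⟩ := IsPGroup.iff_card.1 hQ
  obtain ⟨j, hj⟩ := IsPGroup.iff_card.1 hP
  rw [hk, hj]
  refine Nat.Coprime.mul_right ?_ ?_
  · exact (Nat.Coprime.pow_left k ((Nat.Prime.coprime_iff_not_dvd hq.out).2 hAq)).symm
  · exact (Nat.Coprime.pow_left j ((Nat.Prime.coprime_iff_not_dvd hp.out).2 hAp)).symm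

/-- **Lemma A.** -/
theorem lemA (hpq : p ≠ q) {A Y P Q : Subgroup G} (hAY : A ≤ Y)
    (hYA : Y ≤ Subgroup.normalizer (A : Set G)) (hPA : P ≤ Subgroup.normalizer (A : Set G))
    (hPY : P ≤ Subgroup.normalizer (Y : Set G)) (hP : IsPGroup p P) (hQ : IsPGroup q Q)
    (hAq : ¬ q ∣ Nat.card A) (hYp : ¬ p ∣ Nat.card Y) (hY : A ⊔ Q = Y)
    (hPQ : P ≤ Subgroup.normalizer (Q : Set G))
    (hcomm : ∀ x ∈ A, (∀ u ∈ P, u * x = x * u) → ∀ s ∈ Q, s * x = x * s)
    (hC : ⁅Q, Q⁆ ⊓ Subgroup.centralizer (P : Set G) = ⊥) {β : Y → ℂ}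
    (hβ : IsIrrCharacter Y β) (hPβ : P ≤ stab β) : ¬ q ∣ charDegree β := by
  classical
  have hAp : ¬ p ∣ Nat.card A := fun h => hYp (h.trans (Subgroup.card_dvd_of_le hAY))
  have hdβ : ¬ p ∣ charDegree β := fun h => hYp (h.trans (degree_dvd_card hβ))
  obtain ⟨γ, hγ, hPγ, hover⟩ := exists_pinv_under hAY hPA hP hβ hPβ hdβ
  have hQY : Q ≤ Y := by rw [← hY]; exact le_sup_right
  have hSA : Q ⊔ P ≤ Subgroup.normalizer (A : Set G) := sup_le (hQY.trans hYA) hPA
  have hSγ : Q ⊔ P ≤ stab γ := by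
    refine sinv_of_pinv le_sup_right hSA (coprime_sup hQ hP hPQ hAq hAp) (solvable_sup hQ hP hPQ)
      ?_ hγ hPγ
    intro x hx hxP s hs
    have h1 : Q ⊔ P ≤ Subgroup.centralizer ({x} : Set G) := by
      refine sup_le (fun s hs => ?_) (fun u hu => ?_)
      · exact Subgroup.mem_centralizer_singleton_iff.2 (hcomm x hx hxP s hs)
      · exact Subgroup.mem_centralizer_singleton_iff.2 (hxP u hu)
    exact Subgroup.mem_centralizer_singleton_iff.1 (h1 hs)
  -- the extension of `γ`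
  let H : Subgroup G := A ⊔ (Q ⊔ P)
  have hAH : A ≤ H := le_sup_left
  have hYH : Y ≤ H := by
    rw [← hY]
    exact sup_le le_sup_left (le_sup_left.trans le_sup_right)
  have hPH : P ≤ H := le_sup_right.trans le_sup_right
  have hHγ : H ≤ stab γ := sup_le (le_stab (isIrr_isClassFunction hγ)) hSγ
  have hcop : (Nat.card A).Coprime (A.relIndex H) := by
    have h1 : A.relIndex H = A.relIndex (Q ⊔ P) := relIndex_sup_of_le_normalizer hSA
    rw [h1]
    exact Nat.Coprime.coprime_dvd_right (Subgroup.relIndex_dvd_card _ _)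
      (coprime_sup hQ hP hPQ hAq hAp)
  obtain ⟨γh, hγh, hres⟩ := exists_ext hAH hγ hHγ hcop
  let χ₀ : Y → ℂ := fun y => γh (Subgroup.inclusion hYH y)
  have hχ₀A : ∀ k : A, χ₀ (Subgroup.inclusion hAY k) = γ k := fun k => hres k
  have hχ₀ : IsIrrCharacter Y χ₀ := by
    refine Cfsg.Agent.H595.Triple.isIrr_of_comp (Subgroup.inclusion hAY)
      (isCharacter_comp (Subgroup.inclusion hYH) (isIrr_isCharacter hγh)) ?_
    have : χ₀ ∘ Subgroup.inclusion hAY = γ := funext hχ₀A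
    show IsIrrCharacter A (χ₀ ∘ Subgroup.inclusion hAY)
    rw [this]
    exact hγ
  have hgal := gal hAY hYA hγ hχ₀ hχ₀A
  obtain ⟨μ, ⟨hμ, hμA⟩, hμβ⟩ := hgal.surjOn ⟨hβ, hover⟩
  have hμβ' : ∀ y, μ y * χ₀ y = β y := fun y => congrFun hμβ y
  -- `μ` is `P`-invariant
  have hPμ : P ≤ stab μ := by
    intro x hx
    refine ⟨hPY hx, ?_⟩
    refine hgal.injOn ⟨isIrr_tw (hPY hx) hμ, fun k => ?_⟩ ⟨hμ, hμA⟩ ?_
    · rw [tw_apply (hPY hx), tw_apply (hPY hx)]
      have h1 : (x : G) * k * x⁻¹ ∈ A := ((Subgroup.mem_normalizer_iff.1 (hPA hx)) k).1 k.2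
      have h2 := hμA ⟨_, h1⟩
      have h3 : (⟨x * ((1 : Y) : G) * x⁻¹, conj_mem_of_mem (hPY hx) 1⟩ : Y) = 1 :=
        Subtype.ext (by simp)
      rw [h3]
      exact h2
    · funext y
      show tw Y x μ y * χ₀ y = μ y * χ₀ y
      rw [hμβ', tw_apply (hPY hx)]
      have h1 : χ₀ ⟨x * (y : G) * x⁻¹, conj_mem_of_mem (hPY hx) y⟩ = χ₀ y := by
        have h2 := (isIrr_isClassFunction hγh) (Subgroup.inclusion hYH y) ⟨x, hPH hx⟩
        exact h2
      have h3 := stab_apply (hPβ hx) (a := y) (a' := ⟨x * (y : G) * x⁻¹, conj_mem_of_mem (hPY hx) y⟩) rfl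
      rw [← h1, hμβ', h3]
  -- restriction to `Q`
  let μQ : Q → ℂ := fun s => μ (Subgroup.inclusion hQY s)
  have hAn : (A.subgroupOf Y).Normal := normal_subgroupOf hYA
  have hμQ : IsIrrCharacter Q μQ := by
    obtain ⟨μ', hμ'⟩ := Cfsg.Agent.H595.Central.descend (QuotientGroup.mk' (A.subgroupOf Y))
      (QuotientGroup.mk'_surjective _) ⟨μ, hμ⟩ (fun x k hk => by
        have h1 : k ∈ A.subgroupOf Y := by
          rwa [← QuotientGroup.ker_mk' (A.subgroupOf Y), MonoidHom.mem_ker]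
        refine mul_ker (isIrr_isCharacter hμ) ?_ x
        have h2 := hμA ⟨k, Subgroup.mem_subgroupOf.1 h1⟩
        exact h2)
    have hsurj : Function.Surjective ((QuotientGroup.mk' (A.subgroupOf Y)).comp
        (Subgroup.inclusion hQY)) := by
      intro z
      obtain ⟨y, rfl⟩ := QuotientGroup.mk'_surjective _ z
      have h1 : (y : G) ∈ A ⊔ Q := by rw [hY]; exact y.2
      obtain ⟨a, ha, s, hs, has⟩ :=
        (Cfsg.Agent.SignalizersComponents.CoprimeBasic.mem_sup_iff (hQY.trans hYA) _).1 h1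
      refine ⟨⟨s, hs⟩, ?_⟩
      have h2 : y = (⟨a, hAY ha⟩ : Y) * Subgroup.inclusion hQY ⟨s, hs⟩ := Subtype.ext has.symm
      have h3 : QuotientGroup.mk' (A.subgroupOf Y) (⟨a, hAY ha⟩ : Y) = 1 := by
        rw [← MonoidHom.mem_ker, QuotientGroup.ker_mk']
        exact Subgroup.mem_subgroupOf.2 ha
      rw [MonoidHom.comp_apply, h2, map_mul, h3, one_mul]
    have h1 := isIrr_comp _ hsurj μ'.2
    have h2 : ((μ' : _ → ℂ) ∘ ((QuotientGroup.mk' (A.subgroupOf Y)).comp
        (Subgroup.inclusion hQY))) = μQ := funext fun s => hμ' _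
    rwa [h2] at h1
  have hPμQ : P ≤ stab μQ := by
    intro x hx
    rw [mem_stab_iff_inv (hPQ hx)]
    intro s s' hss
    exact stab_apply (hPμ hx) (a := Subgroup.inclusion hQY s) (a' := Subgroup.inclusion hQY s') hss
  have hQQ : ⁅Q, Q⁆ ≤ Q := Subgroup.commutator_le_self Q
  have hPQQ : P ≤ Subgroup.normalizer ((⁅Q, Q⁆ : Subgroup G) : Set G) := by
    intro x hx
    have h1 : Q.map (MulAut.conj x).toMonoidHom = Q := map_conj_eq_of_mem (hPQ hx)
    apply mem_normalizer_of_map_conj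
    rw [Subgroup.map_commutator, h1]
  have hpQ : ¬ p ∣ Nat.card Q := not_dvd_of_pgroup hpq hQ
  obtain ⟨τ, hτ, hPτ, hoτ⟩ := exists_pinv_under hQQ hPQQ hP hμQ hPμQ
    (fun h => hpQ (h.trans (degree_dvd_card hμQ)))
  have hτ1 : τ = 1 := eq_one_of_pinv hP hPQQ
    (fun h => hpQ (h.trans (Subgroup.card_dvd_of_le hQQ))) hC hτ hPτ
  rw [hτ1, over_one_iff hQQ (Subgroup.normalizer_commutator_ge_left Q Q) hμQ] at hoτ
  have hμQ1 : μQ 1 = 1 := by
    refine Cfsg.Agent.CharactersDeep.FeitLinear.apply_one_eq_one ((⁅Q, Q⁆ : Subgroup G).subgroupOf Q)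
      ?_ hμQ ?_
    · intro x y
      rw [Subgroup.mem_subgroupOf]
      have := Subgroup.commutator_mem_commutator x.2 y.2
      rw [commutatorElement_def] at this
      exact this
    · intro k hk
      exact hoτ ⟨k, Subgroup.mem_subgroupOf.1 hk⟩
  have hμ1 : μ 1 = 1 := by
    have : μQ 1 = μ 1 := by
      show μ (Subgroup.inclusion hQY 1) = μ 1
      rw [map_one]
    rw [← this]
    exact hμQ1
  have hdeg : charDegree β = charDegree γ := by
    apply charDegree_congr_one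
    rw [← hμβ', hμ1, one_mul, ← hχ₀A, map_one]
  rw [hdeg]
  exact fun h => hAq (h.trans (degree_dvd_card hγ))

end

end Cfsg.Agent.H723.QD
end

-- part: H723/QD/Br
section
namespace Cfsg.Agent.H723.QD

open Cfsg
open scoped ComplexConjugate
open Cfsg.Agent.Blocks.Local
open Cfsg.Agent.Blocks.ConvCentral (conv conv_apply lin lin_def lin_conv irr_one_ne_zero
  isClassFunction_conv)
open Cfsg.Agent.Blocks.BlockIdem (eq_zero_of_lin isClassFunction_blockCoeff lin_blockCoeff)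
open Cfsg.Agent.Characters.Core
open Cfsg.Agent.H593.GlaubermanP (ext ext_conj ext_mem sum_fixed pick)

section

variable {K : Type*} [Group K] [Fintype K] {D : Type*} [Group D] [Fintype D]

/-- The setup of the Brauer map. -/
structure BSet (p : ℕ) (P : Subgroup K) (ι : D →* K) : Prop where
  inj : Function.Injective ι
  pg : IsPGroup p P
  syl : ¬ p ∣ P.index
  cen : ∀ d, ι d ∈ Subgroup.centralizer (P : Set K)
  norm : ∀ n ∈ Subgroup.normalizer (P : Set K), ∀ d, ∃ d', ι d' = n * ι d * n⁻¹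

/-- `N_K(P)`-invariant functions on `D`. -/
def NInv (P : Subgroup K) (ι : D →* K) (f : D → ℂ) : Prop :=
  ∀ n ∈ Subgroup.normalizer (P : Set K), ∀ d d', ι d' = n * ι d * n⁻¹ → f d' = f d

variable {p : ℕ} [hp : Fact p.Prime] {P : Subgroup K} {ι : D →* K} {M : Ideal AlgInt}

/-- Burnside fusion. -/
theorem BSet.fusion (h : BSet p P ι) {x y : K} (hx : x ∈ Subgroup.centralizer (P : Set K))
    (hy : y ∈ Subgroup.centralizer (P : Set K)) (hxy : IsConj x y) :
    ∃ n ∈ Subgroup.normalizer (P : Set K), y = n * x * n⁻¹ := by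
  classical
  obtain ⟨g, hg⟩ := isConj_iff.1 hxy
  -- `P` and `g P g⁻¹` are Sylow in the centralizer of `y`
  let C := Subgroup.centralizer ({y} : Set K)
  have hPC : P ≤ C := by
    intro u hu
    rw [Subgroup.mem_centralizer_singleton_iff]
    exact Subgroup.mem_centralizer_iff.1 hy u hu
  have hPC' : P.map (MulAut.conj g).toMonoidHom ≤ C := by
    rintro _ ⟨u, hu, rfl⟩
    rw [Subgroup.mem_centralizer_singleton_iff]
    have h1 := Subgroup.mem_centralizer_iff.1 hx u hu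
    simp only [MulEquiv.toMonoidHom_eq_coe, MonoidHom.coe_coe, MulAut.conj_apply]
    rw [← hg]
    calc g * u * g⁻¹ * (g * x * g⁻¹) = g * (u * x) * g⁻¹ := by group
      _ = g * x * g⁻¹ * (g * u * g⁻¹) := by rw [h1]; group
  let S : Sylow p K := IsPGroup.toSylow h.pg h.syl
  have hS : (S : Subgroup K) = P := rfl
  let S₁ : Sylow p C := S.subtype (by rw [hS]; exact hPC)
  let S₂' : Sylow p K := g • S
  have hS₂ : (S₂' : Subgroup K) = P.map (MulAut.conj g).toMonoidHom := by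
    rw [Sylow.coe_subgroup_smul]
    rfl
  let S₂ : Sylow p C := S₂'.subtype (by rw [hS₂]; exact hPC')
  obtain ⟨c, hc⟩ := MulAction.exists_smul_eq C S₂ S₁
  -- `c (g P g⁻¹) c⁻¹ = P`
  have hcg : ∀ u ∈ P, (c : K) * (g * u * g⁻¹) * (c : K)⁻¹ ∈ P := by
    intro u hu
    have h1 : (⟨g * u * g⁻¹, hPC' ⟨u, hu, rfl⟩⟩ : C) ∈ (S₂ : Subgroup C) := by
      show g * u * g⁻¹ ∈ (S₂' : Subgroup K)
      rw [hS₂]
      exact ⟨u, hu, rfl⟩
    have h2 : c * (⟨g * u * g⁻¹, hPC' ⟨u, hu, rfl⟩⟩ : C) * c⁻¹ ∈ (S₁ : Subgroup C) := by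
      rw [← hc, Sylow.coe_subgroup_smul]
      exact Subgroup.smul_mem_pointwise_smul _ (MulAut.conj c) _ h1
    exact h2
  refine ⟨c * g, ?_, ?_⟩
  · refine Subgroup.mem_normalizer_fintype fun u hu => ?_
    have := hcg u hu
    have h3 : (c : K) * g * u * ((c : K) * g)⁻¹ = (c : K) * (g * u * g⁻¹) * (c : K)⁻¹ := by group
    rw [h3]
    exact this
  · have h4 := Subgroup.mem_centralizer_singleton_iff.1 c.2
    calc y = (c : K) * y * (c : K)⁻¹ := by rw [h4]; group
      _ = _ := by rw [← hg]; group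

theorem BSet.range (h : BSet p P ι) {x : K} (hx : x ∈ Subgroup.centralizer (P : Set K)) {d : D}
    (hxd : IsConj x (ι d)) : ∃ d', ι d' = x := by
  obtain ⟨n, hn, hx'⟩ := h.fusion (h.cen d) hx hxd.symm
  obtain ⟨d', hd'⟩ := h.norm n hn d
  exact ⟨d', by rw [hd', hx']⟩

theorem BSet.ext_apply (h : BSet p P ι) {f : D → ℂ} (hf : NInv P ι f) (d : D) :
    ext ι f (ι d) = f d := by
  unfold ext pick
  rw [if_pos ⟨d, IsConj.refl _⟩]
  have h1 : IsConj (ι d) (ι (Classical.epsilon fun c' => IsConj (ι d) (ι c'))) :=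
    Classical.epsilon_spec (p := fun c' => IsConj (ι d) (ι c')) ⟨d, IsConj.refl _⟩
  obtain ⟨n, hn, h2⟩ := h.fusion (h.cen _) (h.cen _) h1
  exact hf n hn _ _ h2

theorem BSet.ext_zero (h : BSet p P ι) {f : D → ℂ} {x : K}
    (hx : x ∈ Subgroup.centralizer (P : Set K)) (hx' : x ∉ Set.range ι) : ext ι f x = 0 := by
  unfold ext pick
  rw [if_neg]
  rintro ⟨d, hd⟩
  exact hx' (h.range hx hd)

/-- Summation over `K` reduces to the summation over `D`. -/
theorem BSet.sum_eq (h : BSet p P ι) (hM : IsPModular p M) (F : K → ℂ)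
    (hF : ∀ u ∈ P, ∀ x, F (u * x * u⁻¹) = F x) (hl : ∀ x, MemLocalRing M (F x))
    (hv : ∀ c ∈ Subgroup.centralizer (P : Set K), c ∉ Set.range ι → MemLocalIdeal M (F c)) :
    MemLocalIdeal M (∑ x, F x - ∑ d, F (ι d)) := by
  classical
  have := isPrime_of_isPModular hM
  let act : MulAction P K :=
    { smul := fun u x => (u : K) * x * (u : K)⁻¹
      one_smul := fun x => by
        show ((1 : P) : K) * x * ((1 : P) : K)⁻¹ = x
        simp
      mul_smul := fun u v x => by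
        show ((u * v : P) : K) * x * ((u * v : P) : K)⁻¹ = u * (v * x * (v : K)⁻¹) * (u : K)⁻¹
        rw [Subgroup.coe_mul]
        group }
  have hsmul : ∀ (u : P) (x : K), u • x = (u : K) * x * (u : K)⁻¹ := fun _ _ => rfl
  have h1 := sum_fixed hM (P := P) h.pg F (fun u x => by rw [hsmul]; exact hF u u.2 x) hl
  have hfix : ∀ x : K, x ∈ MulAction.fixedPoints P K ↔ x ∈ Subgroup.centralizer (P : Set K) := by
    intro x
    rw [MulAction.mem_fixedPoints, Subgroup.mem_centralizer_iff]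
    constructor
    · intro hx u hu
      have := hx ⟨u, hu⟩
      rw [hsmul, mul_inv_eq_iff_eq_mul] at this
      exact this
    · intro hx u
      rw [hsmul, mul_inv_eq_iff_eq_mul]
      exact hx u u.2
  have h2 : MemLocalIdeal M (∑ x ∈ Finset.univ.filter (· ∈ MulAction.fixedPoints P K), F x -
      ∑ d, F (ι d)) := by
    have h3 : ∑ d, F (ι d) = ∑ x ∈ Finset.univ.image ι, F x := by
      rw [Finset.sum_image fun x _ y _ hxy => h.inj hxy]
    have h4 : Finset.univ.image ι ⊆ Finset.univ.filter (· ∈ MulAction.fixedPoints P K) := by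
      intro x hx
      obtain ⟨d, -, rfl⟩ := Finset.mem_image.1 hx
      exact Finset.mem_filter.2 ⟨Finset.mem_univ _, (hfix _).2 (h.cen d)⟩
    rw [h3, ← Finset.sum_sdiff h4, add_sub_cancel_right]
    refine memLocalIdeal_sum fun x hx => ?_
    obtain ⟨hx1, hx2⟩ := Finset.mem_sdiff.1 hx
    refine hv x ((hfix x).1 (Finset.mem_filter.1 hx1).2) fun hx3 => hx2 ?_
    obtain ⟨d, rfl⟩ := hx3
    exact Finset.mem_image.2 ⟨d, Finset.mem_univ _, rfl⟩
  have h5 := memLocalIdeal_add h1 h2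
  rwa [sub_add_sub_cancel] at h5

omit [Fintype K] [Fintype D] in
theorem ext_ninv {f : D → ℂ} {x g : K} : ext ι f (g * x * g⁻¹) = ext ι f x := ext_conj ι f x g

/-- The main congruence. -/
theorem BSet.main (h : BSet p P ι) (hM : IsPModular p M) {θ : K → ℂ} (hθ : IsIrrCharacter K θ)
    {f f' : D → ℂ} (hf : NInv P ι f) (hf' : NInv P ι f')
    (hl : ∀ d, MemLocalRing M (f d)) (hl' : ∀ d, MemLocalRing M (f' d)) :
    MemLocalIdeal M ((∑ d, conv f f' d * θ (ι d)) * θ 1 -
      (∑ d, f d * θ (ι d)) * (∑ d, f' d * θ (ι d))) := by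
  classical
  have hpr := isPrime_of_isPModular hM
  have hθc : IsClassFunction K θ := Cfsg.Agent.Blocks.Central.isClassFunction_of_irr hθ
  have hθl : ∀ x, MemLocalRing M (θ x) := fun x =>
    memLocalRing_of_isIntegral (Cfsg.Agent.Blocks.Central.isIntegral_irr hθ x)
  have key : ∀ {f : D → ℂ}, NInv P ι f → (∀ d, MemLocalRing M (f d)) →
      MemLocalIdeal M (lin θ (ext ι f) - ∑ d, f d * θ (ι d)) := by
    intro f hf hl
    have h1 := h.sum_eq hM (fun x => ext ι f x * θ x)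
      (fun u _ x => by rw [ext_ninv, hθc])
      (fun x => memLocalRing_mul (ext_mem ι hl x) (hθl x))
      (fun c hc hc' => by rw [h.ext_zero hc hc', zero_mul]; exact memLocalIdeal_zero)
    rw [lin_def]
    simp only [h.ext_apply hf] at h1
    exact h1
  have hloc : ∀ {f : D → ℂ}, (∀ d, MemLocalRing M (f d)) →
      MemLocalRing M (∑ d, f d * θ (ι d)) := fun hl =>
    memLocalRing_sum fun d _ => memLocalRing_mul (hl d) (hθl _)
  have hlin : ∀ {F : K → ℂ}, (∀ d, MemLocalRing M (F d)) → MemLocalRing M (lin θ F) := fun hl => by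
    rw [lin_def]
    exact memLocalRing_sum fun d _ => memLocalRing_mul (hl d) (hθl _)
  have hH : ∀ c : K, MemLocalRing M (conv (ext ι f) (ext ι f') c) := fun c => by
    rw [conv_apply]
    exact memLocalRing_sum fun x _ => memLocalRing_mul (ext_mem ι hl _) (ext_mem ι hl' _)
  -- the convolution on the centralizer
  have hconv : ∀ c ∈ Subgroup.centralizer (P : Set K),
      MemLocalIdeal M (conv (ext ι f) (ext ι f') c - ∑ d, f d * ext ι f' ((ι d)⁻¹ * c)) := by
    intro c hc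
    have h1 := h.sum_eq hM (fun x => ext ι f x * ext ι f' (x⁻¹ * c))
      (fun u hu x => by
        have h2 : (u * x * u⁻¹)⁻¹ * c = u * (x⁻¹ * c) * u⁻¹ := by
          have := Subgroup.mem_centralizer_iff.1 hc u⁻¹ (P.inv_mem hu)
          calc (u * x * u⁻¹)⁻¹ * c = u * x⁻¹ * (u⁻¹ * c) := by group
            _ = _ := by rw [this]; group
        rw [h2, ext_ninv, ext_ninv])
      (fun x => memLocalRing_mul (ext_mem ι hl _) (ext_mem ι hl' _))
      (fun c' hc' hc'' => by rw [h.ext_zero hc' hc'', zero_mul]; exact memLocalIdeal_zero)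
    rw [conv_apply]
    simp only [h.ext_apply hf] at h1
    exact h1
  have hcinv : ∀ c ∈ Subgroup.centralizer (P : Set K), c ∉ Set.range ι →
      MemLocalIdeal M (conv (ext ι f) (ext ι f') c) := by
    intro c hc hc'
    have h1 := hconv c hc
    have h2 : ∑ d, f d * ext ι f' ((ι d)⁻¹ * c) = 0 := by
      refine Finset.sum_eq_zero fun d _ => ?_
      rw [h.ext_zero, mul_zero]
      · exact mul_mem (inv_mem (h.cen d)) hc
      · rintro ⟨e, he⟩
        exact hc' ⟨d * e, by rw [map_mul, he]; group⟩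
    rwa [h2, sub_zero] at h1
  have hD : ∀ e : D, MemLocalIdeal M (conv (ext ι f) (ext ι f') (ι e) - conv f f' e) := by
    intro e
    have h1 := hconv (ι e) (h.cen e)
    have h2 : ∑ d, f d * ext ι f' ((ι d)⁻¹ * ι e) = conv f f' e := by
      rw [conv_apply]
      refine Finset.sum_congr rfl fun d _ => ?_
      rw [← map_inv, ← map_mul, h.ext_apply hf']
    rwa [h2] at h1
  have hsum : MemLocalIdeal M (lin θ (conv (ext ι f) (ext ι f')) - ∑ d, conv f f' d * θ (ι d)) := by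
    have hcl := isClassFunction_conv (f := ext ι f) (f' := ext ι f') (ext_conj ι f) (ext_conj ι f')
    have h1 := h.sum_eq hM (fun x => conv (ext ι f) (ext ι f') x * θ x)
      (fun u _ x => by rw [hcl, hθc])
      (fun x => memLocalRing_mul (hH x) (hθl x))
      (fun c hc hc' => memLocalIdeal_mul_right (hcinv c hc hc') (hθl c))
    have h2 : MemLocalIdeal M (∑ d, conv (ext ι f) (ext ι f') (ι d) * θ (ι d) -
        ∑ d, conv f f' d * θ (ι d)) := by
      rw [← Finset.sum_sub_distrib]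
      refine memLocalIdeal_sum fun d _ => ?_
      rw [← sub_mul]
      exact memLocalIdeal_mul_right (hD d) (hθl _)
    have h3 := memLocalIdeal_add h1 h2
    rw [sub_add_sub_cancel] at h3
    rw [lin_def]
    exact h3
  have hlc := lin_conv hθ (f := ext ι f) (f' := ext ι f') (ext_conj ι f)
  have h1 : MemLocalIdeal M (lin θ (conv (ext ι f) (ext ι f')) * θ 1 -
      (∑ d, conv f f' d * θ (ι d)) * θ 1) := by
    rw [← sub_mul]
    exact memLocalIdeal_mul_right hsum (hθl 1)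
  have h2 : MemLocalIdeal M (lin θ (ext ι f) * lin θ (ext ι f') -
      (∑ d, f d * θ (ι d)) * (∑ d, f' d * θ (ι d))) :=
    memLocalIdeal_mul_sub_mul (hlin fun x => ext_mem ι hl x)
      (hloc hl') (key hf hl) (key hf' hl')
  have h3 := memLocalIdeal_sub h2 h1
  rw [hlc] at h3
  have h4 : ∀ a b c : ℂ, a - b - (a - c) = c - b := fun a b c => by ring
  rwa [h4] at h3

end

end Cfsg.Agent.H723.QD
end

-- part: H723/QD/BrO
section
set_option linter.unusedSectionVars false
set_option linter.unusedVariables false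

namespace Cfsg.Agent.H723.QD

open Cfsg
open scoped ComplexConjugate
open Cfsg.Agent.Blocks.Local
open Cfsg.Agent.Blocks.ConvCentral (conv conv_apply lin lin_def lin_conv irr_one_ne_zero
  isClassFunction_conv)
open Cfsg.Agent.Blocks.BlockIdem (eq_zero_of_lin isClassFunction_blockCoeff lin_blockCoeff)
open Cfsg.Agent.Blocks.Basic (blockCoeff_def)
open Cfsg.Agent.Characters.Core
open Cfsg.Agent.H593.GlaubermanP (charDegree_dvd)

section

variable {K : Type*} [Group K] {D : Type*} [Group D]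

/-- `β'` is the conjugate of `β` by an element of `N_K(P)`. -/
def NRel (P : Subgroup K) (ι : D →* K) (β β' : IrrCharacter D) : Prop :=
  ∃ n ∈ Subgroup.normalizer (P : Set K), ∀ d d', ι d' = n * ι d * n⁻¹ →
    (β' : D → ℂ) d = (β : D → ℂ) d'

/-- The conjugate character. -/
def cjIrr (e : D ≃* D) (β : IrrCharacter D) : IrrCharacter D :=
  ⟨(β : D → ℂ) ∘ e, isIrr_comp e.toMonoidHom e.surjective β.2⟩

theorem cjIrr_apply (e : D ≃* D) (β : IrrCharacter D) (d : D) :
    (cjIrr e β : D → ℂ) d = (β : D → ℂ) (e d) := rfl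

/-- The orbit of `β`. -/
def NOrb (P : Subgroup K) (ι : D →* K) (β : IrrCharacter D) : Set (IrrCharacter D) :=
  {β' | NRel P ι β β'}

/-- The multiplicity of `β` in `θ ∘ ι` (as a natural number). -/
noncomputable def mlt [Fintype D] (ι : D →* K) (θ : K → ℂ) (β : IrrCharacter D) : ℕ :=
  ⌊(classInner (θ ∘ ι) (β : D → ℂ)).re⌋₊

theorem mlt_spec [Fintype D] (ι : D →* K) {θ : K → ℂ} (hθ : IsIrrCharacter K θ)
    (β : IrrCharacter D) : classInner (θ ∘ ι) (β : D → ℂ) = mlt ι θ β := by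
  obtain ⟨m, hm⟩ := classInner_isNat (isCharacter_comp ι (isIrr_isCharacter hθ))
    (isIrr_isCharacter β.2)
  unfold mlt
  rw [hm]
  simp

/-- The characters whose orbit has a nonzero contribution. -/
def Good [Fintype D] (p : ℕ) (P : Subgroup K) (ι : D →* K) (θ : K → ℂ) (β : IrrCharacter D) :
    Prop :=
  ¬ p ∣ Nat.card (NOrb P ι β) * (mlt ι θ β * charDegree (β : D → ℂ))

end

section

variable {K : Type*} [Group K] [Fintype K] {D : Type*} [Group D] [Fintype D]
variable {p : ℕ} [hp : Fact p.Prime] {P : Subgroup K} {ι : D →* K} {M : Ideal AlgInt}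

omit hp [Fintype K] [Fintype D] in
theorem BSet.exists_aut (h : BSet p P ι) {n : K} (hn : n ∈ Subgroup.normalizer (P : Set K)) :
    ∃ e : D ≃* D, ∀ d, ι (e d) = n * ι d * n⁻¹ := by
  choose f hf using h.norm n hn
  choose g hg using h.norm n⁻¹ (inv_mem hn)
  refine ⟨⟨⟨f, g, fun d => h.inj ?_, fun d => h.inj ?_⟩, fun a b => h.inj ?_⟩, hf⟩
  · rw [hg, hf]; group
  · rw [hf, hg]; group
  · show ι (f (a * b)) = ι (f a * f b)
    rw [hf, map_mul, map_mul, hf, hf]; group

omit hp [Fintype K] [Fintype D] in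
theorem BSet.nrel_iff (h : BSet p P ι) {β β' : IrrCharacter D} {n : K}
    (hn : n ∈ Subgroup.normalizer (P : Set K)) {e : D ≃* D} (he : ∀ d, ι (e d) = n * ι d * n⁻¹) :
    (∀ d d', ι d' = n * ι d * n⁻¹ → (β' : D → ℂ) d = (β : D → ℂ) d') ↔ β' = cjIrr e β := by
  constructor
  · intro h1
    exact Subtype.ext (funext fun d => h1 d (e d) (he d))
  · rintro rfl d d' hd
    rw [cjIrr_apply, show e d = d' from h.inj (by rw [he, hd])]

omit hp [Fintype K] [Fintype D] in
theorem NRel.refl (β : IrrCharacter D) (hι : Function.Injective ι) : NRel P ι β β :=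
  ⟨1, one_mem _, fun d d' hd => by
    rw [show d' = d from hι (by rw [hd]; simp)]⟩

omit hp [Fintype K] [Fintype D] in
theorem BSet.symm (h : BSet p P ι) {β β' : IrrCharacter D} (hr : NRel P ι β β') :
    NRel P ι β' β := by
  obtain ⟨n, hn, h1⟩ := hr
  exact ⟨n⁻¹, inv_mem hn, fun d d' hd => (h1 d' d (by rw [hd]; group)).symm⟩

omit hp [Fintype K] [Fintype D] in
theorem BSet.trans (h : BSet p P ι) {β β' β'' : IrrCharacter D} (hr : NRel P ι β β')
    (hr' : NRel P ι β' β'') : NRel P ι β β'' := by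
  obtain ⟨n, hn, h1⟩ := hr
  obtain ⟨m, hm, h2⟩ := hr'
  refine ⟨n * m, mul_mem hn hm, fun d d' hd => ?_⟩
  obtain ⟨d₁, hd₁⟩ := h.norm m hm d
  rw [h2 d d₁ hd₁]
  exact h1 d₁ d' (by rw [hd, hd₁]; group)

omit hp [Fintype K] [Fintype D] in
theorem BSet.orb_eq (h : BSet p P ι) {β β' : IrrCharacter D} (hr : NRel P ι β β') :
    NOrb P ι β = NOrb P ι β' := by
  ext γ
  exact ⟨fun h1 => h.trans (h.symm hr) h1, fun h1 => h.trans hr h1⟩

omit hp [Fintype K] in
theorem BSet.mlt_eq (h : BSet p P ι) {θ : K → ℂ} (hθ : IsClassFunction K θ)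
    {β β' : IrrCharacter D} (hr : NRel P ι β β') : mlt ι θ β' = mlt ι θ β := by
  obtain ⟨n, hn, h1⟩ := hr
  obtain ⟨e, he⟩ := h.exists_aut hn
  rw [h.nrel_iff hn he] at h1
  subst h1
  have h2 : (θ ∘ ι) ∘ e = θ ∘ ι := by
    funext d
    rw [Function.comp_apply, Function.comp_apply, Function.comp_apply, he, hθ]
  have h3 := Cfsg.Agent.H595.Solv.classInner_comp_equiv e (θ ∘ ι) (β : D → ℂ)
  rw [h2] at h3
  unfold mlt
  rw [show ((cjIrr e β : IrrCharacter D) : D → ℂ) = (β : D → ℂ) ∘ e from rfl, h3]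

omit hp [Fintype K] in
theorem BSet.deg_eq (h : BSet p P ι) {β β' : IrrCharacter D} (hr : NRel P ι β β') :
    charDegree (β' : D → ℂ) = charDegree (β : D → ℂ) := by
  obtain ⟨n, hn, h1⟩ := hr
  obtain ⟨e, he⟩ := h.exists_aut hn
  rw [h.nrel_iff hn he] at h1
  subst h1
  show charDegree ((β : D → ℂ) ∘ e) = _
  unfold charDegree
  rw [Function.comp_apply, map_one]

omit hp in
theorem sum_blockCoeff {θ : K → ℂ} (hθ : IsIrrCharacter K θ) (A : Set (IrrCharacter D)) :
    ∑ d, blockCoeff A d * θ (ι d) =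
      ((∑ᶠ β ∈ A, mlt ι θ β * charDegree (β : D → ℂ) : ℕ) : ℂ) := by
  classical
  have hfin : Finite (IrrCharacter D) := finite_irr
  have : Fintype (IrrCharacter D) := Fintype.ofFinite _
  have h1 : ∀ g : D, blockCoeff A g = (Nat.card D : ℂ)⁻¹ *
      ∑ ψ ∈ Finset.univ.filter (· ∈ A), (ψ : D → ℂ) 1 * conj ((ψ : D → ℂ) g) := by
    intro g
    rw [blockCoeff_def, finsum_mem_eq_toFinset_sum]
    congr 1
    refine Finset.sum_congr ?_ fun _ _ => rfl
    ext x
    simp only [_root_.Set.mem_toFinset, _root_.Finset.mem_filter, _root_.Finset.mem_univ, _root_.true_and]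
  have h2 : ∑ᶠ β ∈ A, mlt ι θ β * charDegree (β : D → ℂ) =
      ∑ ψ ∈ Finset.univ.filter (· ∈ A), mlt ι θ ψ * charDegree (ψ : D → ℂ) := by
    rw [finsum_mem_eq_toFinset_sum]
    refine Finset.sum_congr ?_ fun _ _ => rfl
    ext x
    simp only [_root_.Set.mem_toFinset, _root_.Finset.mem_filter, _root_.Finset.mem_univ, _root_.true_and]
  rw [h2]
  push_cast
  simp only [h1]
  simp only [Finset.mul_sum, Finset.sum_mul]
  rw [Finset.sum_comm]
  refine Finset.sum_congr rfl fun ψ _ => ?_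
  rw [← mlt_spec ι hθ ψ, classInner_def, ← Cfsg.Agent.Blocks.Basic.irr_one_eq_charDegree ψ.2,
    Finset.mul_sum, Finset.sum_mul]
  refine Finset.sum_congr rfl fun d _ => ?_
  rw [Function.comp_apply]
  ring

omit hp in
theorem conv_blockCoeff {A B : Set (IrrCharacter D)} (hAB : Disjoint A B) :
    conv (blockCoeff A) (blockCoeff B) = 0 := by
  classical
  have hA := isClassFunction_blockCoeff A
  have hB := isClassFunction_blockCoeff B
  refine eq_zero_of_lin (isClassFunction_conv hA hB) fun χ => ?_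
  have h1 := lin_conv χ.2 (f := blockCoeff A) (f' := blockCoeff B) hA
  rw [lin_blockCoeff, lin_blockCoeff] at h1
  have h2 : (if χ ∈ A then (χ : D → ℂ) 1 else 0) * (if χ ∈ B then (χ : D → ℂ) 1 else 0) = 0 := by
    by_cases hA : χ ∈ A
    · rw [if_neg (Set.disjoint_left.1 hAB hA), mul_zero]
    · rw [if_neg hA, zero_mul]
  rw [h2] at h1
  exact (mul_eq_zero.1 h1).resolve_right (irr_one_ne_zero χ.2)

omit hp [Fintype K] in
theorem BSet.ninv_blockCoeff (h : BSet p P ι) {A : Set (IrrCharacter D)}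
    (hA : ∀ β ∈ A, ∀ β', NRel P ι β β' → β' ∈ A) : NInv P ι (blockCoeff A) := by
  classical
  intro n hn d d' hd
  obtain ⟨e, he⟩ := h.exists_aut hn
  have hd' : d' = e d := h.inj (by rw [hd, he])
  subst hd'
  rw [blockCoeff_def, blockCoeff_def]
  congr 1
  have h1 : ∀ β : IrrCharacter D, NRel P ι β (cjIrr e β) := fun β =>
    ⟨n, hn, (h.nrel_iff hn he).2 rfl⟩
  refine finsum_mem_eq_of_bijOn (cjIrr e) ⟨fun β hβ => hA β hβ _ (h1 β), fun β _ β' _ hbb => ?_,
    fun β hβ => ?_⟩ fun β _ => ?_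
  · refine Subtype.ext (funext fun x => ?_)
    have := congrFun (congrArg Subtype.val hbb) (e.symm x)
    rw [cjIrr_apply, cjIrr_apply, e.apply_symm_apply] at this
    exact this
  · refine ⟨cjIrr e.symm β, hA β hβ _ (h.symm ?_), Subtype.ext (funext fun x => ?_)⟩
    · have h2 := h1 (cjIrr e.symm β)
      have h3 : cjIrr e (cjIrr e.symm β) = β := by
        refine Subtype.ext (funext fun x => ?_)
        rw [cjIrr_apply, cjIrr_apply, e.symm_apply_apply]
      rwa [h3] at h2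
    · rw [cjIrr_apply, cjIrr_apply, e.symm_apply_apply]
  · rw [cjIrr_apply, cjIrr_apply, map_one]

theorem BSet.disj (h : BSet p P ι) (hM : IsPModular p M) (hD : ¬ p ∣ Nat.card D) {θ : K → ℂ}
    (hθ : IsIrrCharacter K θ) {A B : Set (IrrCharacter D)} (hAB : Disjoint A B)
    (hA : ∀ β ∈ A, ∀ β', NRel P ι β β' → β' ∈ A) (hB : ∀ β ∈ B, ∀ β', NRel P ι β β' → β' ∈ B) :
    p ∣ (∑ᶠ β ∈ A, mlt ι θ β * charDegree (β : D → ℂ)) ∨
      p ∣ (∑ᶠ β ∈ B, mlt ι θ β * charDegree (β : D → ℂ)) := by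
  classical
  have hpr := isPrime_of_isPModular hM
  have hfin : Finite (IrrCharacter D) := finite_irr
  have hl : ∀ (A : Set (IrrCharacter D)) (d : D), MemLocalRing M (blockCoeff A d) := by
    intro A d
    rw [blockCoeff_def]
    refine memLocalRing_mul (memLocalRing_inv_natCast hM hD) (memLocalRing_finsum_mem ?_)
    intro ψ _
    refine memLocalRing_mul ?_ ?_
    · exact memLocalRing_of_isIntegral (Cfsg.Agent.Blocks.Central.isIntegral_irr ψ.2 _)
    · exact memLocalRing_of_isIntegral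
        (Cfsg.Agent.Blocks.Central.isIntegral_irr (isIrr_conj ψ.2) d)
  have h1 := h.main hM hθ (h.ninv_blockCoeff hA) (h.ninv_blockCoeff hB) (hl A) (hl B)
  rw [conv_blockCoeff hAB, sum_blockCoeff hθ, sum_blockCoeff hθ] at h1
  simp only [Pi.zero_apply, zero_mul, Finset.sum_const_zero, zero_sub] at h1
  rw [memLocalIdeal_neg_iff, ← Nat.cast_mul, memLocalIdeal_natCast_iff hM] at h1
  exact hp.out.dvd_mul.1 h1

omit hp [Fintype K] in
theorem BSet.sum_orb (h : BSet p P ι) {θ : K → ℂ} (hθ : IsClassFunction K θ)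
    (β : IrrCharacter D) :
    ∑ᶠ γ ∈ NOrb P ι β, mlt ι θ γ * charDegree (γ : D → ℂ) =
      Nat.card (NOrb P ι β) * (mlt ι θ β * charDegree (β : D → ℂ)) := by
  classical
  have hfin : Finite (IrrCharacter D) := finite_irr
  rw [finsum_mem_congr rfl (fun γ (hγ : γ ∈ NOrb P ι β) => by
    rw [h.mlt_eq hθ hγ, h.deg_eq hγ] :
      ∀ γ ∈ NOrb P ι β, mlt ι θ γ * charDegree (γ : D → ℂ) =
        mlt ι θ β * charDegree (β : D → ℂ))]
  have : Fintype (IrrCharacter D) := Fintype.ofFinite _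
  rw [finsum_mem_eq_toFinset_sum, Finset.sum_const, smul_eq_mul, Set.toFinset_card,
    Nat.card_eq_fintype_card]

/-- **Uniqueness of the orbit.** -/
theorem BSet.unique (h : BSet p P ι) (hM : IsPModular p M) (hD : ¬ p ∣ Nat.card D) {θ : K → ℂ}
    (hθ : IsIrrCharacter K θ) {β β' : IrrCharacter D} (g : Good p P ι θ β)
    (g' : Good p P ι θ β') : NRel P ι β β' := by
  by_contra hcon
  have hθc := isIrr_isClassFunction hθ
  have hst : ∀ β : IrrCharacter D, ∀ γ ∈ NOrb P ι β, ∀ γ', NRel P ι γ γ' → γ' ∈ NOrb P ι β :=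
    fun β γ h1 γ' h2 => h.trans h1 h2
  have hdis : Disjoint (NOrb P ι β) (NOrb P ι β') := by
    rw [Set.disjoint_left]
    intro γ h1 h2
    exact hcon (h.trans h1 (h.symm h2))
  rcases h.disj hM hD hθ hdis (hst β) (hst β') with h1 | h1
  · rw [h.sum_orb hθc] at h1
    exact g h1
  · rw [h.sum_orb hθc] at h1
    exact g' h1

/-- **Existence of the orbit.** -/
theorem BSet.exists_good (h : BSet p P ι) {θ : K → ℂ} (hθ : IsIrrCharacter K θ)
    (hd : ¬ p ∣ charDegree θ) : ∃ β : IrrCharacter D, Good p P ι θ β := by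
  classical
  by_contra hcon
  push Not at hcon
  have hθc := isIrr_isClassFunction hθ
  have hfin : Finite (IrrCharacter D) := finite_irr
  have : Fintype (IrrCharacter D) := Fintype.ofFinite _
  apply hd
  have h1 := Cfsg.Agent.H593.GlaubermanP.degree_eq (ι := ι) ⟨θ, hθ⟩ (mlt ι θ) (mlt_spec ι hθ)
  show p ∣ charDegree ((⟨θ, hθ⟩ : IrrCharacter K) : K → ℂ)
  rw [h1]
  let s : Setoid (IrrCharacter D) :=
    ⟨NRel P ι, fun β => NRel.refl β h.inj, fun hr => h.symm hr, fun h1 h2 => h.trans h1 h2⟩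
  have : Fintype (Quotient s) := Fintype.ofFinite _
  rw [← Finset.sum_fiberwise (Finset.univ) (fun β : IrrCharacter D => (Quotient.mk s β))]
  refine Finset.dvd_sum fun q _ => ?_
  obtain ⟨β, rfl⟩ := Quotient.exists_rep q
  have h2 : ∑ γ ∈ Finset.univ.filter (fun γ : IrrCharacter D => Quotient.mk s γ = Quotient.mk s β),
      mlt ι θ γ * charDegree (γ : D → ℂ) = ∑ᶠ γ ∈ NOrb P ι β, mlt ι θ γ * charDegree (γ : D → ℂ) := by
    rw [finsum_mem_eq_toFinset_sum]
    refine Finset.sum_congr ?_ fun _ _ => rfl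
    ext γ
    simp only [Finset.mem_filter, Finset.mem_univ, true_and, Set.mem_toFinset]
    rw [Quotient.eq]
    exact ⟨fun hr => h.symm hr, fun hr => h.symm hr⟩
  rw [h2, h.sum_orb hθc]
  have h3 := hcon β
  unfold Good at h3
  rw [not_not] at h3
  exact h3

end

end Cfsg.Agent.H723.QD
end

-- part: H723/QD/BrS
section
set_option linter.unusedSectionVars false
set_option linter.unusedVariables false

namespace Cfsg.Agent.H723.QD

open Cfsg
open scoped ComplexConjugate
open Cfsg.Agent.Characters.Core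
open Cfsg.Agent.H593.GlaubermanP (Inv actIrr)

section

variable {K : Type*} [Group K] [Fintype K] {D : Type*} [Group D] [Fintype D]
variable {p : ℕ} [hp : Fact p.Prime] {P : Subgroup K} {ι : D →* K} {M : Ideal AlgInt}

/-- Multiplication of a character by a linear character. -/
noncomputable def linMul (l : D →* ℂˣ) (β : IrrCharacter D) : IrrCharacter D :=
  ⟨fun d => (l d : ℂ) * (β : D → ℂ) d, Cfsg.Agent.H672.isIrr_mul_lf l β.2⟩

theorem linMul_apply (l : D →* ℂˣ) (β : IrrCharacter D) (d : D) :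
    (linMul l β : D → ℂ) d = (l d : ℂ) * (β : D → ℂ) d := rfl

theorem good_of_equiv {β β' : IrrCharacter D} {θ : K → ℂ}
    (hc : Nat.card (NOrb P ι β) = Nat.card (NOrb P ι β'))
    (hm : mlt ι θ β' = mlt ι θ β) (hd : charDegree (β' : D → ℂ) = charDegree (β : D → ℂ))
    (hg : Good p P ι θ β) : Good p P ι θ β' := by
  unfold Good at hg ⊢
  rwa [← hc, hm, hd]

theorem BSet.good_lin (h : BSet p P ι) {θ : K → ℂ} (l : K →* ℂˣ)
    (hl : ∀ x, (l x : ℂ) * θ x = θ x) {β : IrrCharacter D} (hg : Good p P ι θ β) :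
    Good p P ι θ (linMul (l.comp ι) β) := by
  have key : ∀ (l : K →* ℂˣ) (β γ : IrrCharacter D), NRel P ι β γ →
      NRel P ι (linMul (l.comp ι) β) (linMul (l.comp ι) γ) := by
    rintro l β γ ⟨n, hn, h1⟩
    refine ⟨n, hn, fun d d' hd => ?_⟩
    rw [linMul_apply, linMul_apply, h1 d d' hd]
    congr 2
    rw [MonoidHom.comp_apply, MonoidHom.comp_apply, hd, map_mul, map_mul, map_inv]
    rw [mul_comm (l n), mul_inv_cancel_right]
  have hinv : ∀ (β : IrrCharacter D), linMul (l⁻¹.comp ι) (linMul (l.comp ι) β) = β := by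
    intro β
    refine Subtype.ext (funext fun d => ?_)
    rw [linMul_apply, linMul_apply, ← mul_assoc, ← Units.val_mul]
    have : (l⁻¹.comp ι) d * (l.comp ι) d = 1 := by
      rw [MonoidHom.comp_apply, MonoidHom.comp_apply, MonoidHom.inv_apply, inv_mul_cancel]
    rw [this, Units.val_one, one_mul]
  have hinv' : ∀ (β : IrrCharacter D), linMul (l.comp ι) (linMul (l⁻¹.comp ι) β) = β := by
    intro β
    refine Subtype.ext (funext fun d => ?_)
    rw [linMul_apply, linMul_apply, ← mul_assoc, ← Units.val_mul]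
    have : (l.comp ι) d * (l⁻¹.comp ι) d = 1 := by
      rw [MonoidHom.comp_apply, MonoidHom.comp_apply, MonoidHom.inv_apply, mul_inv_cancel]
    rw [this, Units.val_one, one_mul]
  refine good_of_equiv ?_ ?_ ?_ hg
  · refine Nat.card_congr ⟨fun γ => ⟨linMul (l.comp ι) γ, key l _ _ γ.2⟩,
      fun γ => ⟨linMul (l⁻¹.comp ι) γ, ?_⟩, fun γ => Subtype.ext (hinv _),
      fun γ => Subtype.ext (hinv' _)⟩
    have := key l⁻¹ _ _ γ.2
    rwa [hinv] at this
  · unfold mlt
    congr 2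
    rw [classInner_def, classInner_def]
    congr 1
    refine Finset.sum_congr rfl fun d _ => ?_
    rw [linMul_apply, map_mul, Function.comp_apply]
    have h1 := hl (ι d)
    have h2 : ((l.comp ι) d : ℂ) * conj ((l.comp ι) d : ℂ) = 1 :=
      Cfsg.Agent.H672.lf_mul_conj (l.comp ι) d
    rw [MonoidHom.comp_apply] at h2 ⊢
    calc θ (ι d) * (conj (l (ι d) : ℂ) * conj ((β : D → ℂ) d)) =
        ((l (ι d) : ℂ) * θ (ι d)) * (conj (l (ι d) : ℂ) * conj ((β : D → ℂ) d)) := by rw [h1]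
      _ = (((l (ι d) : ℂ)) * conj (l (ι d) : ℂ)) * (θ (ι d) * conj ((β : D → ℂ) d)) := by ring
      _ = θ (ι d) * conj ((β : D → ℂ) d) := by rw [h2, one_mul]
  · exact Cfsg.Agent.H672.charDegree_mul_lf (l.comp ι) (β : D → ℂ)

theorem BSet.good_aut (h : BSet p P ι) {θ : K → ℂ} (a : K ≃* K) (e : D ≃* D)
    (hae : ∀ d, ι (e d) = a (ι d)) (haP : ∀ u ∈ P, a u ∈ P) (hθ : ∀ x, θ (a x) = θ x)
    {β : IrrCharacter D} (hg : Good p P ι θ β) : Good p P ι θ (cjIrr e β) := by
  classical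
  have haP' : P.map a.toMonoidHom = P := by
    refine Subgroup.eq_of_le_of_card_ge ?_ ?_
    · rintro _ ⟨u, hu, rfl⟩
      exact haP u hu
    · rw [Subgroup.card_map_of_injective a.injective]
  have hsymm : ∀ u ∈ P, a.symm u ∈ P := by
    intro u hu
    rw [← haP'] at hu
    obtain ⟨v, hv, rfl⟩ := hu
    have : a.symm (a.toMonoidHom v) = v := a.symm_apply_apply v
    rwa [this]
  have hN : ∀ n ∈ Subgroup.normalizer (P : Set K), a.symm n ∈ Subgroup.normalizer (P : Set K) := by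
    intro n hn
    refine Subgroup.mem_normalizer_fintype fun u hu => ?_
    have h1 := (Subgroup.mem_normalizer_iff.1 hn (a u)).1 (haP u hu)
    have h2 := hsymm _ h1
    rw [map_mul, map_mul, map_inv, a.symm_apply_apply] at h2
    exact h2
  have hN' : ∀ n ∈ Subgroup.normalizer (P : Set K), a n ∈ Subgroup.normalizer (P : Set K) := by
    intro n hn
    refine Subgroup.mem_normalizer_fintype fun u hu => ?_
    have h1 := (Subgroup.mem_normalizer_iff.1 hn (a.symm u)).1 (hsymm u hu)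
    have h2 := haP _ h1
    rw [map_mul, map_mul, map_inv, a.apply_symm_apply] at h2
    exact h2
  have key : ∀ (a : K ≃* K) (e : D ≃* D) (hae : ∀ d, ι (e d) = a (ι d))
      (hN : ∀ n ∈ Subgroup.normalizer (P : Set K), a.symm n ∈ Subgroup.normalizer (P : Set K))
      (β γ : IrrCharacter D), NRel P ι β γ → NRel P ι (cjIrr e β) (cjIrr e γ) := by
    rintro a e hae hN β γ ⟨n, hn, h1⟩
    refine ⟨a.symm n, hN n hn, fun d d' hd => ?_⟩
    rw [cjIrr_apply, cjIrr_apply]
    refine h1 _ _ ?_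
    rw [hae, hd, hae, map_mul, map_mul, map_inv, a.apply_symm_apply]
  have hes : ∀ d, ι (e.symm d) = a.symm (ι d) := by
    intro d
    rw [MulEquiv.eq_symm_apply, ← hae, e.apply_symm_apply]
  have hinv : ∀ β : IrrCharacter D, cjIrr e.symm (cjIrr e β) = β := fun β =>
    Subtype.ext (funext fun d => by rw [cjIrr_apply, cjIrr_apply, e.apply_symm_apply])
  have hinv' : ∀ β : IrrCharacter D, cjIrr e (cjIrr e.symm β) = β := fun β =>
    Subtype.ext (funext fun d => by rw [cjIrr_apply, cjIrr_apply, e.symm_apply_apply])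
  refine good_of_equiv ?_ ?_ ?_ hg
  · refine Nat.card_congr ⟨fun γ => ⟨cjIrr e γ, key a e hae hN _ _ γ.2⟩,
      fun γ => ⟨cjIrr e.symm γ, ?_⟩, fun γ => Subtype.ext (hinv _),
      fun γ => Subtype.ext (hinv' _)⟩
    have := key a.symm e.symm hes hN' _ _ γ.2
    rwa [hinv] at this
  · have h2 : (θ ∘ ι) ∘ e = θ ∘ ι := by
      funext d
      rw [Function.comp_apply, Function.comp_apply, Function.comp_apply, hae, hθ]
    have h3 := Cfsg.Agent.H595.Solv.classInner_comp_equiv e (θ ∘ ι) (β : D → ℂ)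
    rw [h2] at h3
    unfold mlt
    rw [show ((cjIrr e β : IrrCharacter D) : D → ℂ) = (β : D → ℂ) ∘ e from rfl, h3]
  · show charDegree ((β : D → ℂ) ∘ e) = _
    unfold charDegree
    rw [Function.comp_apply, map_one]

/-- There is a good character fixed by a `p`-group of operators. -/
theorem BSet.exists_inv (h : BSet p P ι) (hM : IsPModular p M) (hD : ¬ p ∣ Nat.card D) {θ : K → ℂ}
    (hθ : IsIrrCharacter K θ) (hd : ¬ p ∣ charDegree θ)
    {S : Type*} [Group S] [MulDistribMulAction S K] [MulDistribMulAction S D]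
    (hS : IsPGroup p S) (hι : ∀ (s : S) (d : D), ι (s • d) = s • ι d)
    (hP : ∀ (s : S), ∀ u ∈ P, s • u ∈ P) (hinv : ∀ (s : S) (x : K), θ (s • x) = θ x) :
    ∃ β : IrrCharacter D, Good p P ι θ β ∧ Inv S (β : D → ℂ) := by
  classical
  obtain ⟨β₀, hβ₀⟩ := h.exists_good hθ hd
  have hfin : Finite (IrrCharacter D) := finite_irr
  let _ : MulAction S (IrrCharacter D) := actIrr S
  have hcoe : ∀ (s : S) (β : IrrCharacter D), s • β =
      cjIrr (MulDistribMulAction.toMulEquiv D s⁻¹) β := fun s β => rfl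
  let X := {β : IrrCharacter D // Good p P ι θ β}
  have hX : ∀ (s : S) (β : X), Good p P ι θ (s • (β : IrrCharacter D)) := by
    intro s β
    rw [hcoe]
    exact h.good_aut (MulDistribMulAction.toMulEquiv K s⁻¹) (MulDistribMulAction.toMulEquiv D s⁻¹)
      (fun d => hι s⁻¹ d) (fun u hu => hP s⁻¹ u hu) (fun x => hinv s⁻¹ x) β.2
  let _ : MulAction S X :=
    { smul := fun s β => ⟨s • (β : IrrCharacter D), hX s β⟩
      one_smul := fun β => Subtype.ext (one_smul S (β : IrrCharacter D))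
      mul_smul := fun s t β => Subtype.ext (mul_smul s t (β : IrrCharacter D)) }
  have hcard : ¬ p ∣ Nat.card X := by
    have h1 : Nat.card X = Nat.card (NOrb P ι β₀) := by
      refine Nat.card_congr (Equiv.subtypeEquivRight fun β => ?_)
      constructor
      · intro hg
        exact h.unique hM hD hθ hβ₀ hg
      · intro hr
        exact good_of_equiv (by rw [h.orb_eq hr]) (h.mlt_eq (isIrr_isClassFunction hθ) hr)
          (h.deg_eq hr) hβ₀
    rw [h1]
    intro hdv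
    exact hβ₀ (hdv.mul_right _)
  obtain ⟨β, hβ⟩ := hS.nonempty_fixed_point_of_prime_not_dvd_card X hcard
  refine ⟨β, β.2, fun s d => ?_⟩
  have h1 := congrArg Subtype.val (hβ s⁻¹)
  have h2 := congrFun (congrArg Subtype.val h1) d
  have h3 : ((s⁻¹ • (β : IrrCharacter D) : IrrCharacter D) : D → ℂ) d = (β : D → ℂ) (s⁻¹⁻¹ • d) :=
    rfl
  rw [inv_inv] at h3
  rw [← h3]
  exact h2

end

end Cfsg.Agent.H723.QD
end

-- part: H723/QD/RelM
section
set_option linter.unusedSectionVars false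
set_option linter.unusedVariables false

namespace Cfsg.Agent.H723.QD

open Cfsg
open scoped ComplexConjugate
open Cfsg.Agent.Characters.Core Cfsg.Agent.Characters.Clifford Cfsg.Agent.H672 Cfsg.Agent.H672.RM
open Cfsg.Agent.H675.Nd

universe u

section

variable {K : Type u} [Group K] [Finite K] {q : ℕ} [hq : Fact q.Prime]

theorem isPGroup_quot (L : Subgroup K) [L.Normal] {k : ℕ} (hidx : L.index = q ^ k) :
    IsPGroup q (K ⧸ L) := IsPGroup.of_card (n := k) hidx

/-- A proper subgroup containing `L`, `K / L` a `q`-group, lies in a normal subgroup of index `q`. -/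
theorem exists_normal_prime (L : Subgroup K) [hL : L.Normal] {k : ℕ} (hidx : L.index = q ^ k)
    (T : Subgroup K) (hLT : L ≤ T) (hT : T ≠ ⊤) :
    ∃ M : Subgroup K, M.Normal ∧ T ≤ M ∧ M.index = q := by
  classical
  obtain ⟨M, hM, hTM⟩ := (eq_top_or_exists_le_coatom T).resolve_left hT
  have hLM : L ≤ M := hLT.trans hTM
  have hMn : M.Normal := by
    have hnil : Group.IsNilpotent (K ⧸ L) := (isPGroup_quot L hidx).isNilpotent
    have hnc : NormalizerCondition (K ⧸ L) := Group.normalizerCondition_of_isNilpotent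
    have hsurj := QuotientGroup.mk'_surjective L
    have hMc : (M.map (QuotientGroup.mk' L)).comap (QuotientGroup.mk' L) = M := by
      rw [Subgroup.comap_map_eq, QuotientGroup.ker_mk']
      exact sup_eq_left.2 hLM
    have h1 : M.map (QuotientGroup.mk' L) ≠ ⊤ := by
      intro h
      rw [h, Subgroup.comap_top] at hMc
      exact hM.1 hMc.symm
    have h2 := hnc _ (lt_top_iff_ne_top.2 h1)
    have h3 : M < Subgroup.normalizer (M : Set K) := by
      refine lt_of_le_of_ne Subgroup.le_normalizer fun h => ?_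
      have h4 : (Subgroup.normalizer ((M.map (QuotientGroup.mk' L) : Subgroup (K ⧸ L)) :
          Set (K ⧸ L))).comap (QuotientGroup.mk' L) = Subgroup.normalizer (M : Set K) := by
        rw [Subgroup.comap_normalizer_eq_of_surjective _ hsurj, hMc]
      rw [← h] at h4
      have h5 : M.map (QuotientGroup.mk' L) =
          Subgroup.normalizer ((M.map (QuotientGroup.mk' L) : Subgroup (K ⧸ L)) : Set (K ⧸ L)) := by
        conv_lhs => rw [← h4]
        exact Subgroup.map_comap_eq_self_of_surjective hsurj _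
      exact h2.ne h5
    exact Subgroup.normalizer_eq_top_iff.1 (hM.2 _ h3)
  have h1 : M.index ∣ q ^ k := hidx ▸ Subgroup.index_dvd_of_le hLM
  obtain ⟨j, -, hj⟩ := (Nat.dvd_prime_pow hq.out).1 h1
  rcases j with _ | j
  · rw [pow_zero, Subgroup.index_eq_one] at hj
    exact absurd hj hM.1
  obtain ⟨M', hM'n, hMM', hM'i⟩ := Cfsg.Agent.CharactersDeep.PrimeIndex.exists_normal_between M
    hq.out hj
  have h2 : M' ≠ ⊤ := by
    intro h
    rw [h, Subgroup.index_top] at hM'i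
    exact hq.out.one_lt.ne hM'i
  have h3 : M = M' := by
    by_contra hne
    exact h2 (hM.2 _ (lt_of_le_of_ne hMM' hne))
  exact ⟨M, hMn, hTM, by rw [h3]; exact hM'i⟩

/-- There is a normal subgroup of relative index `q` over `L`. -/
theorem exists_normal_over (L : Subgroup K) [hL : L.Normal] {k : ℕ}
    (hidx : L.index = q ^ (k + 1)) :
    ∃ Z : Subgroup K, Z.Normal ∧ L ≤ Z ∧ L.relIndex Z = q := by
  classical
  have hp := isPGroup_quot L hidx
  have hcard : Nat.card (K ⧸ L) = q ^ (k + 1) := hidx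
  have hnt : Nontrivial (K ⧸ L) := by
    rw [← Finite.one_lt_card_iff_nontrivial, hcard]
    exact Nat.one_lt_pow (Nat.succ_ne_zero k) hq.out.one_lt
  have h1 : Nontrivial (Subgroup.center (K ⧸ L)) := hp.center_nontrivial
  have h2 : IsPGroup q (Subgroup.center (K ⧸ L)) := hp.to_subgroup _
  obtain ⟨j, hj⟩ := IsPGroup.iff_card.1 h2
  have h3 : q ∣ Nat.card (Subgroup.center (K ⧸ L)) := by
    rw [hj]
    refine dvd_pow_self q fun h => ?_
    rw [h, pow_zero] at hj
    exact absurd hj (Finite.one_lt_card_iff_nontrivial.2 h1).ne'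
  obtain ⟨z, hz⟩ := exists_prime_orderOf_dvd_card' q h3
  let Z0 : Subgroup (K ⧸ L) := Subgroup.zpowers (z : K ⧸ L)
  have hZ0 : Z0 ≤ Subgroup.center (K ⧸ L) := by
    rw [Subgroup.zpowers_le]
    exact z.2
  have hZ0n : Z0.Normal := ⟨fun n hn g => by
    have := Subgroup.mem_center_iff.1 (hZ0 hn) g
    rw [this, mul_inv_cancel_right]
    exact hn⟩
  refine ⟨Z0.comap (QuotientGroup.mk' L), inferInstance, ?_, ?_⟩
  · intro x hx
    rw [Subgroup.mem_comap]
    have : QuotientGroup.mk' L x = 1 := by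
      rw [← MonoidHom.mem_ker, QuotientGroup.ker_mk']
      exact hx
    rw [this]
    exact one_mem _
  · have h4 := Subgroup.relIndex_ker (K := Z0.comap (QuotientGroup.mk' L)) (QuotientGroup.mk' L)
    rw [QuotientGroup.ker_mk', Subgroup.map_comap_eq_self_of_surjective
      (QuotientGroup.mk'_surjective L)] at h4
    rw [h4, Nat.card_zpowers, Subgroup.orderOf_coe, hz]

/-- A character induced from a subgroup of `M` normal vanishes off `M`. -/
theorem indFun_vanish [Fintype K] {T M : Subgroup K} [hM : M.Normal] (hTM : T ≤ M) (ψ : T → ℂ) {x : K}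
    (hx : x ∉ M) : indFun T ψ x = 0 := by
  rw [indFun_apply, Finset.sum_eq_zero, mul_zero]
  intro g _
  refine extendByZero_of_notMem T ψ fun h => hx ?_
  have h1 := hM.conj_mem _ (hTM h) g
  have h2 : g * (g⁻¹ * x * g) * g⁻¹ = x := by group
  rwa [h2] at h1

theorem relM (n : ℕ) : ∀ (L : Subgroup K) [hL : L.Normal] (k : ℕ) (hn : L.index = n)
    (hidx : L.index = q ^ k) {θ : K → ℂ}
    (hθ : IsIrrCharacter K θ) (hred : ¬ IsIrrCharacter L (fun x : L => θ x)),
    ∃ l : K →* ℂˣ, l ≠ 1 ∧ (∀ x ∈ L, l x = 1) ∧ (∀ x, l x ^ q = 1) ∧ ∀ x, (l x : ℂ) * θ x = θ x := by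
  classical
  induction n using Nat.strong_induction_on with
  | _ n ih =>
  intro L hL k hn hidx θ hθ hred
  have : Fintype K := Fintype.ofFinite K
  have : Fintype L := Fintype.ofFinite L
  obtain ⟨τ, hτ, hoτ⟩ := exists_under (f := L.subtype) hθ
  have hoτ' : classInner (fun x : L => θ x) τ ≠ 0 := (over_subtype_iff L θ τ).1 hoτ
  by_cases hT : inertia L τ = ⊤
  · -- `τ` is invariant
    rcases k with _ | k
    · exfalso
      rw [pow_zero, Subgroup.index_eq_one] at hidx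
      apply hred
      subst hidx
      exact isIrr_comp (Subgroup.topEquiv (G := K)).toMonoidHom
        (Subgroup.topEquiv (G := K)).surjective hθ
    obtain ⟨Z, hZn, hLZ, hZq⟩ := exists_normal_over L hidx
    by_cases hZ : IsIrrCharacter Z (fun x : Z => θ x)
    · exfalso
      have : Fintype Z := Fintype.ofFinite Z
      have h1 := Cfsg.Agent.CharactersDeep.PrimeIndex.norm_restrict_prime_index (L.subgroupOf Z)
        hq.out hZq hZ
      have h2 := Cfsg.Agent.CharDeep.CliffordCorr.restrict_eq_smul_of_invariant L hθ hτ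
        (fun g => mem_inertia.1 (by rw [hT]; trivial)) hoτ'
      obtain ⟨e, he⟩ := classInner_isNat (isCharacter_comp L.subtype (isIrr_isCharacter hθ))
        (isIrr_isCharacter hτ)
      have he' : classInner (fun x : L => θ x) τ = e := he
      rw [he'] at h2
      have h3 : classInner (fun x : L.subgroupOf Z => θ (x : Z)) (fun x : L.subgroupOf Z => θ (x : Z))
          = (e : ℂ) * e := by
        have h4 := Cfsg.Agent.H595.Solv.classInner_comp_equiv (Subgroup.subgroupOfEquivOfLe hLZ)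
          (fun x : L => θ x) (fun x : L => θ x)
        have h5 : (fun x : L => θ x) ∘ (Subgroup.subgroupOfEquivOfLe hLZ) =
            fun x : L.subgroupOf Z => θ (x : Z) := rfl
        rw [h5] at h4
        rw [h4, h2, classInner_smul_left, classInner_smul_right, classInner_irr_self hτ]
        simp
      have h1' : ((e * e : ℕ) : ℂ) = 1 ∨ ((e * e : ℕ) : ℂ) = (q : ℕ) := by
        push_cast
        rw [← h3]
        exact h1
      have h6 : e * e = 1 ∨ e * e = q := by
        rcases h1' with h | h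
        · left; exact_mod_cast h
        · right; exact_mod_cast h
      rcases h6 with h | h
      · have he1 : e = 1 := Nat.eq_one_of_mul_eq_one_left h
        apply hred
        rw [h2, he1, Nat.cast_one, one_smul]
        exact hτ
      · have := hq.out
        rw [← h] at this
        have he1 : e ≠ 1 := by
          rintro rfl
          exact Nat.not_prime_one this
        exact Nat.not_prime_mul he1 he1 this
    · have hlt : Z.index < n := by
        rw [← hn, ← Subgroup.relIndex_mul_index hLZ, hZq]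
        have : 0 < Z.index := Nat.pos_of_ne_zero Subgroup.index_ne_zero_of_finite
        nlinarith only [this, hq.out.two_le]
      have hdvd : Z.index ∣ q ^ (k + 1) := hidx ▸ Subgroup.index_dvd_of_le hLZ
      obtain ⟨j, -, hj⟩ := (Nat.dvd_prime_pow hq.out).1 hdvd
      obtain ⟨l, h1, h2, h3, h4⟩ := ih _ hlt Z j rfl hj hθ hZ
      exact ⟨l, h1, fun x hx => h2 x (hLZ hx), h3, h4⟩
  · obtain ⟨M, hMn, hTM, hMq⟩ := exists_normal_prime L hidx (inertia L τ)
      (le_inertia (isIrr_isClassFunction hτ)) hT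
    have hLM : L ≤ M := (le_inertia (isIrr_isClassFunction hτ)).trans hTM
    have : Fintype (inertia L τ) := Fintype.ofFinite _
    obtain ⟨ψ, hψ, hind, -⟩ := Cfsg.Agent.CharDeep.CliffordCorr.clifford_correspondence L τ hτ
      (inertia L τ) (fun g => mem_inertia_iff) (le_inertia (isIrr_isClassFunction hτ)) θ hθ hoτ'
    obtain ⟨l, hl1, hl2⟩ := Cfsg.Agent.CharactersDeep.PrimeIndex.exists_hom_ker M hq.out hMq
    refine ⟨l, ?_, fun x hx => (hl1 x).2 (hLM hx), hl2, fun x => ?_⟩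
    · rintro rfl
      have : M = ⊤ := by
        rw [eq_top_iff]
        intro x _
        exact (hl1 x).1 rfl
      rw [this, Subgroup.index_top] at hMq
      exact hq.out.one_lt.ne hMq
    · by_cases hx : x ∈ M
      · rw [(hl1 x).2 hx, Units.val_one, one_mul]
      · have : θ x = 0 := by
          rw [← hind]
          exact indFun_vanish hTM ψ hx
        rw [this, mul_zero]

end

end Cfsg.Agent.H723.QD
end

-- part: H723/QD/Base
section
set_option linter.unusedSectionVars false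
set_option linter.unusedVariables false

namespace Cfsg.Agent.H723.QD

open Cfsg
open scoped ComplexConjugate
open Cfsg.Agent.Characters.Core Cfsg.Agent.Characters.Clifford Cfsg.Agent.H672 Cfsg.Agent.H672.RM
open Cfsg.Agent.H675.Nd
open Cfsg.Agent.H593.GlaubermanP (Inv)

universe u

section

variable {G : Type u} [Group G] [Finite G] {p q : ℕ} [hp : Fact p.Prime] [hq : Fact q.Prime]

/-- A `p`-element centralising a Sylow `p`-subgroup lies in it. -/
theorem mem_of_centralizes {K : Type*} [Group K] [Finite K] {P₀ : Subgroup K} (hP : IsPGroup p P₀)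
    (hs : ¬ p ∣ P₀.index) {x : K} (hx : x ∈ Subgroup.centralizer (P₀ : Set K)) {k : ℕ}
    (hxk : x ^ p ^ k = 1) : x ∈ P₀ := by
  have hz : IsPGroup p (Subgroup.zpowers x) := by
    have : orderOf x ∣ p ^ k := orderOf_dvd_of_pow_eq_one hxk
    obtain ⟨j, -, hj⟩ := (Nat.dvd_prime_pow hp.out).1 this
    exact IsPGroup.of_card (n := j) (by rw [Nat.card_zpowers, hj])
  have hle : Subgroup.zpowers x ≤ Subgroup.normalizer (P₀ : Set K) := by
    rw [Subgroup.zpowers_le]
    exact Subgroup.centralizer_le_normalizer _ hx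
  have h1 : IsPGroup p (Subgroup.zpowers x ⊔ P₀ : Subgroup K) := hz.to_sup_of_normal_right' hP hle
  let S : Sylow p K := IsPGroup.toSylow hP hs
  have h2 : Subgroup.zpowers x ⊔ P₀ = (S : Subgroup K) := S.3 h1 (by
    show P₀ ≤ _
    exact le_sup_right)
  have h3 : x ∈ Subgroup.zpowers x ⊔ P₀ := (le_sup_left : Subgroup.zpowers x ≤ _)
    (Subgroup.mem_zpowers x)
  rw [h2] at h3
  exact h3

/-- The `p'`-part of the centralizer of a Sylow `p`-subgroup. -/
theorem exists_pprime_cent {K : Type*} [Group K] [Finite K] {P₀ : Subgroup K} (hP : IsPGroup p P₀)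
    (hs : ¬ p ∣ P₀.index) : ∃ Y : Subgroup K, ¬ p ∣ Nat.card Y ∧
      ∀ y, y ∈ Y ↔ y ∈ Subgroup.centralizer (P₀ : Set K) ∧ ¬ p ∣ orderOf y := by
  classical
  let C := Subgroup.centralizer (P₀ : Set K)
  obtain ⟨T⟩ : Nonempty (Sylow p C) := inferInstance
  have hT : (T : Subgroup C) ≤ Subgroup.center C := by
    intro t ht
    have h1 : (t : K) ∈ P₀ := by
      obtain ⟨k, hk⟩ := T.2 ⟨t, ht⟩
      have h2 : (t : K) ^ p ^ k = 1 := by
        have := congrArg (fun z : (T : Subgroup C) => ((z : C) : K)) hk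
        simpa only [_root_.SubmonoidClass.mk_pow, _root_.SubmonoidClass.coe_pow, _root_.OneMemClass.coe_one] using this
      exact mem_of_centralizes hP hs t.2 h2
    rw [Subgroup.mem_center_iff]
    intro c
    refine Subtype.ext ?_
    exact (Subgroup.mem_centralizer_iff.1 c.2 t h1).symm
  obtain ⟨Y', -, -, hY'c, hY'⟩ := Cfsg.Agent.Blocks.CentralSylow.exists_complement T hT
  refine ⟨Y'.map C.subtype, ?_, fun y => ?_⟩
  · rw [Subgroup.card_map_of_injective C.subtype_injective]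
    exact (Nat.Prime.coprime_iff_not_dvd hp.out).1 hY'c.symm
  · constructor
    · rintro ⟨c, hc, rfl⟩
      refine ⟨c.2, ?_⟩
      have := (hY' c).1 hc
      rwa [show orderOf (C.subtype c) = orderOf c from
        orderOf_injective C.subtype C.subtype_injective c]
    · rintro ⟨h1, h2⟩
      refine ⟨⟨y, h1⟩, (hY' _).2 ?_, rfl⟩
      rwa [Subgroup.orderOf_mk]

/-- The hypotheses of the base case. -/
structure BaseHyp (p q : ℕ) (L P Q : Subgroup G) : Prop where
  ne : p ≠ q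
  Ln : L.Normal
  Lq : ¬ q ∣ Nat.card L
  pP : IsPGroup p P
  sP : ¬ p ∣ P.index
  qQ : IsPGroup q Q
  PQ : P ≤ Subgroup.normalizer (Q : Set G)
  top : L ⊔ Q ⊔ P = ⊤
  comm : ∀ x ∈ L, x ∈ Subgroup.normalizer (P : Set G) → ∀ y ∈ Q, y * x = x * y
  cent : ⁅Q, Q⁆ ⊓ Subgroup.centralizer (P : Set G) = ⊥

variable {L P Q : Subgroup G}

theorem BaseHyp.K_normal (h : BaseHyp p q L P Q) : (L ⊔ Q).Normal := by
  have := h.Ln
  rw [← Subgroup.normalizer_eq_top_iff, eq_top_iff, ← h.top]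
  refine sup_le Subgroup.le_normalizer ?_
  refine le_trans ?_ (Subgroup.normalizer_inf_normalizer_le_normalizer_sup L Q)
  refine le_inf ?_ h.PQ
  rw [Subgroup.normalizer_eq_top]
  exact le_top

theorem BaseHyp.K_index (h : BaseHyp p q L P Q) : ∃ k, (L ⊔ Q).index = p ^ k := by
  have := h.K_normal
  obtain ⟨j, hj⟩ := IsPGroup.iff_card.1 h.pP
  have h1 : (L ⊔ Q).index ∣ p ^ j := by
    rw [← hj, ← Subgroup.relIndex_top_right, ← h.top, Subgroup.relIndex_sup_left]
    exact Subgroup.relIndex_dvd_card _ _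
  obtain ⟨k, -, hk⟩ := (Nat.dvd_prime_pow hp.out).1 h1
  exact ⟨k, hk⟩

theorem BaseHyp.L_relIndex (h : BaseHyp p q L P Q) : ∃ k, L.relIndex (L ⊔ Q) = q ^ k := by
  have := h.Ln
  obtain ⟨j, hj⟩ := IsPGroup.iff_card.1 h.qQ
  have h1 : L.relIndex (L ⊔ Q) ∣ q ^ j := by
    rw [← hj, Subgroup.relIndex_sup_left]
    exact Subgroup.relIndex_dvd_card _ _
  obtain ⟨k, -, hk⟩ := (Nat.dvd_prime_pow hq.out).1 h1
  exact ⟨k, hk⟩

/-- `P ∩ L Q ≤ L` -/
theorem BaseHyp.P_inf (h : BaseHyp p q L P Q) {u : G} (hu : u ∈ P) (huK : u ∈ L ⊔ Q) : u ∈ L := by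
  have := h.Ln
  obtain ⟨k, hk⟩ := h.L_relIndex
  obtain ⟨j, hj⟩ := h.pP ⟨u, hu⟩
  have hj' : u ^ p ^ j = 1 := by
    have := congrArg Subtype.val hj
    simpa only [_root_.SubmonoidClass.mk_pow, _root_.OneMemClass.coe_one] using this
  have h1 : u ^ q ^ k ∈ L := by
    have := Subgroup.pow_index_mem (L.subgroupOf (L ⊔ Q)) (⟨u, huK⟩ : (L ⊔ Q : Subgroup G))
    have h2 : (L.subgroupOf (L ⊔ Q)).index = q ^ k := hk
    rw [h2, Subgroup.mem_subgroupOf] at this
    simpa using this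
  have hcop : Nat.Coprime (p ^ j) (q ^ k) :=
    Nat.Coprime.pow _ _ ((Nat.coprime_primes hp.out hq.out).2 h.ne)
  exact Cfsg.Agent.H676.RM.Grp.mem_of_pow_mem hcop (by rw [hj']; exact one_mem _) h1

/-- `Q` centralises `P ∩ L Q` -/
theorem BaseHyp.comm_inf (h : BaseHyp p q L P Q) {u : G} (hu : u ∈ P) (huK : u ∈ L ⊔ Q) {y : G}
    (hy : y ∈ Q) : u * y = y * u :=
  (h.comm u (h.P_inf hu huK) (Subgroup.le_normalizer hu) y hy).symm

theorem BaseHyp.main (h : BaseHyp p q L P Q) {χ : G → ℂ} (hχ : IsIrrCharacter G χ)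
    (hd : ¬ p ∣ charDegree χ) : ¬ q ∣ charDegree χ := by
  classical
  intro hqχ
  obtain ⟨M, hM⟩ := Cfsg.Agent.Blocks.ExistsModular.exists_isPModular hp.out
  have hLn := h.Ln
  have hKn := h.K_normal
  obtain ⟨a, ha⟩ := h.K_index
  obtain ⟨b, hb⟩ := h.L_relIndex
  -- the restriction to `K = L Q`
  let K : Subgroup G := L ⊔ Q
  have hKn' : K.Normal := hKn
  let θ : K → ℂ := fun x => χ x
  have hθ : IsIrrCharacter K θ := by
    obtain ⟨θ₀, hθ₀, ho⟩ := exists_under (f := K.subtype) hχ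
    have h1 := comp_eq_of_pindex K.subtype K.subtype_injective
      (by rw [Subgroup.range_subtype]; exact hKn') (p := p) (k := a) hp.out
      (by rw [Subgroup.range_subtype]; exact ha.dvd) hχ hd hθ₀ ho
    have h2 : θ = θ₀ := h1
    rw [h2]
    exact hθ₀
  have hdeg : charDegree θ = charDegree χ := charDegree_congr_one rfl
  have hdθ : ¬ p ∣ charDegree θ := by rw [hdeg]; exact hd
  -- the linear character
  let LK : Subgroup K := L.subgroupOf K
  have hLKn : LK.Normal := inferInstance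
  have hLKi : LK.index = q ^ b := hb
  have hred : ¬ IsIrrCharacter LK (fun x : LK => θ x) := by
    intro hirr
    have h1 := degree_dvd_card hirr
    have h2 : charDegree (fun x : LK => θ x) = charDegree χ := charDegree_congr_one rfl
    rw [h2] at h1
    have h3 : Nat.card LK = Nat.card L :=
      Nat.card_congr (Subgroup.subgroupOfEquivOfLe (le_sup_left : L ≤ K)).toEquiv
    rw [h3] at h1
    exact h.Lq (hqχ.trans h1)
  obtain ⟨l, hl1, hlL, hlq, hlθ⟩ := relM _ LK b rfl hLKi hθ hred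
  -- the Sylow subgroup of `K`
  let P₀ : Subgroup K := P.subgroupOf K
  have hP₀ : IsPGroup p P₀ := h.pP.comap_of_injective _ (Subgroup.subtype_injective _)
  have hP₀s : ¬ p ∣ P₀.index :=
    Cfsg.Agent.CharactersDeep.QuatSylow.not_dvd_relIndex_of_normal (IsPGroup.toSylow h.pP h.sP) K
  obtain ⟨Y', hY'c, hY'⟩ := exists_pprime_cent hP₀ hP₀s
  let Y : Subgroup G := Y'.map K.subtype
  have hYK : Y ≤ K := by
    rintro _ ⟨y, -, rfl⟩
    exact y.2
  have hYmem : ∀ y : G, y ∈ Y ↔ y ∈ K ∧ (∀ u ∈ P, u ∈ K → u * y = y * u) ∧ ¬ p ∣ orderOf y := by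
    intro y
    constructor
    · rintro ⟨y, hy, rfl⟩
      obtain ⟨h1, h2⟩ := (hY' y).1 hy
      refine ⟨y.2, fun u hu huK => ?_, ?_⟩
      · exact congrArg Subtype.val (Subgroup.mem_centralizer_iff.1 h1 ⟨u, huK⟩
          (Subgroup.mem_subgroupOf.2 hu))
      · rwa [show orderOf (K.subtype y) = orderOf y from Subgroup.orderOf_coe y]
    · rintro ⟨h1, h2, h3⟩
      refine ⟨⟨y, h1⟩, (hY' _).2 ⟨?_, by rwa [Subgroup.orderOf_mk]⟩, rfl⟩
      rw [Subgroup.mem_centralizer_iff]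
      intro u hu
      exact Subtype.ext (h2 u hu u.2)
  have hYp : ¬ p ∣ Nat.card Y := by
    rw [Subgroup.card_map_of_injective K.subtype_injective]
    exact hY'c
  have hQY : Q ≤ Y := by
    intro y hy
    refine (hYmem y).2 ⟨(le_sup_right : Q ≤ K) hy, fun u hu huK => h.comm_inf hu huK hy, ?_⟩
    intro hdv
    have h1 : orderOf y ∣ Nat.card Q := by
      rw [← Subgroup.orderOf_mk y hy]
      exact orderOf_dvd_natCard _
    exact not_dvd_of_pgroup h.ne h.qQ (hdv.trans h1)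
  let A : Subgroup G := Y ⊓ L
  have hAY : A ≤ Y := inf_le_left
  have hPY : P ≤ Subgroup.normalizer (Y : Set G) := by
    intro x hx
    refine Subgroup.mem_normalizer_fintype fun y hy => ?_
    obtain ⟨h1, h2, h3⟩ := (hYmem y).1 hy
    refine (hYmem _).2 ⟨hKn'.conj_mem y h1 x, fun u hu huK => ?_, ?_⟩
    · have h4 := h2 (x⁻¹ * u * x) (P.mul_mem (P.mul_mem (P.inv_mem hx) hu) hx) (by
        have := hKn'.conj_mem u huK x⁻¹
        rwa [inv_inv] at this)
      calc u * (x * y * x⁻¹) = x * ((x⁻¹ * u * x) * y) * x⁻¹ := by group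
        _ = x * y * x⁻¹ * u := by rw [h4]; group
    · rwa [show orderOf (x * y * x⁻¹) = orderOf y from
        orderOf_injective (MulAut.conj x).toMonoidHom (MulAut.conj x).injective y]
  have hLtop : Subgroup.normalizer (L : Set G) = ⊤ := Subgroup.normalizer_eq_top L
  have hinfn : ∀ {x : G}, x ∈ Subgroup.normalizer (Y : Set G) →
      x ∈ Subgroup.normalizer (A : Set G) := by
    intro x hx
    refine Subgroup.mem_normalizer_fintype fun y hy => ⟨?_, hLn.conj_mem y hy.2 x⟩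
    exact ((Subgroup.mem_normalizer_iff.1 hx) y).1 hy.1
  have hYA : Y ≤ Subgroup.normalizer (A : Set G) := fun x hx => hinfn (Subgroup.le_normalizer hx)
  have hPA : P ≤ Subgroup.normalizer (A : Set G) := fun x hx => hinfn (hPY hx)
  have hAQ : A ⊔ Q = Y := by
    refine le_antisymm (sup_le hAY hQY) fun y hy => ?_
    obtain ⟨x, hx, s, hs, rfl⟩ := (Cfsg.Agent.SignalizersComponents.CoprimeBasic.mem_sup_iff
      (by rw [hLtop]; exact le_top) _).1 (hYK hy)
    have h1 : x ∈ Y := by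
      have := Y.mul_mem hy (Y.inv_mem (hQY hs))
      rwa [mul_inv_cancel_right] at this
    exact mul_mem ((le_sup_left : A ≤ A ⊔ Q) ⟨h1, hx⟩) ((le_sup_right : Q ≤ A ⊔ Q) hs)
  have hAq : ¬ q ∣ Nat.card A := fun hdv =>
    h.Lq (hdv.trans (Subgroup.card_dvd_of_le inf_le_right))
  -- the Brauer setup
  let ι : Y →* K := Subgroup.inclusion hYK
  have hset : BSet p P₀ ι :=
    { inj := Subgroup.inclusion_injective _
      pg := hP₀
      syl := hP₀s
      cen := fun d => by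
        rw [Subgroup.mem_centralizer_iff]
        intro u hu
        exact Subtype.ext (((hYmem d).1 d.2).2.1 u hu u.2)
      norm := fun n hn d => by
        obtain ⟨h1, h2, h3⟩ := (hYmem d).1 d.2
        have h4 : (n : G) * d * (n : G)⁻¹ ∈ Y := by
          refine (hYmem _).2 ⟨K.mul_mem (K.mul_mem n.2 h1) (K.inv_mem n.2), fun u hu huK => ?_, ?_⟩
          · have h5 := (Subgroup.mem_normalizer_iff.1 (Subgroup.inv_mem _ hn) ⟨u, huK⟩).1
              (Subgroup.mem_subgroupOf.2 hu)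
            have h6 : ((n : G)⁻¹ * u * ((n : G)⁻¹)⁻¹) ∈ P := Subgroup.mem_subgroupOf.1 h5
            rw [inv_inv] at h6
            have h7 := h2 _ h6 (K.mul_mem (K.mul_mem (K.inv_mem n.2) huK) n.2)
            calc u * ((n : G) * d * (n : G)⁻¹) = n * (((n : G)⁻¹ * u * n) * d) * (n : G)⁻¹ := by
                  group
              _ = (n : G) * d * (n : G)⁻¹ * u := by rw [h7]; group
          · rwa [show orderOf ((n : G) * d * (n : G)⁻¹) = orderOf (d : G) from
              orderOf_injective (MulAut.conj (n : G)).toMonoidHom (MulAut.conj (n : G)).injective d]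
        exact ⟨⟨_, h4⟩, rfl⟩ }
  have hFY : Fintype Y := Fintype.ofFinite _
  have hFK : Fintype K := Fintype.ofFinite _
  -- the invariant good character
  have hnK : ∀ s ∈ P, ∀ g ∈ K, s * g * s⁻¹ ∈ K := fun s _ g hg => hKn'.conj_mem g hg s
  have hnY : ∀ s ∈ P, ∀ g ∈ Y, s * g * s⁻¹ ∈ Y := fun s hs g hg =>
    ((Subgroup.mem_normalizer_iff.1 (hPY hs)) g).1 hg
  obtain ⟨β, hβg, hβP⟩ : ∃ β : IrrCharacter Y, Good p P₀ ι θ β ∧ P ≤ stab (β : Y → ℂ) := by
    let _ := Cfsg.Agent.H595.Conj.conjAct K P hnK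
    let _ := Cfsg.Agent.H595.Conj.conjAct Y P hnY
    obtain ⟨β, h1, h2⟩ := hset.exists_inv hM hYp hθ hdθ (S := P) h.pP (fun s d => rfl)
      (fun s u hu => by
        rw [Subgroup.mem_subgroupOf]
        show (s : G) * u * (s : G)⁻¹ ∈ P
        exact P.mul_mem (P.mul_mem s.2 (Subgroup.mem_subgroupOf.1 hu)) (P.inv_mem s.2))
      (fun s x => (isIrr_isClassFunction hχ) (x : G) (s : G))
    refine ⟨β, h1, fun s hs => (mem_stab_iff_inv (hPY hs)).2 ?_⟩
    exact (Cfsg.Agent.H595.Conj.inv_iff Y P hnY (β : Y → ℂ)).2 h2 s hs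
  have hβq : ¬ q ∣ charDegree (β : Y → ℂ) := by
    refine lemA h.ne hAY hYA hPA hPY h.pP h.qQ hAq hYp hAQ h.PQ ?_ h.cent β.2 hβP
    intro x hx hxP s hs
    refine h.comm x hx.2 ?_ s hs
    refine Subgroup.mem_normalizer_fintype fun u hu => ?_
    have h1 := hxP u hu
    have h2 : x * u * x⁻¹ = u := by rw [← h1, mul_inv_cancel_right]
    rw [h2]
    exact hu
  -- the twist
  obtain ⟨n, hn, hrel⟩ := hset.unique hM hYp hθ hβg (hset.good_lin l hlθ hβg)
  have hβc := isIrr_isClassFunction β.2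
  obtain ⟨x, hx, s, hs, hxs⟩ := (Cfsg.Agent.SignalizersComponents.CoprimeBasic.mem_sup_iff
    (by rw [hLtop]; exact le_top) _).1 (n.2 : (n : G) ∈ L ⊔ Q)
  have hsK : s ∈ K := (le_sup_right : Q ≤ K) hs
  have hxK : x ∈ K := (le_sup_left : L ≤ K) hx
  have hsN : (⟨s, hsK⟩ : K) ∈ Subgroup.normalizer (P₀ : Set K) := by
    have := hset.cen ⟨s, hQY hs⟩
    exact Subgroup.centralizer_le_normalizer _ this
  have hxN : (⟨x, hxK⟩ : K) ∈ Subgroup.normalizer (P₀ : Set K) := by
    have h1 : (⟨x, hxK⟩ : K) = n * (⟨s, hsK⟩ : K)⁻¹ := Subtype.ext (by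
      show x = (n : G) * s⁻¹
      rw [← hxs, mul_inv_cancel_right])
    rw [h1]
    exact mul_mem hn (inv_mem hsN)
  have hstep : ∀ d d' : Y, (d' : G) = x * d * x⁻¹ →
      (β : Y → ℂ) d' = (l (ι d) : ℂ) * (β : Y → ℂ) d := by
    intro d d' hdd
    let sY : Y := ⟨s, hQY hs⟩
    have h1 := hrel (sY⁻¹ * d * sY) d' (Subtype.ext (by
      show (d' : G) = (n : G) * (s⁻¹ * d * s) * (n : G)⁻¹
      rw [hdd, ← hxs]
      group))
    have h3 : (β : Y → ℂ) (sY⁻¹ * d * sY) = (β : Y → ℂ) d := by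
      have := hβc d sY⁻¹
      rwa [inv_inv] at this
    rw [linMul_apply, h3] at h1
    rw [← h1]
    congr 2
    rw [MonoidHom.comp_apply, map_mul, map_mul, map_mul, map_mul, map_inv, map_inv]
    rw [mul_comm (l (ι sY))⁻¹, inv_mul_cancel_right]
  have hiter : ∀ (j : ℕ) (d d' : Y), (d' : G) = x ^ j * d * (x ^ j)⁻¹ →
      (β : Y → ℂ) d' = (l (ι d) : ℂ) ^ j * (β : Y → ℂ) d := by
    intro j
    induction j with
    | zero =>
      intro d d' hdd
      have : d' = d := Subtype.ext (by rw [hdd]; simp)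
      rw [this, pow_zero, one_mul]
    | succ j ih =>
      intro d d' hdd
      obtain ⟨d₁, hd₁⟩ := hset.norm _ hxN d
      have hd₁' : (d₁ : G) = x * d * x⁻¹ := congrArg Subtype.val hd₁
      rw [ih d₁ d' (by rw [hdd, hd₁', pow_succ]; group), hstep d d₁ hd₁', hd₁, map_mul, map_mul,
        map_inv, mul_comm (l ⟨x, hxK⟩), mul_inv_cancel_right, pow_succ]
      ring
  let m := orderOf x
  have hmq : m.Coprime q := by
    rw [Nat.coprime_comm, Nat.Prime.coprime_iff_not_dvd hq.out]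
    intro hdv
    have h1 : orderOf x ∣ Nat.card L := by
      rw [← Subgroup.orderOf_mk x hx]
      exact orderOf_dvd_natCard _
    exact h.Lq (hdv.trans h1)
  have hm1 : (l.comp ι) ^ m = 1 := by
    refine eq_one_of_mul_eq (p := q) (k := 1) hq.out β.2 hβq (fun y => ?_) (funext fun d => ?_)
    · rw [MonoidHom.pow_apply, MonoidHom.comp_apply, ← pow_mul, mul_comm, pow_mul, pow_one, hlq,
        one_pow]
    · have h1 := hiter m d d (by
        show (d : G) = x ^ orderOf x * d * (x ^ orderOf x)⁻¹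
        rw [pow_orderOf_eq_one]
        simp)
      rw [MonoidHom.pow_apply, MonoidHom.comp_apply, Units.val_pow_eq_pow_val]
      exact h1.symm
  have hlY : ∀ d : Y, l (ι d) = 1 := by
    intro d
    have h1 : l (ι d) ^ m = 1 := by
      have := DFunLike.congr_fun hm1 d
      rwa [MonoidHom.pow_apply, MonoidHom.comp_apply] at this
    have h2 := hlq (ι d)
    have h3 : orderOf (l (ι d)) ∣ Nat.gcd m q :=
      Nat.dvd_gcd (orderOf_dvd_of_pow_eq_one h1) (orderOf_dvd_of_pow_eq_one h2)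
    rw [hmq.gcd_eq_one, Nat.dvd_one, orderOf_eq_one_iff] at h3
    exact h3
  apply hl1
  ext z
  obtain ⟨x', hx', s', hs', hxs'⟩ := (Cfsg.Agent.SignalizersComponents.CoprimeBasic.mem_sup_iff
    (by rw [hLtop]; exact le_top) _).1 (z.2 : (z : G) ∈ L ⊔ Q)
  have hz : z = (⟨x', (le_sup_left : L ≤ K) hx'⟩ : K) * ι ⟨s', hQY hs'⟩ := Subtype.ext hxs'.symm
  rw [hz, map_mul, hlY, mul_one, hlL _ (Subgroup.mem_subgroupOf.2 hx')]
  rfl

end

end Cfsg.Agent.H723.QD
end

-- part: H723/QD/TrG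
section
set_option linter.unusedSectionVars false
set_option linter.unusedVariables false

namespace Cfsg.Agent.H723.QD

open Cfsg.Agent.H672.RM
open scoped commutatorElement

section

variable {Δ Γ W : Type*} [Group Δ] [Group Γ] [Group W] [Finite Δ] [Finite Γ] [Finite W]

/-- `Δ → Γ` with central kernel, `Δ → W`, the kernel of the second map onto `D`. -/
structure Tr (π : Δ →* Γ) (m : Δ →* W) (D : Subgroup Γ) : Prop where
  sπ : Function.Surjective π
  sm : Function.Surjective m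
  cen : π.ker ≤ Subgroup.center Δ
  kerD : m.ker.map π = D

/-- the image of a subgroup of `Γ` in `W` -/
def up (π : Δ →* Γ) (m : Δ →* W) (X : Subgroup Γ) : Subgroup W := (X.comap π).map m

theorem mem_up {π : Δ →* Γ} {m : Δ →* W} {X : Subgroup Γ} {w : W} :
    w ∈ up π m X ↔ ∃ x, π x ∈ X ∧ m x = w := Iff.rfl

theorem up_mono {π : Δ →* Γ} {m : Δ →* W} {X Y : Subgroup Γ} (h : X ≤ Y) :
    up π m X ≤ up π m Y := by
  rintro _ ⟨x, hx, rfl⟩
  exact ⟨x, h hx, rfl⟩

variable {π : Δ →* Γ} {m : Δ →* W} {D : Subgroup Γ}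

theorem Tr.up_index (h : Tr π m D) (X : Subgroup Γ) : (up π m X).index ∣ X.index := by
  have h1 := Subgroup.index_map_dvd (X.comap π) h.sm
  rwa [Subgroup.index_comap_of_surjective X h.sπ] at h1

theorem Tr.ker_mem (h : Tr π m D) {x : Δ} (hx : m x = 1) : π x ∈ D := by
  rw [← h.kerD]
  exact ⟨x, hx, rfl⟩

theorem Tr.exists_ker (h : Tr π m D) {d : Γ} (hd : d ∈ D) : ∃ x, m x = 1 ∧ π x = d := by
  rw [← h.kerD] at hd
  obtain ⟨x, hx, rfl⟩ := hd
  exact ⟨x, hx, rfl⟩

theorem Tr.le_center (h : Tr π m D) : π.ker.map m ≤ Subgroup.center W := by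
  rintro _ ⟨z, hz, rfl⟩
  rw [Subgroup.mem_center_iff]
  intro w
  obtain ⟨x, rfl⟩ := h.sm w
  rw [← map_mul, ← map_mul, Subgroup.mem_center_iff.1 (h.cen hz) x]

variable {r : ℕ} [hr : Fact r.Prime]

theorem Tr.exists_syl (h : Tr π m D) (X : Subgroup Γ) (hX : ¬ r ∣ X.index) :
    ∃ S ≤ up π m X, IsPGroup r S ∧ ¬ r ∣ S.index := by
  obtain ⟨S, hS⟩ := exists_sylIn (p := r) (up π m X)
  refine ⟨S, hS.le, hS.pg, ?_⟩
  rw [← Subgroup.relIndex_mul_index hS.le, hr.out.dvd_mul]
  rintro (h1 | h1)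
  · exact hS.ndvd h1
  · exact hX (h1.trans (h.up_index X))

theorem Tr.down_eq [hD : D.Normal] (h : Tr π m D) {X : Subgroup Γ} (hX : IsPGroup r X)
    {S : Subgroup W} (hSX : S ≤ up π m X) (hS : ¬ r ∣ S.index) : (S.comap m).map π = X ⊔ D := by
  have hle : (S.comap m).map π ≤ X ⊔ D := by
    rintro _ ⟨x, hx, rfl⟩
    obtain ⟨x', hx', hxx⟩ := mem_up.1 (hSX hx)
    have h1 : m (x'⁻¹ * x) = 1 := by
      rw [map_mul, map_inv, hxx, inv_mul_cancel]
    have h2 : π x = π x' * π (x'⁻¹ * x) := by rw [← map_mul, mul_inv_cancel_left]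
    rw [h2]
    exact Subgroup.mul_mem_sup hx' (h.ker_mem h1)
  have hDle : D ≤ (S.comap m).map π := by
    intro d hd
    obtain ⟨x, hx, rfl⟩ := h.exists_ker hd
    refine ⟨x, ?_, rfl⟩
    show m x ∈ S
    rw [hx]
    exact one_mem S
  refine le_antisymm hle ?_
  rw [← Subgroup.relIndex_eq_one]
  have h1 : ¬ r ∣ ((S.comap m).map π).relIndex (X ⊔ D) := by
    intro hd
    apply hS
    have h2 := Subgroup.index_map_dvd (S.comap m) h.sπ
    rw [Subgroup.index_comap_of_surjective S h.sm] at h2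
    exact (hd.trans (Subgroup.relIndex_dvd_index_of_le hle)).trans h2
  have h2 : ((S.comap m).map π).relIndex (X ⊔ D) ∣ Nat.card X := by
    refine (Subgroup.relIndex_dvd_of_le_left _ hDle).trans ?_
    rw [Subgroup.relIndex_sup_right]
    exact Subgroup.relIndex_dvd_card _ _
  obtain ⟨k, hk⟩ := IsPGroup.iff_card.1 hX
  rw [hk] at h2
  obtain ⟨j, -, hj⟩ := (Nat.dvd_prime_pow hr.out).1 h2
  rcases j with _ | j
  · rw [hj, pow_zero]
  · exfalso
    apply h1
    rw [hj]
    exact dvd_pow_self r (Nat.succ_ne_zero j)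

theorem Tr.up_sup_le [hD : D.Normal] (h : Tr π m D) {X : Subgroup Γ} (hX : IsPGroup r X)
    {S : Subgroup W} (hSX : S ≤ up π m X) (hS : ¬ r ∣ S.index) :
    up π m (X ⊔ D) ≤ S ⊔ π.ker.map m := by
  rintro _ ⟨x, hx, rfl⟩
  have hx' : π x ∈ X ⊔ D := hx
  rw [← h.down_eq hX hSX hS] at hx'
  obtain ⟨y, hy, hyx⟩ := hx'
  have h1 : m x = m y * m (y⁻¹ * x) := by rw [← map_mul, mul_inv_cancel_left]
  rw [h1]
  refine Subgroup.mul_mem_sup hy ⟨y⁻¹ * x, ?_, rfl⟩
  show π (y⁻¹ * x) = 1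
  rw [map_mul, map_inv, hyx, inv_mul_cancel]

theorem Tr.norm_down [hD : D.Normal] (h : Tr π m D) {X : Subgroup Γ} (hX : IsPGroup r X)
    {S : Subgroup W} (hSX : S ≤ up π m X) (hS : ¬ r ∣ S.index) {x : Δ}
    (hx : m x ∈ Subgroup.normalizer (S : Set W)) :
    π x ∈ Subgroup.normalizer ((X ⊔ D : Subgroup Γ) : Set Γ) := by
  rw [← h.down_eq hX hSX hS]
  refine Subgroup.mem_normalizer_fintype ?_
  rintro _ ⟨y, hy, rfl⟩
  refine ⟨x * y * x⁻¹, ?_, by rw [map_mul, map_mul, map_inv]⟩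
  show m (x * y * x⁻¹) ∈ S
  rw [map_mul, map_mul, map_inv]
  exact ((Subgroup.mem_normalizer_iff.1 hx) (m y)).1 hy

theorem Tr.norm_up [hD : D.Normal] (h : Tr π m D) {X : Subgroup Γ} (hX : IsPGroup r X)
    {S : Subgroup W} (hSr : IsPGroup r S) (hSX : S ≤ up π m X) (hS : ¬ r ∣ S.index) {x : Δ}
    (hx : π x ∈ Subgroup.normalizer ((X ⊔ D : Subgroup Γ) : Set Γ)) :
    m x ∈ Subgroup.normalizer (S : Set W) := by
  refine Subgroup.mem_normalizer_fintype fun s hs => ?_
  obtain ⟨y, hy, rfl⟩ := mem_up.1 (hSX hs)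
  have h1 : m x * m y * (m x)⁻¹ ∈ up π m (X ⊔ D) := by
    refine mem_up.2 ⟨x * y * x⁻¹, ?_, by rw [map_mul, map_mul, map_inv]⟩
    rw [map_mul, map_mul, map_inv]
    exact ((Subgroup.mem_normalizer_iff.1 hx) (π y)).1 ((le_sup_left : X ≤ X ⊔ D) hy)
  have h2 := h.up_sup_le hX hSX hS h1
  have hcen := h.le_center
  obtain ⟨s', hs', z, hz, hsz⟩ := (Cfsg.Agent.SignalizersComponents.CoprimeBasic.mem_sup_iff
    (hcen.trans (Subgroup.center_le_normalizer _)) _).1 h2
  have hzc := Subgroup.mem_center_iff.1 (hcen hz)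
  obtain ⟨a, ha⟩ := hSr ⟨_, hs⟩
  obtain ⟨b, hb⟩ := hSr ⟨_, hs'⟩
  have ha' : (m y) ^ r ^ a = 1 := by simpa only [_root_.SubmonoidClass.mk_pow, _root_.OneMemClass.coe_one] using congrArg Subtype.val ha
  have hb' : s' ^ r ^ b = 1 := by simpa only [_root_.SubmonoidClass.mk_pow, _root_.OneMemClass.coe_one] using congrArg Subtype.val hb
  have hz1 : z = s'⁻¹ * (m x * m y * (m x)⁻¹) := by rw [← hsz, inv_mul_cancel_left]
  have hzp : z ^ r ^ (a + b) = 1 := by
    have h3 : (s' * z) ^ r ^ (a + b) = 1 := by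
      rw [hsz, conj_pow, pow_add, pow_mul, ha', one_pow, mul_one, mul_inv_cancel]
    have h4 : Commute s' z := hzc s'
    rw [h4.mul_pow] at h3
    rwa [pow_add, mul_comm (r ^ a), pow_mul, hb', one_pow, one_mul, ← mul_comm (r ^ a),
      ← pow_add] at h3
  have hzS : z ∈ S :=
    Cfsg.Agent.H676.RM.Grp.central_mem_sylow (IsPGroup.toSylow hSr hS) (hcen hz) hzp
  rw [← hsz]
  exact S.mul_mem hs' hzS

/-- Frattini argument. -/
theorem normalizer_sup_le [hD : D.Normal] {X : Subgroup Γ} (hX : IsPGroup r X)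
    (hXs : ¬ r ∣ X.index) : Subgroup.normalizer ((X ⊔ D : Subgroup Γ) : Set Γ) ≤
      Subgroup.normalizer (X : Set Γ) ⊔ D := by
  intro g hg
  have hgU := map_conj_eq_of_mem hg
  have hXU : SylIn r X (X ⊔ D) := ⟨le_sup_left, hX, fun hd =>
    hXs (hd.trans (Subgroup.relIndex_dvd_index_of_le le_sup_left))⟩
  have hXg : SylIn r (X.map (MulAut.conj g).toMonoidHom) (X ⊔ D) := by
    refine ⟨?_, hX.map _, ?_⟩
    · rw [← hgU]
      exact Subgroup.map_mono le_sup_left
    · conv_rhs => rw [← hgU]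
      rw [Subgroup.relIndex_map_map_of_injective _ _ (MulAut.conj g).injective]
      exact hXU.ndvd
  obtain ⟨u, hu, hug⟩ := hXg.conj hXU
  have h1 : u * g ∈ Subgroup.normalizer (X : Set Γ) := by
    apply mem_normalizer_of_map_conj
    conv_rhs => rw [← hug]
    rw [Subgroup.map_map]
    congr 1
    ext x
    simp
  obtain ⟨a, ha, d, hd, had⟩ := (Cfsg.Agent.SignalizersComponents.CoprimeBasic.mem_sup_iff
    (X := D) (Y := X) (by rw [Subgroup.normalizer_eq_top]; exact le_top) u⁻¹).1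
    (by rw [sup_comm]; exact inv_mem hu)
  have h2 : g = a * (d * (u * g)) := by
    rw [← mul_assoc, had, inv_mul_cancel_left]
  rw [h2, sup_comm]
  exact Subgroup.mul_mem_sup ha (mul_mem (Subgroup.le_normalizer hd) h1)

/-- Transfer of `N(P) ≤ N(Q)`. -/
theorem Tr.norm_le [hD : D.Normal] (h : Tr π m D) {p q : ℕ} [hp : Fact p.Prime] [hq : Fact q.Prime]
    {P Q : Subgroup Γ} (hP : IsPGroup p P) (hPs : ¬ p ∣ P.index) (hQ : IsPGroup q Q)
    (hN : Subgroup.normalizer (P : Set Γ) ≤ Subgroup.normalizer (Q : Set Γ))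
    {P₁ Q₁ : Subgroup W} (hP₁ : P₁ ≤ up π m P) (hP₁s : ¬ p ∣ P₁.index) (hQ₁q : IsPGroup q Q₁)
    (hQ₁ : Q₁ ≤ up π m Q) (hQ₁s : ¬ q ∣ Q₁.index) :
    Subgroup.normalizer (P₁ : Set W) ≤ Subgroup.normalizer (Q₁ : Set W) := by
  intro n hn
  obtain ⟨x, rfl⟩ := h.sm n
  refine h.norm_up hQ hQ₁q hQ₁ hQ₁s ?_
  have h1 := normalizer_sup_le hP hPs (h.norm_down hP hP₁ hP₁s hn)
  have h2 : Subgroup.normalizer (P : Set Γ) ⊔ D ≤
      Subgroup.normalizer ((Q ⊔ D : Subgroup Γ) : Set Γ) := by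
    refine sup_le (hN.trans ?_) (le_sup_right.trans Subgroup.le_normalizer)
    refine le_trans (le_inf le_rfl ?_) (Subgroup.normalizer_inf_normalizer_le_normalizer_sup Q D)
    rw [Subgroup.normalizer_eq_top D]
    exact le_top
  exact h2 h1

/-- Transfer of `C_{Q'}(P) = 1`, modulo the central subgroup. -/
theorem Tr.cent_le [hD : D.Normal] (h : Tr π m D) {p q : ℕ} [hp : Fact p.Prime] [hq : Fact q.Prime]
    (hpq : p ≠ q) {P Q : Subgroup Γ} (hP : IsPGroup p P) (hQ : IsPGroup q Q)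
    (hPQ : P ≤ Subgroup.normalizer (Q : Set Γ))
    (hC : ⁅Q, Q⁆ ⊓ Subgroup.centralizer (P : Set Γ) = ⊥)
    {P₁ Q₁ : Subgroup W} (hP₁ : P₁ ≤ up π m P) (hP₁s : ¬ p ∣ P₁.index)
    (hQ₁ : Q₁ ≤ up π m Q) :
    ⁅Q₁, Q₁⁆ ⊓ Subgroup.centralizer (P₁ : Set W) ≤ π.ker.map m := by
  classical
  rintro w ⟨hw, hwP⟩
  have h1 : ⁅Q₁, Q₁⁆ ≤ up π m ⁅Q, Q⁆ := by
    rw [Subgroup.commutator_le]
    intro a ha b hb
    obtain ⟨x, hx, rfl⟩ := mem_up.1 (hQ₁ ha)
    obtain ⟨y, hy, rfl⟩ := mem_up.1 (hQ₁ hb)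
    refine mem_up.2 ⟨⁅x, y⁆, ?_, map_commutatorElement m x y⟩
    rw [map_commutatorElement]
    exact Subgroup.commutator_mem_commutator hx hy
  obtain ⟨x, hx, rfl⟩ := mem_up.1 (h1 hw)
  -- `π x ∈ Q'` commutes with `P` modulo `D`
  have hcom : ∀ u ∈ P, u * π x * u⁻¹ * (π x)⁻¹ ∈ D := by
    intro u hu
    have h2 : u ∈ (P₁.comap m).map π := by
      rw [h.down_eq hP hP₁ hP₁s]
      exact (le_sup_left : P ≤ P ⊔ D) hu
    obtain ⟨v, hv, rfl⟩ := h2
    have h3 : m (v * x * v⁻¹ * x⁻¹) = 1 := by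
      have h4 := Subgroup.mem_centralizer_iff.1 hwP (m v) hv
      rw [map_mul, map_mul, map_mul, map_inv, map_inv, h4]
      group
    have h5 := h.ker_mem h3
    rwa [map_mul, map_mul, map_mul, map_inv, map_inv] at h5
  have hPQQ : ∀ u ∈ P, ∀ y ∈ ⁅Q, Q⁆, u * y * u⁻¹ ∈ ⁅Q, Q⁆ := by
    intro u hu y hy
    have h1 : Q.map (MulAut.conj u).toMonoidHom = Q := map_conj_eq_of_mem (hPQ hu)
    have h2 : ⁅Q, Q⁆.map (MulAut.conj u).toMonoidHom = ⁅Q, Q⁆ := by
      rw [Subgroup.map_commutator, h1]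
    rw [← h2]
    exact ⟨y, hy, rfl⟩
  -- fixed point in the coset
  let E : Subgroup Γ := ⁅Q, Q⁆ ⊓ D
  let X := {y : Γ // y ∈ ⁅Q, Q⁆ ∧ (π x)⁻¹ * y ∈ D}
  let _ : MulAction P X :=
    { smul := fun u y => ⟨(u : Γ) * y * (u : Γ)⁻¹, hPQQ u u.2 y y.2.1, by
        have h3 := hcom u u.2
        have h4 := y.2.2
        have h5 : (u : Γ) * ((π x)⁻¹ * y) * (u : Γ)⁻¹ ∈ D := hD.conj_mem _ h4 u
        have h6 : (π x)⁻¹ * ((u : Γ) * y * (u : Γ)⁻¹) =
            (π x)⁻¹ * ((u : Γ) * π x * (u : Γ)⁻¹ * (π x)⁻¹) * (π x) *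
              ((u : Γ) * ((π x)⁻¹ * y) * (u : Γ)⁻¹) := by
          group
        show (π x)⁻¹ * ((u : Γ) * y * (u : Γ)⁻¹) ∈ D
        rw [h6]
        have h7 := hD.conj_mem _ h3 (π x)⁻¹
        rw [inv_inv] at h7
        exact D.mul_mem h7 h5⟩
      one_smul := fun y => Subtype.ext (by
        show ((1 : P) : Γ) * y * ((1 : P) : Γ)⁻¹ = y
        simp)
      mul_smul := fun u v y => Subtype.ext (by
        show ((u * v : P) : Γ) * y * ((u * v : P) : Γ)⁻¹ = u * (v * y * (v : Γ)⁻¹) * (u : Γ)⁻¹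
        rw [Subgroup.coe_mul]
        group) }
  have hXcard : Nat.card X = Nat.card E := by
    refine Nat.card_congr ⟨fun y => ⟨(π x)⁻¹ * y, ⟨⁅Q, Q⁆.mul_mem (⁅Q, Q⁆.inv_mem hx) y.2.1, y.2.2⟩⟩,
      fun e => ⟨π x * e, ⁅Q, Q⁆.mul_mem hx e.2.1, by rw [inv_mul_cancel_left]; exact e.2.2⟩,
      fun y => Subtype.ext (by simp), fun e => Subtype.ext (by simp)⟩
  have hnd : ¬ p ∣ Nat.card X := by
    rw [hXcard]
    intro hd
    have h3 : Nat.card E ∣ Nat.card Q := Subgroup.card_dvd_of_le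
      (inf_le_left.trans (Subgroup.commutator_le_self Q))
    obtain ⟨k, hk⟩ := IsPGroup.iff_card.1 hQ
    rw [hk] at h3
    exact hpq ((Nat.prime_dvd_prime_iff_eq hp.out hq.out).1 (hp.out.dvd_of_dvd_pow (hd.trans h3)))
  obtain ⟨y, hy⟩ := hP.nonempty_fixed_point_of_prime_not_dvd_card X hnd
  have hy1 : (y : Γ) ∈ (⊥ : Subgroup Γ) := by
    rw [← hC]
    refine ⟨y.2.1, ?_⟩
    show (y : Γ) ∈ Subgroup.centralizer (P : Set Γ)
    rw [Subgroup.mem_centralizer_iff]
    intro u hu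
    have h3 : (u : Γ) * y * (u : Γ)⁻¹ = y := congrArg Subtype.val (hy ⟨u, hu⟩)
    rwa [mul_inv_eq_iff_eq_mul] at h3
  have hxD : π x ∈ D := by
    have h3 := y.2.2
    rw [Subgroup.mem_bot.1 hy1, mul_one] at h3
    exact (inv_mem_iff).1 h3
  obtain ⟨k, hk, hkx⟩ := h.exists_ker hxD
  refine ⟨x * k⁻¹, ?_, ?_⟩
  · show π (x * k⁻¹) = 1
    rw [map_mul, map_inv, hkx, mul_inv_cancel]
  · rw [map_mul, map_inv, hk, inv_one, mul_one]

end

end Cfsg.Agent.H723.QD
end

-- part: H723/QD/Trip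
section
set_option linter.unusedSectionVars false
set_option linter.unusedVariables false

namespace Cfsg.Agent.H723.QD

open Cfsg
open scoped ComplexConjugate commutatorElement
open Cfsg.Agent.Characters.Core Cfsg.Agent.Characters.Clifford Cfsg.Agent.H672 Cfsg.Agent.H672.RM
open Cfsg.Agent.H675.Nd
open Cfsg.Agent.H595.Triple Cfsg.Agent.H595.Central

universe u

section cov

open Representation Module Cfsg.Agent.CharDeep.IrrEquiv Cfsg.Agent.CharDeep.ProjExt
  Cfsg.Agent.CharDeep.TripleCover Cfsg.Agent.CharDeep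

/-- The cover of `H595.Triple.exists_cov`, with the kernel acting faithfully. -/
theorem exists_cov_f {Γ : Type u} [Group Γ] [Finite Γ] (N : Subgroup Γ) [hN : N.Normal]
    (θ : IrrCharacter N) (hinv : Cfsg.Agent.H595.Count.CInv N (θ : N → ℂ)) :
    ∃ (Δ : Type u) (_ : Group Δ) (_ : Finite Δ) (π : Δ →* Γ) (s : N →* Δ) (χR : Δ → ℂ),
      Cov N (θ : N → ℂ) Δ π s χR ∧ ∀ x ∈ π.ker, χR x = χR 1 → x = 1 := by
  obtain ⟨k, ρ, hρ, hθ⟩ := θ.2
  have hinv' : ∀ (g : Γ) (n : N), ρ.character (MulAut.conjNormal g n) = ρ.character n := by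
    intro g n
    rw [hθ, ← hinv g n]
    congr 1
  obtain ⟨Δ, hfin, hΔ, hsurj, hsec, hker⟩ := exists_finite_cover ρ hρ hinv'
  let s : N →* Δ := (sec ρ).codRestrict Δ hsec
  have hRs : ∀ n, coverRep Δ (s n) = ρ n := fun n => sec_snd ρ n
  refine ⟨Δ, inferInstance, hfin, proj Δ, s, (coverRep Δ).character, ⟨hsurj, hker,
    fun n => rfl, ?_, ?_, ?_⟩, ?_⟩
  · constructor
    rintro _ ⟨n, rfl⟩ x
    exact ⟨MulAut.conjNormal x.1.1 n, Subtype.ext (conj_sec ρ x.1 (hΔ x.2) n).symm⟩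
  · refine isIrrCharacter_of_rep _ ?_
    refine Cfsg.Agent.CharactersDeep.IrrEquiv.isIrreducible_of_comp (coverRep Δ) s ?_
    have : (MonoidHom.comp (coverRep Δ) s : Representation ℂ N (Fin k → ℂ)) = ρ :=
      MonoidHom.ext fun n => hRs n
    rw [this]
    exact hρ
  · intro n
    rw [← hθ]
    show LinearMap.trace ℂ _ (coverRep Δ (s n)) = LinearMap.trace ℂ _ (ρ n)
    rw [hRs]
  · intro x hx h1
    have hx1 : x.1.1 = 1 := hx
    rw [Representation.char_one, Cfsg.Agent.Characters.Values.character_eq_finrank_iff] at h1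
    apply Subtype.ext
    refine Prod.ext hx1 (Units.ext ?_)
    exact h1

end cov

section

variable {Γ : Type u} [Group Γ] [Finite Γ] {p q : ℕ} [hp : Fact p.Prime] [hq : Fact q.Prime]

theorem trip (hpq : p ≠ q) (D L P Q : Subgroup Γ) [hD : D.Normal] [hL : L.Normal] (hDL : D ≤ L)
    (hLq : ¬ q ∣ D.relIndex L) (hP : IsPGroup p P) (hPs : ¬ p ∣ P.index) (hQ : IsPGroup q Q)
    (hQs : ¬ q ∣ Q.index)
    (hN : Subgroup.normalizer (P : Set Γ) ≤ Subgroup.normalizer (Q : Set Γ))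
    (hC : ⁅Q, Q⁆ ⊓ Subgroup.centralizer (P : Set Γ) = ⊥) (htop : L ⊔ Q ⊔ P = ⊤)
    {δ : D → ℂ} (hδ : IsIrrCharacter D δ) (hinv : inertia D δ = ⊤) (hδq : ¬ q ∣ charDegree δ)
    {ζ : (Q ⊔ D : Subgroup Γ) → ℂ} (hζ : IsIrrCharacter _ ζ)
    (hζδ : ∀ d : D, ζ (Subgroup.inclusion le_sup_right d) = δ d)
    {χ : Γ → ℂ} (hχ : IsIrrCharacter Γ χ) (hχo : Over D.subtype χ δ) (hχp : ¬ p ∣ charDegree χ) :
    ¬ q ∣ charDegree χ := by
  classical
  have hinv' : Cfsg.Agent.H595.Count.CInv D δ := by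
    intro g n
    have h1 : g ∈ inertia D δ := by rw [hinv]; trivial
    exact mem_inertia_iff.1 h1 n
  obtain ⟨Δ, hΔ, hΔf, π, s, χR, h, hfaith⟩ := exists_cov_f D ⟨δ, hδ⟩ hinv'
  have hLn := h.normal
  have hsec : ∀ n, π (s n) = n := h.section_
  let W := Δ ⧸ s.range
  let m : Δ →* W := QuotientGroup.mk' s.range
  have hm : Function.Surjective m := QuotientGroup.mk'_surjective _
  have hkm : m.ker = s.range := QuotientGroup.ker_mk' _
  obtain ⟨c, hc, -⟩ := Cfsg.Agent.CharactersDeep.Extraspecial.exists_central_hom h.irr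
  let c' : π.ker →* ℂˣ := c.comp (Subgroup.inclusion h.ker_le)
  have hc' : ∀ (x : Δ) (z : π.ker), χR (x * z) = χR x * c' z := fun x z =>
    hc x (Subgroup.inclusion h.ker_le z)
  have hTS : TSet π m s χR δ c' := by
    refine ⟨h.surj, hm, ?_, hkm.symm, h.ker_le, h.irr, hδ, h.ext, hc'⟩
    intro a b hab
    have h2 := congrArg π hab
    rw [hsec, hsec] at h2
    exact Subtype.ext h2
  have hTr : Tr π m D := by
    refine ⟨h.surj, hm, h.ker_le, ?_⟩
    rw [hkm]
    ext d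
    constructor
    · rintro ⟨_, ⟨n, rfl⟩, rfl⟩
      rw [hsec]
      exact n.2
    · intro hd
      exact ⟨s ⟨d, hd⟩, ⟨_, rfl⟩, hsec _⟩
  -- the character of `W`
  have hcomp : π.comp s = D.subtype := MonoidHom.ext fun n => hsec n
  obtain ⟨β, hβ, -, hβχ⟩ := hTS.exists_up hχ (by rw [hcomp]; exact hχo)
  have hdeg : charDegree χ = charDegree β * charDegree δ := by
    have h1 := hβχ 1
    have h2 := h.ext 1
    rw [map_one, map_one] at h1
    rw [map_one] at h2
    change χR 1 = δ 1 at h2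
    apply charDegree_of_eq
    rw [h1, h2, ← coe_charDegree hβ, ← coe_charDegree hδ, Nat.cast_mul]
  have hβp : ¬ p ∣ charDegree β := fun hd => hχp (by rw [hdeg]; exact hd.mul_right _)
  -- Sylow subgroups of `W`
  obtain ⟨P₁, hP₁, hP₁p, hP₁s⟩ := hTr.exists_syl P hPs
  obtain ⟨Q₁, hQ₁, hQ₁q, hQ₁s⟩ := hTr.exists_syl Q hQs
  have hnorm := hTr.norm_le hP hPs hQ hN hP₁ hP₁s hQ₁q hQ₁ hQ₁s
  have hPQ₁ : P₁ ≤ Subgroup.normalizer (Q₁ : Set W) := Subgroup.le_normalizer.trans hnorm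
  have hPQ : P ≤ Subgroup.normalizer (Q : Set Γ) := Subgroup.le_normalizer.trans hN
  let Z : Subgroup W := π.ker.map m
  have hZc : Z ≤ Subgroup.center W := hTr.le_center
  let LW : Subgroup W := up π m L
  have hLWn : LW.Normal := by
    have h1 : (L.comap π).Normal := inferInstance
    exact h1.map m hm
  have hZL : Z ≤ LW := by
    rintro _ ⟨z, hz, rfl⟩
    refine ⟨z, ?_, rfl⟩
    show π z ∈ L
    rw [MonoidHom.mem_ker.1 hz]
    exact one_mem L
  have hcomapZ : Z.comap m = D.comap π := by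
    rw [Subgroup.comap_map_eq, hkm]
    apply le_antisymm
    · refine sup_le (fun x hx => ?_) ?_
      · show π x ∈ D
        rw [MonoidHom.mem_ker.1 hx]
        exact one_mem D
      · rintro _ ⟨n, rfl⟩
        show π (s n) ∈ D
        rw [hsec]
        exact n.2
    · intro x hx
      obtain ⟨n, z, hz, rfl⟩ := h.comap_eq x hx
      exact mul_mem (Subgroup.mem_sup_right ⟨n, rfl⟩) (Subgroup.mem_sup_left hz)
  have hcomapL : LW.comap m = L.comap π := by
    show ((L.comap π).map m).comap m = _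
    rw [Subgroup.comap_map_eq, hkm]
    refine sup_eq_left.2 ?_
    rintro _ ⟨n, rfl⟩
    show π (s n) ∈ L
    rw [hsec]
    exact hDL n.2
  have hZLq : ¬ q ∣ Z.relIndex LW := by
    have h1 : (Z.comap m).relIndex (LW.comap m) = Z.relIndex LW := by
      rw [Subgroup.relIndex_comap, Subgroup.map_comap_eq_self_of_surjective hm]
    have h2 : (D.comap π).relIndex (L.comap π) = D.relIndex L := by
      rw [Subgroup.relIndex_comap, Subgroup.map_comap_eq_self_of_surjective h.surj]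
    rw [← h1, hcomapZ, hcomapL, h2]
    exact hLq
  obtain ⟨L₁, hL₁n, hL₁, hL₁q, hL₁s⟩ := Cfsg.Agent.H676.RM.Grp.exists_hall hZc hZL hZLq
    (IsPGroup.toSylow hQ₁q hQ₁s)
  have hL₁s' : LW ≤ L₁ ⊔ Q₁ := hL₁s
  have hinf : ∀ y ∈ L₁, y ∈ Q₁ → y = 1 := by
    intro y hy hyQ
    have h1 := ((hL₁ y).1 hy).2
    obtain ⟨k, hk⟩ := hQ₁q ⟨y, hyQ⟩
    have hk' : y ^ q ^ k = 1 := by simpa only [_root_.SubmonoidClass.mk_pow, _root_.OneMemClass.coe_one] using congrArg Subtype.val hk
    obtain ⟨j, -, hj⟩ := (Nat.dvd_prime_pow hq.out).1 (orderOf_dvd_of_pow_eq_one hk')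
    rcases j with _ | j
    · rwa [pow_zero, orderOf_eq_one_iff] at hj
    · exfalso
      apply h1
      rw [hj]
      exact dvd_pow_self q (Nat.succ_ne_zero j)
  have hbase : BaseHyp p q L₁ P₁ Q₁ :=
    { ne := hpq
      Ln := hL₁n
      Lq := hL₁q
      pP := hP₁p
      sP := hP₁s
      qQ := hQ₁q
      PQ := hPQ₁
      top := by
        rw [eq_top_iff]
        intro w _
        obtain ⟨x, rfl⟩ := hm w
        have hx : π x ∈ L ⊔ (Q ⊔ P) := by
          rw [← sup_assoc, htop]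
          trivial
        obtain ⟨l, hl, y, hy, hly⟩ := (Cfsg.Agent.SignalizersComponents.CoprimeBasic.mem_sup_iff
          (by rw [Subgroup.normalizer_eq_top L]; exact le_top) _).1 hx
        obtain ⟨y₁, hy₁, y₂, hy₂, hyy⟩ :=
          (Cfsg.Agent.SignalizersComponents.CoprimeBasic.mem_sup_iff hPQ _).1 hy
        obtain ⟨l', rfl⟩ := h.surj l
        obtain ⟨a, rfl⟩ := h.surj y₁
        obtain ⟨b, rfl⟩ := h.surj y₂
        have h1 : m x = m l' * m a * m b * m ((l' * a * b)⁻¹ * x) := by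
          rw [← map_mul, ← map_mul, ← map_mul, mul_inv_cancel_left]
        have h2 : m ((l' * a * b)⁻¹ * x) ∈ Z := ⟨_, by
          show π ((l' * a * b)⁻¹ * x) = 1
          rw [map_mul, map_inv, map_mul, map_mul, ← hly, ← hyy, mul_assoc (π l'), inv_mul_cancel],
          rfl⟩
        have hZ' : Z ≤ L₁ ⊔ Q₁ ⊔ P₁ := (hZL.trans hL₁s').trans le_sup_left
        have hl1 : m l' ∈ L₁ ⊔ Q₁ ⊔ P₁ := (hL₁s'.trans le_sup_left) ⟨l', hl, rfl⟩
        have ha1 : m a ∈ L₁ ⊔ Q₁ ⊔ P₁ := by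
          have h3 := hTr.up_sup_le hQ hQ₁ hQ₁s (up_mono le_sup_left ⟨a, hy₁, rfl⟩)
          exact (sup_le (le_sup_right.trans le_sup_left) hZ') h3
        have hb1 : m b ∈ L₁ ⊔ Q₁ ⊔ P₁ := by
          have h3 := hTr.up_sup_le hP hP₁ hP₁s (up_mono le_sup_left ⟨b, hy₂, rfl⟩)
          exact (sup_le le_sup_right hZ') h3
        rw [h1]
        exact mul_mem (mul_mem (mul_mem hl1 ha1) hb1) (hZ' h2)
      comm := by
        intro x hx hxP y hy
        have hxQ := hnorm hxP
        have h1 : y * x * y⁻¹ * x⁻¹ ∈ L₁ :=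
          L₁.mul_mem (hL₁n.conj_mem x hx y) (L₁.inv_mem hx)
        have h2 : y * x * y⁻¹ * x⁻¹ ∈ Q₁ := by
          have h3 := ((Subgroup.mem_normalizer_iff.1 hxQ) y⁻¹).1 (Q₁.inv_mem hy)
          have h4 : y * x * y⁻¹ * x⁻¹ = y * (x * y⁻¹ * x⁻¹) := by group
          rw [h4]
          exact Q₁.mul_mem hy h3
        have h3 := hinf _ h1 h2
        rw [mul_inv_eq_one, mul_inv_eq_iff_eq_mul] at h3
        exact h3
      cent := by
        rw [eq_bot_iff]
        intro w hw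
        have hwZ := hTr.cent_le hpq hP hQ hPQ hC hP₁ hP₁s hQ₁ hw
        obtain ⟨z, hz, rfl⟩ := hwZ
        -- the linear character
        let T : Subgroup Δ := (Q ⊔ D).comap π
        have hsT : s.range ≤ T := by
          rintro _ ⟨n, rfl⟩
          show π (s n) ∈ Q ⊔ D
          rw [hsec]
          exact (le_sup_right : D ≤ Q ⊔ D) n.2
        have hTn : T ≤ Subgroup.normalizer (s.range : Set Δ) := by
          rw [Subgroup.normalizer_eq_top s.range]
          exact le_top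
        let θ' : s.range → ℂ := fun y => χR y
        let ψ₁ : T → ℂ := fun y => ζ ⟨π y, y.2⟩
        let ψ₂ : T → ℂ := fun y => χR y
        have hψ₁s : ∀ k : s.range, ψ₁ (Subgroup.inclusion hsT k) = θ' k := by
          rintro ⟨_, n, rfl⟩
          show ζ ⟨π (s n), _⟩ = χR (s n)
          rw [h.ext]
          show _ = δ n
          rw [← hζδ n]
          congr 1
          exact Subtype.ext (hsec n)
        have hθ' : IsIrrCharacter s.range θ' := by
          have h1 := hTS.irr_ker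
          rw [hkm] at h1
          exact h1
        have hψ₁ : IsIrrCharacter T ψ₁ := by
          let f : T →* (Q ⊔ D : Subgroup Γ) :=
            (π.comp T.subtype).codRestrict (Q ⊔ D) (fun y => y.2)
          have hf : Function.Surjective f := by
            rintro ⟨y, hy⟩
            obtain ⟨x, rfl⟩ := h.surj y
            exact ⟨⟨x, hy⟩, rfl⟩
          exact isIrr_comp f hf hζ
        have hψ₂ : IsIrrCharacter T ψ₂ := by
          refine isIrr_of_comp (Subgroup.inclusion hsT)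
            (isCharacter_comp T.subtype (isIrr_isCharacter h.irr)) ?_
          exact hθ'
        have hψ₂o : Over (Subgroup.inclusion hsT) ψ₂ θ' := by
          have : Fintype s.range := Fintype.ofFinite _
          rw [over_iff]
          have h1 : ψ₂ ∘ Subgroup.inclusion hsT = θ' := rfl
          rw [h1, classInner_irr_self hθ']
          exact one_ne_zero
        obtain ⟨ν, ⟨hν, hνs⟩, hνψ⟩ := (gal hsT hTn hθ' hψ₁ hψ₁s).surjOn ⟨hψ₂, hψ₂o⟩
        have hνψ' : ∀ y, ν y * ψ₁ y = ψ₂ y := fun y => congrFun hνψ y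
        have h1 : ψ₁ 1 = ψ₂ 1 := by
          have h2 := hψ₁s 1
          rw [map_one] at h2
          exact h2
        have hψ1 : ψ₁ 1 ≠ 0 := isIrr_apply_one_ne_zero hψ₁
        have hν1 : ν 1 = 1 := by
          have h2 := hνψ' 1
          rw [← h1] at h2
          exact mul_right_cancel₀ hψ1 (h2.trans (one_mul _).symm)
        obtain ⟨f, hf⟩ := Cfsg.Agent.Characters.Linear.exists_hom_of_isIrrCharacter hν hν1
        -- `z` is in the commutator subgroup of `T` modulo `s.range`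
        have h2 : ⁅Q₁, Q₁⁆ ≤ (⁅T, T⁆ : Subgroup Δ).map m := by
          rw [Subgroup.map_commutator]
          have h3 : Q₁ ≤ T.map m := hQ₁.trans (up_mono le_sup_left)
          exact Subgroup.commutator_mono h3 h3
        obtain ⟨t, ht, htz⟩ := h2 hw.1
        have h3 : t⁻¹ * z ∈ s.range := by
          rw [← hkm]
          show m (t⁻¹ * z) = 1
          rw [map_mul, map_inv, htz, inv_mul_cancel]
        have htT : t ∈ T := Subgroup.commutator_le_self T ht
        have hft : f ⟨t, htT⟩ = 1 := hom_commutator f ht htT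
        have hzT : z ∈ T := by
          show π z ∈ Q ⊔ D
          rw [MonoidHom.mem_ker.1 hz]
          exact one_mem _
        have hfz : f ⟨z, hzT⟩ = 1 := by
          have h4 : (⟨z, hzT⟩ : T) = ⟨t, htT⟩ * Subgroup.inclusion hsT ⟨t⁻¹ * z, h3⟩ :=
            Subtype.ext (by
              show z = t * (t⁻¹ * z)
              rw [mul_inv_cancel_left])
          have h5 : f (Subgroup.inclusion hsT ⟨t⁻¹ * z, h3⟩) = 1 := by
            have h6 := hνs ⟨t⁻¹ * z, h3⟩
            rw [hν1, hf] at h6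
            exact Units.ext h6
          rw [h4, map_mul, hft, h5, one_mul]
        have hz1 : z = 1 := by
          refine hfaith z hz ?_
          have h4 := hνψ' ⟨z, hzT⟩
          rw [hf] at h4
          simp only [hfz, Units.val_one, one_mul] at h4
          have h5 : ψ₁ ⟨z, hzT⟩ = ψ₁ 1 := by
            show ζ ⟨π z, _⟩ = ζ ⟨π (1 : Δ), _⟩
            congr 1
            exact Subtype.ext ((MonoidHom.mem_ker.1 hz).trans (map_one π).symm)
          rw [h5, h1] at h4
          exact h4.symm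
        rw [hz1, map_one]
        exact one_mem _ }
  have hβq := hbase.main hβ hβp
  rw [hdeg, hq.out.dvd_mul]
  rintro (h1 | h1)
  · exact hβq h1
  · exact hδq h1

end

end Cfsg.Agent.H723.QD
end

-- part: H723/QD/Main
section
set_option linter.unusedSectionVars false
set_option linter.unusedVariables false

namespace Cfsg.Agent.H723.QD

open Cfsg
open scoped ComplexConjugate commutatorElement
open Cfsg.Agent.Characters.Core Cfsg.Agent.Characters.Clifford Cfsg.Agent.H672 Cfsg.Agent.H672.RM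
open Cfsg.Agent.H675.Nd

universe u

section

variable {G : Type u} [Group G] [Finite G] {p q : ℕ} [hp : Fact p.Prime] [hq : Fact q.Prime]

/-- A character of degree prime to `p` of a subgroup of index prime to `p` lies under one. -/
theorem exists_over_incl_not_dvd {V X : Subgroup G} (hVX : V ≤ X) (hi : ¬ p ∣ V.relIndex X)
    {ψ : V → ℂ} (hψ : IsIrrCharacter V ψ) (hd : ¬ p ∣ charDegree ψ) :
    ∃ ζ : X → ℂ, IsIrrCharacter X ζ ∧ Over (Subgroup.inclusion hVX) ζ ψ ∧
      ¬ p ∣ charDegree ζ := by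
  have : Fintype X := Fintype.ofFinite _
  have : Fintype (V.subgroupOf X) := Fintype.ofFinite _
  obtain ⟨ζ, h1, h2, h3⟩ := Cfsg.Agent.H597.RelThompson.exists_over_not_dvd p (V.subgroupOf X) hi
    (isIrr_sub hVX hψ) (by
      have : charDegree (ψ ∘ Subgroup.subgroupOfEquivOfLe hVX) = charDegree ψ :=
        charDegree_congr_one (by rw [Function.comp_apply, map_one])
      rwa [this])
  refine ⟨ζ, h1, ?_, h3⟩
  rw [over_iff_sub hVX]
  exact (over_subtype_iff _ _ _).2 h2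

theorem mem_of_coprime_index {K U Q : Subgroup G} (hKU : K ≤ U)
    (hU : U ≤ Subgroup.normalizer (K : Set G)) (hi : ¬ q ∣ K.relIndex U) (hQ : IsPGroup q Q)
    (hQU : Q ≤ U) : Q ≤ K := by
  intro y hy
  have hn : (K.subgroupOf U).Normal := normal_subgroupOf hU
  obtain ⟨j, hj⟩ := hQ ⟨y, hy⟩
  have hj' : y ^ q ^ j = 1 := by simpa only [_root_.SubmonoidClass.mk_pow, _root_.OneMemClass.coe_one] using congrArg Subtype.val hj
  have h1 : y ^ K.relIndex U ∈ K := by
    have := Subgroup.pow_index_mem (K.subgroupOf U) (⟨y, hQU hy⟩ : U)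
    rw [Subgroup.mem_subgroupOf] at this
    show y ^ (K.subgroupOf U).index ∈ K
    simpa using this
  have hcop : Nat.Coprime (q ^ j) (K.relIndex U) :=
    Nat.Coprime.pow_left _ ((Nat.Prime.coprime_iff_not_dvd hq.out).2 hi)
  exact Cfsg.Agent.H676.RM.Grp.mem_of_pow_mem hcop (by rw [hj']; exact one_mem _) h1

theorem eq_one_of_dvd_pow_mul {t a b : ℕ} (h : t ∣ q ^ a * p ^ b) (hp' : ¬ p ∣ t) (hq' : ¬ q ∣ t) :
    t = 1 := by
  have h1 : Nat.Coprime t (q ^ a) :=
    (Nat.Coprime.pow_left a ((Nat.Prime.coprime_iff_not_dvd hq.out).2 hq')).symm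
  have h2 : Nat.Coprime t (p ^ b) :=
    (Nat.Coprime.pow_left b ((Nat.Prime.coprime_iff_not_dvd hp.out).2 hp')).symm
  exact Nat.Coprime.eq_one_of_dvd (Nat.Coprime.mul_right h1 h2) h

/-- The intersections of a `q`-chain of `G` with a subgroup `L ≠ 1`: a proper subgroup of `L`, normalised by all
elements normalising `L`, of `q`-power index or of index prime to `q`. -/
theorem exists_step (hsolv : IsPSolvable q G) {L : Subgroup G} (hL : L ≠ ⊥) :
    ∃ L' < L, Subgroup.normalizer (L : Set G) ≤ Subgroup.normalizer (L' : Set G) ∧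
      ((∃ k, L'.relIndex L = q ^ k) ∨ ¬ q ∣ L'.relIndex L) := by
  classical
  obtain ⟨n, H, h0, hlast, hmono, hnorm, hstep⟩ := hsolv
  by_contra hcon
  push Not at hcon
  have key : ∀ i : Fin (n + 1), H i ⊓ L = L := by
    intro i
    induction i using Fin.reverseInduction with
    | last => rw [hlast, top_inf_eq]
    | cast i ih =>
      by_contra hne
      have hlt : H i.castSucc ⊓ L < L := lt_of_le_of_ne inf_le_right hne
      have hn := hnorm i.castSucc
      have h1 : Subgroup.normalizer (L : Set G) ≤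
          Subgroup.normalizer ((H i.castSucc ⊓ L : Subgroup G) : Set G) := by
        intro x hx
        refine Subgroup.mem_normalizer_fintype fun y hy => ⟨hn.conj_mem y hy.1 x, ?_⟩
        exact ((Subgroup.mem_normalizer_iff.1 hx) y).1 hy.2
      obtain ⟨h2, h3⟩ := hcon _ hlt h1
      have hle : L ≤ H i.succ := inf_eq_right.1 ih
      have h4 : (H i.castSucc ⊓ L).relIndex L ∣ (H i.castSucc).relIndex (H i.succ) := by
        rw [Subgroup.inf_relIndex_right]
        have h5 : (H i.castSucc).subgroupOf (H i.succ) = (H i.castSucc).subgroupOf (H i.succ) := rfl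
        have h6 : ((H i.castSucc).subgroupOf (H i.succ)).relIndex (L.subgroupOf (H i.succ)) =
            (H i.castSucc).relIndex L := Subgroup.relIndex_subgroupOf hle
        rw [← h6]
        exact Subgroup.relIndex_dvd_index_of_normal _ _
      rcases hstep i with ⟨m, hm⟩ | hm
      · rw [hm] at h4
        obtain ⟨j, -, hj⟩ := (Nat.dvd_prime_pow hq.out).1 h4
        exact h2 j hj
      · have h7 : q ∣ (H i.castSucc).relIndex (H i.succ) := h3.trans h4
        have h8 := Nat.Coprime.eq_one_of_dvd hm.symm h7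
        exact hq.out.one_lt.ne' h8
  have := key 0
  rw [h0, bot_inf_eq] at this
  exact hL this.symm

/-- The standing hypotheses. -/
structure Hyp (p q : ℕ) (P Q : Subgroup G) : Prop where
  ne : p ≠ q
  pP : IsPGroup p P
  sP : ¬ p ∣ P.index
  qQ : IsPGroup q Q
  sQ : ¬ q ∣ Q.index
  nrm : Subgroup.normalizer (P : Set G) ≤ Subgroup.normalizer (Q : Set G)
  cent : ⁅Q, Q⁆ ⊓ Subgroup.centralizer (P : Set G) = ⊥

variable {P Q : Subgroup G}

theorem Hyp.PQ (h : Hyp p q P Q) : P ≤ Subgroup.normalizer (Q : Set G) :=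
  Subgroup.le_normalizer.trans h.nrm

theorem index_sub {X U : Subgroup G} (hX : ¬ p ∣ X.index) (hXU : X ≤ U) :
    ¬ p ∣ (X.subgroupOf U).index := fun hd =>
  hX (hd.trans (Subgroup.relIndex_dvd_index_of_le hXU))

theorem Hyp.sub (h : Hyp p q P Q) {U : Subgroup G} (hPU : P ≤ U) (hQU : Q ≤ U) :
    Hyp p q (P.subgroupOf U) (Q.subgroupOf U) := by
  have hnorm : ∀ {X : Subgroup G} (hX : X ≤ U) (x : U),
      x ∈ Subgroup.normalizer ((X.subgroupOf U : Subgroup U) : Set U) ↔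
        (x : G) ∈ Subgroup.normalizer (X : Set G) := by
    intro X hX x
    constructor
    · intro hx
      refine Subgroup.mem_normalizer_fintype fun y hy => ?_
      exact ((Subgroup.mem_normalizer_iff.1 hx) ⟨y, hX hy⟩).1 hy
    · intro hx
      refine Subgroup.mem_normalizer_fintype fun y hy => ?_
      exact ((Subgroup.mem_normalizer_iff.1 hx) y).1 hy
  refine ⟨h.ne, h.pP.comap_of_injective _ (Subgroup.subtype_injective _), index_sub h.sP hPU,
    h.qQ.comap_of_injective _ (Subgroup.subtype_injective _), index_sub h.sQ hQU, ?_, ?_⟩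
  · intro x hx
    exact (hnorm hQU x).2 (h.nrm ((hnorm hPU x).1 hx))
  · rw [eq_bot_iff]
    rintro w ⟨hw, hwP⟩
    have h1 : (w : G) ∈ ⁅Q, Q⁆ := by
      have h2 : (w : G) ∈ (⁅Q.subgroupOf U, Q.subgroupOf U⁆ : Subgroup U).map U.subtype :=
        ⟨w, hw, rfl⟩
      rw [Subgroup.map_commutator, Subgroup.subgroupOf_map_subtype, inf_eq_left.2 hQU] at h2
      exact h2
    have h2 : (w : G) ∈ Subgroup.centralizer (P : Set G) := by
      rw [Subgroup.mem_centralizer_iff]
      intro u hu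
      exact congrArg Subtype.val (Subgroup.mem_centralizer_iff.1 hwP ⟨u, hPU hu⟩ hu)
    have h3 : (w : G) ∈ (⊥ : Subgroup G) := by
      rw [← h.cent]
      exact ⟨h1, h2⟩
    exact Subtype.ext (Subgroup.mem_bot.1 h3)

theorem Hyp.step_trip (h : Hyp p q P Q) {U D L : Subgroup G} (hPU : P ≤ U) (hQU : Q ≤ U)
    (hLU : L ≤ U) (hDL : D ≤ L) (hUD : U ≤ Subgroup.normalizer (D : Set G))
    (hUL : U ≤ Subgroup.normalizer (L : Set G)) (hLq : ¬ q ∣ D.relIndex L)
    (htop : L ⊔ Q ⊔ P = U) {δ : D → ℂ} (hδ : IsIrrCharacter D δ) (hinv : U ≤ stab δ)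
    (hδq : ¬ q ∣ charDegree δ) {ζ : (Q ⊔ D : Subgroup G) → ℂ} (hζ : IsIrrCharacter _ ζ)
    (hζδ : ∀ d : D, ζ (Subgroup.inclusion le_sup_right d) = δ d) {χ : U → ℂ}
    (hχ : IsIrrCharacter U χ) (hχo : Over (Subgroup.inclusion (hDL.trans hLU)) χ δ)
    (hχp : ¬ p ∣ charDegree χ) : ¬ q ∣ charDegree χ := by
  classical
  have h' := h.sub hPU hQU
  have hDn : (D.subgroupOf U).Normal := normal_subgroupOf hUD
  have hLn : (L.subgroupOf U).Normal := normal_subgroupOf hUL
  have hDU : D ≤ U := hDL.trans hLU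
  have hsup : Q.subgroupOf U ⊔ D.subgroupOf U = (Q ⊔ D).subgroupOf U :=
    (Subgroup.subgroupOf_sup hQU hDU).symm
  let f : (Q.subgroupOf U ⊔ D.subgroupOf U : Subgroup U) →* (Q ⊔ D : Subgroup G) :=
    (U.subtype.comp (Q.subgroupOf U ⊔ D.subgroupOf U : Subgroup U).subtype).codRestrict (Q ⊔ D)
      (fun y => by
        have h1 : (y : U) ∈ (Q ⊔ D).subgroupOf U := hsup ▸ y.2
        exact h1)
  have hf : Function.Surjective f := by
    rintro ⟨z, hz⟩
    have hzU : z ∈ U := (sup_le hQU hDU) hz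
    exact ⟨⟨⟨z, hzU⟩, by rw [hsup]; exact hz⟩, rfl⟩
  refine trip h.ne (D.subgroupOf U) (L.subgroupOf U) (P.subgroupOf U) (Q.subgroupOf U)
    (Subgroup.subgroupOf_mono U hDL) ?_ h'.pP h'.sP h'.qQ h'.sQ h'.nrm h'.cent ?_
    (δ := δ ∘ Subgroup.subgroupOfEquivOfLe hDU) (isIrr_sub hDU hδ) ?_ ?_ (ζ := ζ ∘ f)
    (isIrr_comp f hf hζ) ?_ hχ ((over_iff_sub hDU χ δ).1 hχo) hχp
  · rw [Subgroup.relIndex_subgroupOf hLU]
    exact hLq
  · rw [← Subgroup.subgroupOf_sup hLU hQU, ← Subgroup.subgroupOf_sup (sup_le hLU hQU) hPU, htop,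
      Subgroup.subgroupOf_self]
  · have h1 := inertia_sub hDU hUD δ
    have h2 : (stab δ).subgroupOf U = ⊤ := Subgroup.subgroupOf_eq_top.2 hinv
    rw [h2] at h1
    exact h1
  · have h1 : charDegree (δ ∘ Subgroup.subgroupOfEquivOfLe hDU) = charDegree δ :=
      charDegree_congr_one (by rw [Function.comp_apply, map_one])
    rw [h1]
    exact hδq
  · intro d
    have h1 := hζδ (Subgroup.subgroupOfEquivOfLe hDU d)
    rw [Function.comp_apply, Function.comp_apply, ← h1]
    rfl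

theorem Hyp.step_bot (h : Hyp p q P Q) {U : Subgroup G} (hPU : P ≤ U) (hQU : Q ≤ U)
    (htop : Q ⊔ P = U) {χ : U → ℂ} (hχ : IsIrrCharacter U χ) (hχp : ¬ p ∣ charDegree χ) :
    ¬ q ∣ charDegree χ := by
  have h' := h.sub hPU hQU
  have hb : BaseHyp p q (⊥ : Subgroup U) (P.subgroupOf U) (Q.subgroupOf U) :=
    { ne := h.ne
      Ln := inferInstance
      Lq := by
        rw [Subgroup.card_bot]
        exact fun hd => hq.out.one_lt.ne' (Nat.dvd_one.1 hd)
      pP := h'.pP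
      sP := h'.sP
      qQ := h'.qQ
      PQ := h'.PQ
      top := by
        rw [bot_sup_eq, ← Subgroup.subgroupOf_sup hQU hPU, htop, Subgroup.subgroupOf_self]
      comm := by
        intro x hx _ y _
        rw [Subgroup.mem_bot.1 hx, mul_one, one_mul]
      cent := h'.cent }
  exact hb.main hχ hχp

theorem Hyp.main (hsolv : IsPSolvable q G) (h : Hyp p q P Q) (n : ℕ) : ∀ U : Subgroup G,
    Nat.card U = n → P ≤ U → Q ≤ U → ∀ χ : U → ℂ, IsIrrCharacter U χ → ¬ p ∣ charDegree χ →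
      ¬ q ∣ charDegree χ := by
  classical
  induction n using Nat.strong_induction_on with
  | _ n ih =>
  intro U hU hPU hQU χ hχ hχp
  have ih' : ∀ V : Subgroup G, V ≤ U → V ≠ U → P ≤ V → Q ≤ V → ∀ χ : V → ℂ,
      IsIrrCharacter V χ → ¬ p ∣ charDegree χ → ¬ q ∣ charDegree χ := by
    intro V hVU hne hPV hQV
    refine ih _ ?_ V rfl hPV hQV
    rw [← hU]
    refine lt_of_le_of_ne (Nat.le_of_dvd Nat.card_pos (Subgroup.card_dvd_of_le hVU)) fun hc => ?_
    exact hne (Subgroup.eq_of_le_of_card_ge hVU hc.ge)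
  have hQidx : ∀ {A B : Subgroup G}, Q ≤ A → A ≤ B → ¬ q ∣ A.relIndex B := by
    intro A B hQA hAB hd
    have h1 : A.relIndex B ∣ Q.relIndex B := Subgroup.relIndex_dvd_of_le_left B hQA
    exact h.sQ ((hd.trans h1).trans (Subgroup.relIndex_dvd_index_of_le (hQA.trans hAB)))
  -- `K`
  obtain ⟨K, ⟨hKU, hUK, hKq⟩, hKmin⟩ : ∃ K : Subgroup G,
      (K ≤ U ∧ U ≤ Subgroup.normalizer (K : Set G) ∧ ¬ q ∣ K.relIndex U) ∧
      ∀ K', K' ≤ K → (K' ≤ U ∧ U ≤ Subgroup.normalizer (K' : Set G) ∧ ¬ q ∣ K'.relIndex U) →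
        K' = K := by
    have hex : ({K : Subgroup G | K ≤ U ∧ U ≤ Subgroup.normalizer (K : Set G) ∧
        ¬ q ∣ K.relIndex U}).Nonempty :=
      ⟨U, le_rfl, Subgroup.le_normalizer, by
        rw [Subgroup.relIndex_self]
        exact fun hd => hq.out.one_lt.ne' (Nat.dvd_one.1 hd)⟩
    obtain ⟨K, hK⟩ := (Set.toFinite {K : Subgroup G | K ≤ U ∧ U ≤ Subgroup.normalizer (K : Set G) ∧
        ¬ q ∣ K.relIndex U}).exists_minimal hex
    exact ⟨K, hK.1, fun K' hle hK' => le_antisymm hle (hK.2 hK' hle)⟩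
  have hQK : Q ≤ K := mem_of_coprime_index hKU hUK hKq h.qQ hQU
  by_cases hKP : K ⊔ P = U
  swap
  · -- induction in `K P`
    have hle : K ⊔ P ≤ U := sup_le hKU hPU
    obtain ⟨χ', hχ', ho', hd'⟩ := exists_under_not_dvd (Subgroup.inclusion hle) hχ hχp
    have hq' := ih' (K ⊔ P) hle hKP le_sup_right (hQK.trans le_sup_left) χ' hχ' hd'
    obtain ⟨θ, hθ, hoθ⟩ := exists_under
      (f := Subgroup.inclusion (le_sup_left : K ≤ K ⊔ P)) hχ'
    have hKKP : K ⊔ P ≤ Subgroup.normalizer (K : Set G) := hle.trans hUK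
    have h1 := (div_dvd_of_over le_sup_left hKKP hχ' hθ hoθ).1
    have h2 : Over (Subgroup.inclusion hKU) χ θ := by
      have h3 := (over_comp_iff (Subgroup.inclusion hle)
        (Subgroup.inclusion (le_sup_left : K ≤ K ⊔ P)) (isIrr_isCharacter hχ) hθ).2
        ⟨χ', hχ', ho', hoθ⟩
      exact h3
    obtain ⟨h3, h4⟩ := div_dvd_of_over hKU hUK hχ hθ h2
    intro hd
    rw [← Nat.mul_div_cancel' h3, hq.out.dvd_mul] at hd
    rcases hd with hd | hd
    · exact hq' (hd.trans h1)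
    · exact hKq (hd.trans h4)
  -- `L`
  obtain ⟨L, ⟨hLK, hUL, ⟨b, hLq⟩⟩, hLmin⟩ : ∃ L : Subgroup G,
      (L ≤ K ∧ U ≤ Subgroup.normalizer (L : Set G) ∧ ∃ k, L.relIndex K = q ^ k) ∧
      ∀ L', L' ≤ L → (L' ≤ K ∧ U ≤ Subgroup.normalizer (L' : Set G) ∧
        ∃ k, L'.relIndex K = q ^ k) → L' = L := by
    have hex : ({L : Subgroup G | L ≤ K ∧ U ≤ Subgroup.normalizer (L : Set G) ∧
        ∃ k, L.relIndex K = q ^ k}).Nonempty :=
      ⟨K, le_rfl, hUK, 0, by rw [Subgroup.relIndex_self, pow_zero]⟩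
    obtain ⟨K, hK⟩ := (Set.toFinite {L : Subgroup G | L ≤ K ∧
      U ≤ Subgroup.normalizer (L : Set G) ∧ ∃ k, L.relIndex K = q ^ k}).exists_minimal hex
    exact ⟨K, hK.1, fun K' hle hK' => le_antisymm hle (hK.2 hK' hle)⟩
  have hLU : L ≤ U := hLK.trans hKU
  have hLQ : L ⊔ Q = K := by
    refine le_antisymm (sup_le hLK hQK) ?_
    rw [← Subgroup.relIndex_eq_one]
    have h1 : (L ⊔ Q).relIndex K ∣ q ^ b := hLq ▸ Subgroup.relIndex_dvd_of_le_left K le_sup_left
    have h2 : ¬ q ∣ (L ⊔ Q).relIndex K := hQidx le_sup_right (sup_le hLK hQK)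
    obtain ⟨j, -, hj⟩ := (Nat.dvd_prime_pow hq.out).1 h1
    rcases j with _ | j
    · rw [hj, pow_zero]
    · exfalso
      apply h2
      rw [hj]
      exact dvd_pow_self q (Nat.succ_ne_zero j)
  have htop : L ⊔ Q ⊔ P = U := by rw [hLQ, hKP]
  -- `D`
  obtain ⟨D, ⟨hDL, hUD, hDq⟩, hDmin⟩ : ∃ D : Subgroup G,
      (D ≤ L ∧ U ≤ Subgroup.normalizer (D : Set G) ∧ ¬ q ∣ D.relIndex L) ∧
      ∀ D', D' ≤ D → (D' ≤ L ∧ U ≤ Subgroup.normalizer (D' : Set G) ∧ ¬ q ∣ D'.relIndex L) →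
        D' = D := by
    have hex : ({D : Subgroup G | D ≤ L ∧ U ≤ Subgroup.normalizer (D : Set G) ∧
        ¬ q ∣ D.relIndex L}).Nonempty :=
      ⟨L, le_rfl, hUL, by
        rw [Subgroup.relIndex_self]
        exact fun hd => hq.out.one_lt.ne' (Nat.dvd_one.1 hd)⟩
    obtain ⟨K, hK⟩ := (Set.toFinite {D : Subgroup G | D ≤ L ∧
      U ≤ Subgroup.normalizer (D : Set G) ∧ ¬ q ∣ D.relIndex L}).exists_minimal hex
    exact ⟨K, hK.1, fun K' hle hK' => le_antisymm hle (hK.2 hK' hle)⟩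
  by_cases hDLe : D = L
  · -- `L = 1`
    have hL1 : L = ⊥ := by
      by_contra hne
      obtain ⟨L', hL', hnL', hstep⟩ := exists_step hsolv hne
      have hUL' : U ≤ Subgroup.normalizer (L' : Set G) := hUL.trans hnL'
      rcases hstep with ⟨k, hk⟩ | hk
      · have h1 := hLmin L' hL'.le ⟨hL'.le.trans hLK, hUL', k + b, by
          rw [← Subgroup.relIndex_mul_relIndex _ _ _ hL'.le hLK, hk, hLq, pow_add]⟩
        exact hL'.ne h1
      · subst hDLe
        have h1 := hDmin L' hL'.le ⟨hL'.le, hUL', hk⟩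
        exact hL'.ne h1
    rw [hL1, bot_sup_eq] at htop
    exact h.step_bot hPU hQU htop hχ hχp
  have hDU : D ≤ U := hDL.trans hLU
  -- `X = D P Q`
  let X : Subgroup G := (Q ⊔ P) ⊔ D
  have hXU : X ≤ U := sup_le (sup_le hQU hPU) hDU
  have hQX : Q ≤ X := le_sup_left.trans le_sup_left
  have hPX : P ≤ X := le_sup_right.trans le_sup_left
  have hDX : D ≤ X := le_sup_right
  have hXne : X ≠ U := by
    intro hXe
    have h1 : Q ⊔ D ≤ K := sup_le hQK (hDL.trans hLK)
    have h2 : U ≤ Subgroup.normalizer ((Q ⊔ D : Subgroup G) : Set G) := by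
      rw [← hXe]
      refine sup_le (sup_le (le_sup_left.trans Subgroup.le_normalizer) ?_)
        (le_sup_right.trans Subgroup.le_normalizer)
      exact le_trans (le_inf h.PQ (hPU.trans hUD))
        (Subgroup.normalizer_inf_normalizer_le_normalizer_sup Q D)
    have h3 := hKmin (Q ⊔ D) h1 ⟨sup_le hQU hDU, h2, hQidx le_sup_left (sup_le hQU hDU)⟩
    -- `|L : D|` is a power of `q`
    have h4 : D.relIndex L ∣ Nat.card Q := by
      have h5 : D.relIndex L ∣ D.relIndex K := Dvd.intro _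
        (Subgroup.relIndex_mul_relIndex _ _ _ hDL hLK)
      rw [← h3, sup_comm, relIndex_sup_of_le_normalizer (hQU.trans hUD)] at h5
      exact h5.trans (Subgroup.relIndex_dvd_card _ _)
    obtain ⟨k, hk⟩ := IsPGroup.iff_card.1 h.qQ
    rw [hk] at h4
    obtain ⟨j, -, hj⟩ := (Nat.dvd_prime_pow hq.out).1 h4
    rcases j with _ | j
    · rw [pow_zero, Subgroup.relIndex_eq_one] at hj
      exact hDLe (le_antisymm hDL hj)
    · apply hDq
      rw [hj]
      exact dvd_pow_self q (Nat.succ_ne_zero j)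
  -- `ψ`
  let V : Subgroup G := D ⊔ P
  have hVU : V ≤ U := sup_le hDU hPU
  have hVX : V ≤ X := sup_le hDX hPX
  obtain ⟨ψ, hψ, hoψ, hdψ⟩ := exists_under_not_dvd (Subgroup.inclusion hVU) hχ hχp
  obtain ⟨ζ, hζ, hoζ, hdζ⟩ := exists_over_incl_not_dvd hVX (p := p) (by
    intro hd
    have h1 : V.relIndex X ∣ P.relIndex X := Subgroup.relIndex_dvd_of_le_left X le_sup_right
    exact h.sP ((hd.trans h1).trans (Subgroup.relIndex_dvd_index_of_le hPX))) hψ hdψ
  have hζq := ih' X hXU hXne hPX hQX ζ hζ hdζ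
  obtain ⟨δ, hδ, hoδ⟩ := exists_under (f := Subgroup.inclusion (le_sup_left : D ≤ V)) hψ
  have hδχ : Over (Subgroup.inclusion hDU) χ δ :=
    (over_comp_iff (Subgroup.inclusion hVU) (Subgroup.inclusion (le_sup_left : D ≤ V))
      (isIrr_isCharacter hχ) hδ).2 ⟨ψ, hψ, hoψ, hoδ⟩
  have hδζ : Over (Subgroup.inclusion hDX) ζ δ :=
    (over_comp_iff (Subgroup.inclusion hVX) (Subgroup.inclusion (le_sup_left : D ≤ V))
      (isIrr_isCharacter hζ) hδ).2 ⟨ψ, hψ, hoζ, hoδ⟩
  have hXD : X ≤ Subgroup.normalizer (D : Set G) := hXU.trans hUD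
  have hdeg : charDegree δ = charDegree ζ := by
    obtain ⟨h1, h2⟩ := div_dvd_of_over hDX hXD hζ hδ hδζ
    have h3 : D.relIndex X ∣ Nat.card Q * Nat.card P := by
      have h4 : D.relIndex X = D.relIndex (Q ⊔ P) := by
        show D.relIndex ((Q ⊔ P) ⊔ D) = _
        rw [sup_comm, relIndex_sup_of_le_normalizer (sup_le (hQU.trans hUD) (hPU.trans hUD))]
      rw [h4]
      exact (Subgroup.relIndex_dvd_card _ _).trans (card_sup_dvd h.PQ)
    obtain ⟨a, ha⟩ := IsPGroup.iff_card.1 h.qQ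
    obtain ⟨c, hc⟩ := IsPGroup.iff_card.1 h.pP
    rw [ha, hc] at h3
    have h5 : charDegree ζ / charDegree δ ∣ charDegree ζ := Nat.div_dvd_of_dvd h1
    have h6 := eq_one_of_dvd_pow_mul (h2.trans h3) (fun hd => hdζ (hd.trans h5))
      (fun hd => hζq (hd.trans h5))
    have h7 := Nat.mul_div_cancel' h1
    rw [h6, mul_one] at h7
    exact h7
  have hres : ζ ∘ Subgroup.inclusion hDX = δ := eq_of_over_of_charDegree_eq hζ hδ hδζ hdeg
  have hXδ : X ≤ stab δ := by
    intro x hx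
    rw [mem_stab_iff_inv (hXD hx)]
    intro d d' hdd
    have h1 := isIrr_isClassFunction hζ (Subgroup.inclusion hDX d) ⟨x, hx⟩
    have h2 : (⟨x, hx⟩ : X) * Subgroup.inclusion hDX d * (⟨x, hx⟩ : X)⁻¹ =
        Subgroup.inclusion hDX d' := Subtype.ext hdd.symm
    rw [h2] at h1
    rw [← hres]
    exact h1
  have hδq : ¬ q ∣ charDegree δ := by rw [hdeg]; exact hζq
  by_cases hT : U ≤ stab δ
  · -- invariant case
    have hQDX : Q ⊔ D ≤ X := sup_le hQX hDX
    let ζ' : (Q ⊔ D : Subgroup G) → ℂ := fun y => ζ (Subgroup.inclusion hQDX y)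
    have hζ'δ : ∀ d : D, ζ' (Subgroup.inclusion le_sup_right d) = δ d := fun d => by
      rw [← hres]
      rfl
    have hζ' : IsIrrCharacter _ ζ' := by
      refine Cfsg.Agent.H595.Triple.isIrr_of_comp (Subgroup.inclusion (le_sup_right : D ≤ Q ⊔ D))
        (isCharacter_comp (Subgroup.inclusion hQDX) (isIrr_isCharacter hζ)) ?_
      have h1 : ζ' ∘ Subgroup.inclusion (le_sup_right : D ≤ Q ⊔ D) = δ := funext hζ'δ
      exact h1 ▸ hδ
    exact h.step_trip hPU hQU hLU hDL hUD hUL hDq htop hδ hT hδq hζ' hζ'δ hχ hδχ hχp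
  · -- Clifford correspondence
    let T : Subgroup G := U ⊓ stab δ
    have hI : Inert D T U δ := ⟨hDU, hUD, hδ, rfl⟩
    obtain ⟨η, hη, -, -, hdη⟩ := hI.exists_eta hχ hδχ
    have hTne : T ≠ U := fun hTU => hT (by rw [← hTU]; exact inf_le_right)
    have hPT : P ≤ T := le_inf hPU (hPX.trans hXδ)
    have hQT : Q ≤ T := le_inf hQU (hQX.trans hXδ)
    have h1 := ih' T inf_le_left hTne hPT hQT η hη (fun hd => hχp (by
      rw [hdη]; exact hd.mul_left _))
    rw [hdη, hq.out.dvd_mul]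
    rintro (hd | hd)
    · exact hQidx hQT inf_le_left hd
    · exact h1 hd

end

/-- **S4981, (B) implies (A).** -/
theorem condA_of_condB {G : Type u} [Group G] [Finite G] {p q : ℕ} [hp : Fact p.Prime]
    [hq : Fact q.Prime] (hpq : p ≠ q) (hsolv : IsPSolvable q G)
    (h : Cfsg.Agent.H54.PQ.CondB p q G) : Cfsg.Agent.H54.PQ.CondA p q G := by
  obtain ⟨P, Q, hN, hC⟩ := h
  intro χ hχp
  have hyp : Hyp p q (P : Subgroup G) (Q : Subgroup G) :=
    ⟨hpq, P.2, P.not_dvd_index, Q.2, Q.not_dvd_index, hN, hC⟩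
  have e : (⊤ : Subgroup G) ≃* G := Subgroup.topEquiv
  have h1 := hyp.main hsolv _ ⊤ rfl le_top le_top ((χ : G → ℂ) ∘ Subgroup.topEquiv)
    (isIrr_comp (Subgroup.topEquiv (G := G)).toMonoidHom (Subgroup.topEquiv (G := G)).surjective
      χ.2)
  have h2 : charDegree ((χ : G → ℂ) ∘ (Subgroup.topEquiv : (⊤ : Subgroup G) ≃* G)) =
      charDegree (χ : G → ℂ) := charDegree_congr_one (by rw [Function.comp_apply, map_one])
  rw [h2] at h1
  exact h1 hχp

end Cfsg.Agent.H723.QD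
end

-- part: H723/QD/Bwd
section
/-!
# S4981: the direction (B) ⇒ (A), in the form of the plan
-/

namespace Cfsg.Agent.H54.PQ

open Cfsg

universe u

theorem bwd {p q : ℕ} [Fact p.Prime] [Fact q.Prime] (hpq : p ≠ q) {G : Type u} [Group G] [Finite G]
    (hs : IsPSolvable q G) (hB : CondB p q G) : CondA p q G :=
  Cfsg.Agent.H723.QD.condA_of_condB hpq hs hB

end Cfsg.Agent.H54.PQ
end
end
end
end
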